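import Cfsg.Agent.Lib.Helper2.HNMult.P5.Cert
set_option autoImplicit false
set_option maxRecDepth 100000

/-! # The exponent matrix of the normalising relations, with its adjugate -/

namespace Cfsg.Agent.Lib.Helper2.HNMult.P5
open Cfsg.Agent.Lib.Helper1.StemSA Cfsg.Agent.Lib.Helper4.Sparse

/-- the exponent matrix of the first 7 relations -/
def Em : ℕ → ℕ → ℤ := matOfRows
  [[0, 0, 6, 0, 0, 0, 0],
   [0, 0, 0, 0, 2, 0, 0],
   [2, 0, 0, 0, 2, 0, 0],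
   [1, 1, 0, 0, 0, 3, 0],
   [1, 1, 0, 0, 0, 0, 0],
   [0, 0, 1, 1, 0, 0, 0],
   [0, 0, 0, 0, 0, 1, 1]]

/-- its adjugate -/
def Fm : ℕ → ℕ → ℤ := matOfRows
  [[0, 36, -36, 0, 0, 0, 0],
   [0, -36, 36, 0, -72, 0, 0],
   [-12, 0, 0, 0, 0, 0, 0],
   [12, 0, 0, 0, 0, -72, 0],
   [0, -36, 0, 0, 0, 0, 0],
   [0, 0, 0, -24, 24, 0, 0],
   [0, 0, 0, 24, -24, 0, -72]]

theorem hEm : ∀ r < D.k, ∀ g < D.k, Em r g = ((D.rels.getD r ([], [])).1.count g : ℤ) -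
    ((D.rels.getD r ([], [])).2.count g : ℤ) := by
  show ∀ r < 7, ∀ g < 7, Em r g = ((rels.getD r ([], [])).1.count g : ℤ) -
    ((rels.getD r ([], [])).2.count g : ℤ)
  decide

theorem hEF : ∀ r < D.k, ∀ j < D.k,
    ∑ g ∈ Finset.range D.k, Em r g * Fm g j = if r = j then (-72 : ℤ) else 0 := by
  show ∀ r < 7, ∀ j < 7,
    ∑ g ∈ Finset.range 7, Em r g * Fm g j = if r = j then (-72 : ℤ) else 0
  decide

theorem hDt : IsCoprime (-72 : ℤ) ((5 : ℕ) : ℤ) := by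
  rw [Int.isCoprime_iff_gcd_eq_one]
  rfl

theorem hkr : D.k ≤ D.rels.length := by
  show 7 ≤ rels.length
  decide

end Cfsg.Agent.Lib.Helper2.HNMult.P5
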