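import Cfsg.Agent.Lib.Helper2.HNMult.P5.Cert
set_option autoImplicit false
set_option maxRecDepth 1000000
set_option Elab.async false
namespace Cfsg.Agent.Lib.Helper2.HNMult.P5
open Cfsg.Agent.Lib.Helper4.Sparse Cfsg.Agent.Lib.Helper2.SparseF
theorem ck_24 : chkURangeF D C relF 796 1237356000 49152 2048 = true := by decide +kernel
theorem ck_25 : chkURangeF D C relF 796 1237356000 51200 2048 = true := by decide +kernel
theorem ck_26 : chkURangeF D C relF 796 1237356000 53248 2048 = true := by decide +kernel
theorem ck_27 : chkURangeF D C relF 796 1237356000 55296 2048 = true := by decide +kernel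
theorem ck_28 : chkURangeF D C relF 796 1237356000 57344 2048 = true := by decide +kernel
theorem ck_29 : chkURangeF D C relF 796 1237356000 59392 2048 = true := by decide +kernel
theorem ck_30 : chkURangeF D C relF 796 1237356000 61440 2048 = true := by decide +kernel
theorem ck_31 : chkURangeF D C relF 796 1237356000 63488 2048 = true := by decide +kernel
theorem ck_32 : chkURangeF D C relF 796 1237356000 65536 2048 = true := by decide +kernel
theorem ck_33 : chkURangeF D C relF 796 1237356000 67584 2048 = true := by decide +kernel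
theorem ck_34 : chkURangeF D C relF 796 1237356000 69632 2048 = true := by decide +kernel
theorem ck_35 : chkURangeF D C relF 796 1237356000 71680 2048 = true := by decide +kernel
theorem ck_36 : chkURangeF D C relF 796 1237356000 73728 2048 = true := by decide +kernel
theorem ck_37 : chkURangeF D C relF 796 1237356000 75776 2048 = true := by decide +kernel
theorem ck_38 : chkURangeF D C relF 796 1237356000 77824 2048 = true := by decide +kernel
theorem ck_39 : chkURangeF D C relF 796 1237356000 79872 2048 = true := by decide +kernel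
theorem ck_40 : chkURangeF D C relF 796 1237356000 81920 2048 = true := by decide +kernel
theorem ck_41 : chkURangeF D C relF 796 1237356000 83968 2048 = true := by decide +kernel
theorem ck_42 : chkURangeF D C relF 796 1237356000 86016 2048 = true := by decide +kernel
theorem ck_43 : chkURangeF D C relF 796 1237356000 88064 2048 = true := by decide +kernel
theorem ck_44 : chkURangeF D C relF 796 1237356000 90112 2048 = true := by decide +kernel
theorem ck_45 : chkURangeF D C relF 796 1237356000 92160 2048 = true := by decide +kernel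
theorem ck_46 : chkURangeF D C relF 796 1237356000 94208 2048 = true := by decide +kernel
theorem ck_47 : chkURangeF D C relF 796 1237356000 96256 2048 = true := by decide +kernel
theorem chkU_1 (b : ℕ) (h1 : 49152 ≤ b) (h2 : b < 98304) : chkU D C b = true := by
  rcases Nat.lt_or_ge b 51200 with g0 | g0
  · exact chkURangeF_spec C relF_hyp 1237356000 tc_eq 49152 2048 ck_24 b (by omega) (by omega)
  rcases Nat.lt_or_ge b 53248 with g1 | g1
  · exact chkURangeF_spec C relF_hyp 1237356000 tc_eq 51200 2048 ck_25 b (by omega) (by omega)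
  rcases Nat.lt_or_ge b 55296 with g2 | g2
  · exact chkURangeF_spec C relF_hyp 1237356000 tc_eq 53248 2048 ck_26 b (by omega) (by omega)
  rcases Nat.lt_or_ge b 57344 with g3 | g3
  · exact chkURangeF_spec C relF_hyp 1237356000 tc_eq 55296 2048 ck_27 b (by omega) (by omega)
  rcases Nat.lt_or_ge b 59392 with g4 | g4
  · exact chkURangeF_spec C relF_hyp 1237356000 tc_eq 57344 2048 ck_28 b (by omega) (by omega)
  rcases Nat.lt_or_ge b 61440 with g5 | g5
  · exact chkURangeF_spec C relF_hyp 1237356000 tc_eq 59392 2048 ck_29 b (by omega) (by omega)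
  rcases Nat.lt_or_ge b 63488 with g6 | g6
  · exact chkURangeF_spec C relF_hyp 1237356000 tc_eq 61440 2048 ck_30 b (by omega) (by omega)
  rcases Nat.lt_or_ge b 65536 with g7 | g7
  · exact chkURangeF_spec C relF_hyp 1237356000 tc_eq 63488 2048 ck_31 b (by omega) (by omega)
  rcases Nat.lt_or_ge b 67584 with g8 | g8
  · exact chkURangeF_spec C relF_hyp 1237356000 tc_eq 65536 2048 ck_32 b (by omega) (by omega)
  rcases Nat.lt_or_ge b 69632 with g9 | g9
  · exact chkURangeF_spec C relF_hyp 1237356000 tc_eq 67584 2048 ck_33 b (by omega) (by omega)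
  rcases Nat.lt_or_ge b 71680 with g10 | g10
  · exact chkURangeF_spec C relF_hyp 1237356000 tc_eq 69632 2048 ck_34 b (by omega) (by omega)
  rcases Nat.lt_or_ge b 73728 with g11 | g11
  · exact chkURangeF_spec C relF_hyp 1237356000 tc_eq 71680 2048 ck_35 b (by omega) (by omega)
  rcases Nat.lt_or_ge b 75776 with g12 | g12
  · exact chkURangeF_spec C relF_hyp 1237356000 tc_eq 73728 2048 ck_36 b (by omega) (by omega)
  rcases Nat.lt_or_ge b 77824 with g13 | g13
  · exact chkURangeF_spec C relF_hyp 1237356000 tc_eq 75776 2048 ck_37 b (by omega) (by omega)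
  rcases Nat.lt_or_ge b 79872 with g14 | g14
  · exact chkURangeF_spec C relF_hyp 1237356000 tc_eq 77824 2048 ck_38 b (by omega) (by omega)
  rcases Nat.lt_or_ge b 81920 with g15 | g15
  · exact chkURangeF_spec C relF_hyp 1237356000 tc_eq 79872 2048 ck_39 b (by omega) (by omega)
  rcases Nat.lt_or_ge b 83968 with g16 | g16
  · exact chkURangeF_spec C relF_hyp 1237356000 tc_eq 81920 2048 ck_40 b (by omega) (by omega)
  rcases Nat.lt_or_ge b 86016 with g17 | g17
  · exact chkURangeF_spec C relF_hyp 1237356000 tc_eq 83968 2048 ck_41 b (by omega) (by omega)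
  rcases Nat.lt_or_ge b 88064 with g18 | g18
  · exact chkURangeF_spec C relF_hyp 1237356000 tc_eq 86016 2048 ck_42 b (by omega) (by omega)
  rcases Nat.lt_or_ge b 90112 with g19 | g19
  · exact chkURangeF_spec C relF_hyp 1237356000 tc_eq 88064 2048 ck_43 b (by omega) (by omega)
  rcases Nat.lt_or_ge b 92160 with g20 | g20
  · exact chkURangeF_spec C relF_hyp 1237356000 tc_eq 90112 2048 ck_44 b (by omega) (by omega)
  rcases Nat.lt_or_ge b 94208 with g21 | g21
  · exact chkURangeF_spec C relF_hyp 1237356000 tc_eq 92160 2048 ck_45 b (by omega) (by omega)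
  rcases Nat.lt_or_ge b 96256 with g22 | g22
  · exact chkURangeF_spec C relF_hyp 1237356000 tc_eq 94208 2048 ck_46 b (by omega) (by omega)
  exact chkURangeF_spec C relF_hyp 1237356000 tc_eq 96256 2048 ck_47 b (by omega) (by omega)
end Cfsg.Agent.Lib.Helper2.HNMult.P5
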