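import Cfsg.Agent.Lib.Helper2.HNMult.P5.Cert
set_option autoImplicit false
set_option maxRecDepth 1000000
set_option Elab.async false
namespace Cfsg.Agent.Lib.Helper2.HNMult.P5
open Cfsg.Agent.Lib.Helper4.Sparse Cfsg.Agent.Lib.Helper2.SparseF
theorem ck_2400 : chkURangeF D C relF 796 1237356000 4915200 2048 = true := by decide +kernel
theorem ck_2401 : chkURangeF D C relF 796 1237356000 4917248 2048 = true := by decide +kernel
theorem ck_2402 : chkURangeF D C relF 796 1237356000 4919296 2048 = true := by decide +kernel
theorem ck_2403 : chkURangeF D C relF 796 1237356000 4921344 2048 = true := by decide +kernel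
theorem ck_2404 : chkURangeF D C relF 796 1237356000 4923392 2048 = true := by decide +kernel
theorem ck_2405 : chkURangeF D C relF 796 1237356000 4925440 2048 = true := by decide +kernel
theorem ck_2406 : chkURangeF D C relF 796 1237356000 4927488 2048 = true := by decide +kernel
theorem ck_2407 : chkURangeF D C relF 796 1237356000 4929536 2048 = true := by decide +kernel
theorem ck_2408 : chkURangeF D C relF 796 1237356000 4931584 2048 = true := by decide +kernel
theorem ck_2409 : chkURangeF D C relF 796 1237356000 4933632 2048 = true := by decide +kernel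
theorem ck_2410 : chkURangeF D C relF 796 1237356000 4935680 2048 = true := by decide +kernel
theorem ck_2411 : chkURangeF D C relF 796 1237356000 4937728 2048 = true := by decide +kernel
theorem ck_2412 : chkURangeF D C relF 796 1237356000 4939776 2048 = true := by decide +kernel
theorem ck_2413 : chkURangeF D C relF 796 1237356000 4941824 2048 = true := by decide +kernel
theorem ck_2414 : chkURangeF D C relF 796 1237356000 4943872 2048 = true := by decide +kernel
theorem ck_2415 : chkURangeF D C relF 796 1237356000 4945920 2048 = true := by decide +kernel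
theorem ck_2416 : chkURangeF D C relF 796 1237356000 4947968 2048 = true := by decide +kernel
theorem ck_2417 : chkURangeF D C relF 796 1237356000 4950016 2048 = true := by decide +kernel
theorem ck_2418 : chkURangeF D C relF 796 1237356000 4952064 2048 = true := by decide +kernel
theorem ck_2419 : chkURangeF D C relF 796 1237356000 4954112 2048 = true := by decide +kernel
theorem ck_2420 : chkURangeF D C relF 796 1237356000 4956160 2048 = true := by decide +kernel
theorem ck_2421 : chkURangeF D C relF 796 1237356000 4958208 2048 = true := by decide +kernel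
theorem ck_2422 : chkURangeF D C relF 796 1237356000 4960256 2048 = true := by decide +kernel
theorem ck_2423 : chkURangeF D C relF 796 1237356000 4962304 2048 = true := by decide +kernel
theorem chkU_100 (b : ℕ) (h1 : 4915200 ≤ b) (h2 : b < 4964352) : chkU D C b = true := by
  rcases Nat.lt_or_ge b 4917248 with g0 | g0
  · exact chkURangeF_spec C relF_hyp 1237356000 tc_eq 4915200 2048 ck_2400 b (by omega) (by omega)
  rcases Nat.lt_or_ge b 4919296 with g1 | g1
  · exact chkURangeF_spec C relF_hyp 1237356000 tc_eq 4917248 2048 ck_2401 b (by omega) (by omega)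
  rcases Nat.lt_or_ge b 4921344 with g2 | g2
  · exact chkURangeF_spec C relF_hyp 1237356000 tc_eq 4919296 2048 ck_2402 b (by omega) (by omega)
  rcases Nat.lt_or_ge b 4923392 with g3 | g3
  · exact chkURangeF_spec C relF_hyp 1237356000 tc_eq 4921344 2048 ck_2403 b (by omega) (by omega)
  rcases Nat.lt_or_ge b 4925440 with g4 | g4
  · exact chkURangeF_spec C relF_hyp 1237356000 tc_eq 4923392 2048 ck_2404 b (by omega) (by omega)
  rcases Nat.lt_or_ge b 4927488 with g5 | g5
  · exact chkURangeF_spec C relF_hyp 1237356000 tc_eq 4925440 2048 ck_2405 b (by omega) (by omega)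
  rcases Nat.lt_or_ge b 4929536 with g6 | g6
  · exact chkURangeF_spec C relF_hyp 1237356000 tc_eq 4927488 2048 ck_2406 b (by omega) (by omega)
  rcases Nat.lt_or_ge b 4931584 with g7 | g7
  · exact chkURangeF_spec C relF_hyp 1237356000 tc_eq 4929536 2048 ck_2407 b (by omega) (by omega)
  rcases Nat.lt_or_ge b 4933632 with g8 | g8
  · exact chkURangeF_spec C relF_hyp 1237356000 tc_eq 4931584 2048 ck_2408 b (by omega) (by omega)
  rcases Nat.lt_or_ge b 4935680 with g9 | g9
  · exact chkURangeF_spec C relF_hyp 1237356000 tc_eq 4933632 2048 ck_2409 b (by omega) (by omega)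
  rcases Nat.lt_or_ge b 4937728 with g10 | g10
  · exact chkURangeF_spec C relF_hyp 1237356000 tc_eq 4935680 2048 ck_2410 b (by omega) (by omega)
  rcases Nat.lt_or_ge b 4939776 with g11 | g11
  · exact chkURangeF_spec C relF_hyp 1237356000 tc_eq 4937728 2048 ck_2411 b (by omega) (by omega)
  rcases Nat.lt_or_ge b 4941824 with g12 | g12
  · exact chkURangeF_spec C relF_hyp 1237356000 tc_eq 4939776 2048 ck_2412 b (by omega) (by omega)
  rcases Nat.lt_or_ge b 4943872 with g13 | g13
  · exact chkURangeF_spec C relF_hyp 1237356000 tc_eq 4941824 2048 ck_2413 b (by omega) (by omega)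
  rcases Nat.lt_or_ge b 4945920 with g14 | g14
  · exact chkURangeF_spec C relF_hyp 1237356000 tc_eq 4943872 2048 ck_2414 b (by omega) (by omega)
  rcases Nat.lt_or_ge b 4947968 with g15 | g15
  · exact chkURangeF_spec C relF_hyp 1237356000 tc_eq 4945920 2048 ck_2415 b (by omega) (by omega)
  rcases Nat.lt_or_ge b 4950016 with g16 | g16
  · exact chkURangeF_spec C relF_hyp 1237356000 tc_eq 4947968 2048 ck_2416 b (by omega) (by omega)
  rcases Nat.lt_or_ge b 4952064 with g17 | g17
  · exact chkURangeF_spec C relF_hyp 1237356000 tc_eq 4950016 2048 ck_2417 b (by omega) (by omega)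
  rcases Nat.lt_or_ge b 4954112 with g18 | g18
  · exact chkURangeF_spec C relF_hyp 1237356000 tc_eq 4952064 2048 ck_2418 b (by omega) (by omega)
  rcases Nat.lt_or_ge b 4956160 with g19 | g19
  · exact chkURangeF_spec C relF_hyp 1237356000 tc_eq 4954112 2048 ck_2419 b (by omega) (by omega)
  rcases Nat.lt_or_ge b 4958208 with g20 | g20
  · exact chkURangeF_spec C relF_hyp 1237356000 tc_eq 4956160 2048 ck_2420 b (by omega) (by omega)
  rcases Nat.lt_or_ge b 4960256 with g21 | g21
  · exact chkURangeF_spec C relF_hyp 1237356000 tc_eq 4958208 2048 ck_2421 b (by omega) (by omega)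
  rcases Nat.lt_or_ge b 4962304 with g22 | g22
  · exact chkURangeF_spec C relF_hyp 1237356000 tc_eq 4960256 2048 ck_2422 b (by omega) (by omega)
  exact chkURangeF_spec C relF_hyp 1237356000 tc_eq 4962304 2048 ck_2423 b (by omega) (by omega)
end Cfsg.Agent.Lib.Helper2.HNMult.P5
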