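import Cfsg.Agent.Lib.Helper2.HNMult.P5.Cert
set_option autoImplicit false
set_option maxRecDepth 1000000
set_option Elab.async false
namespace Cfsg.Agent.Lib.Helper2.HNMult.P5
open Cfsg.Agent.Lib.Helper4.Sparse Cfsg.Agent.Lib.Helper2.SparseF
theorem ck_2472 : chkURangeF D C relF 796 1237356000 5062656 2048 = true := by decide +kernel
theorem ck_2473 : chkURangeF D C relF 796 1237356000 5064704 2048 = true := by decide +kernel
theorem ck_2474 : chkURangeF D C relF 796 1237356000 5066752 2048 = true := by decide +kernel
theorem ck_2475 : chkURangeF D C relF 796 1237356000 5068800 2048 = true := by decide +kernel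
theorem ck_2476 : chkURangeF D C relF 796 1237356000 5070848 2048 = true := by decide +kernel
theorem ck_2477 : chkURangeF D C relF 796 1237356000 5072896 2048 = true := by decide +kernel
theorem ck_2478 : chkURangeF D C relF 796 1237356000 5074944 2048 = true := by decide +kernel
theorem ck_2479 : chkURangeF D C relF 796 1237356000 5076992 2048 = true := by decide +kernel
theorem ck_2480 : chkURangeF D C relF 796 1237356000 5079040 2048 = true := by decide +kernel
theorem ck_2481 : chkURangeF D C relF 796 1237356000 5081088 2048 = true := by decide +kernel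
theorem ck_2482 : chkURangeF D C relF 796 1237356000 5083136 2048 = true := by decide +kernel
theorem ck_2483 : chkURangeF D C relF 796 1237356000 5085184 2048 = true := by decide +kernel
theorem ck_2484 : chkURangeF D C relF 796 1237356000 5087232 2048 = true := by decide +kernel
theorem ck_2485 : chkURangeF D C relF 796 1237356000 5089280 2048 = true := by decide +kernel
theorem ck_2486 : chkURangeF D C relF 796 1237356000 5091328 2048 = true := by decide +kernel
theorem ck_2487 : chkURangeF D C relF 796 1237356000 5093376 2048 = true := by decide +kernel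
theorem ck_2488 : chkURangeF D C relF 796 1237356000 5095424 2048 = true := by decide +kernel
theorem ck_2489 : chkURangeF D C relF 796 1237356000 5097472 2048 = true := by decide +kernel
theorem ck_2490 : chkURangeF D C relF 796 1237356000 5099520 2048 = true := by decide +kernel
theorem ck_2491 : chkURangeF D C relF 796 1237356000 5101568 2048 = true := by decide +kernel
theorem ck_2492 : chkURangeF D C relF 796 1237356000 5103616 2048 = true := by decide +kernel
theorem ck_2493 : chkURangeF D C relF 796 1237356000 5105664 2048 = true := by decide +kernel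
theorem ck_2494 : chkURangeF D C relF 796 1237356000 5107712 2048 = true := by decide +kernel
theorem ck_2495 : chkURangeF D C relF 796 1237356000 5109760 2048 = true := by decide +kernel
theorem chkU_103 (b : ℕ) (h1 : 5062656 ≤ b) (h2 : b < 5111808) : chkU D C b = true := by
  rcases Nat.lt_or_ge b 5064704 with g0 | g0
  · exact chkURangeF_spec C relF_hyp 1237356000 tc_eq 5062656 2048 ck_2472 b (by omega) (by omega)
  rcases Nat.lt_or_ge b 5066752 with g1 | g1
  · exact chkURangeF_spec C relF_hyp 1237356000 tc_eq 5064704 2048 ck_2473 b (by omega) (by omega)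
  rcases Nat.lt_or_ge b 5068800 with g2 | g2
  · exact chkURangeF_spec C relF_hyp 1237356000 tc_eq 5066752 2048 ck_2474 b (by omega) (by omega)
  rcases Nat.lt_or_ge b 5070848 with g3 | g3
  · exact chkURangeF_spec C relF_hyp 1237356000 tc_eq 5068800 2048 ck_2475 b (by omega) (by omega)
  rcases Nat.lt_or_ge b 5072896 with g4 | g4
  · exact chkURangeF_spec C relF_hyp 1237356000 tc_eq 5070848 2048 ck_2476 b (by omega) (by omega)
  rcases Nat.lt_or_ge b 5074944 with g5 | g5
  · exact chkURangeF_spec C relF_hyp 1237356000 tc_eq 5072896 2048 ck_2477 b (by omega) (by omega)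
  rcases Nat.lt_or_ge b 5076992 with g6 | g6
  · exact chkURangeF_spec C relF_hyp 1237356000 tc_eq 5074944 2048 ck_2478 b (by omega) (by omega)
  rcases Nat.lt_or_ge b 5079040 with g7 | g7
  · exact chkURangeF_spec C relF_hyp 1237356000 tc_eq 5076992 2048 ck_2479 b (by omega) (by omega)
  rcases Nat.lt_or_ge b 5081088 with g8 | g8
  · exact chkURangeF_spec C relF_hyp 1237356000 tc_eq 5079040 2048 ck_2480 b (by omega) (by omega)
  rcases Nat.lt_or_ge b 5083136 with g9 | g9
  · exact chkURangeF_spec C relF_hyp 1237356000 tc_eq 5081088 2048 ck_2481 b (by omega) (by omega)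
  rcases Nat.lt_or_ge b 5085184 with g10 | g10
  · exact chkURangeF_spec C relF_hyp 1237356000 tc_eq 5083136 2048 ck_2482 b (by omega) (by omega)
  rcases Nat.lt_or_ge b 5087232 with g11 | g11
  · exact chkURangeF_spec C relF_hyp 1237356000 tc_eq 5085184 2048 ck_2483 b (by omega) (by omega)
  rcases Nat.lt_or_ge b 5089280 with g12 | g12
  · exact chkURangeF_spec C relF_hyp 1237356000 tc_eq 5087232 2048 ck_2484 b (by omega) (by omega)
  rcases Nat.lt_or_ge b 5091328 with g13 | g13
  · exact chkURangeF_spec C relF_hyp 1237356000 tc_eq 5089280 2048 ck_2485 b (by omega) (by omega)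
  rcases Nat.lt_or_ge b 5093376 with g14 | g14
  · exact chkURangeF_spec C relF_hyp 1237356000 tc_eq 5091328 2048 ck_2486 b (by omega) (by omega)
  rcases Nat.lt_or_ge b 5095424 with g15 | g15
  · exact chkURangeF_spec C relF_hyp 1237356000 tc_eq 5093376 2048 ck_2487 b (by omega) (by omega)
  rcases Nat.lt_or_ge b 5097472 with g16 | g16
  · exact chkURangeF_spec C relF_hyp 1237356000 tc_eq 5095424 2048 ck_2488 b (by omega) (by omega)
  rcases Nat.lt_or_ge b 5099520 with g17 | g17
  · exact chkURangeF_spec C relF_hyp 1237356000 tc_eq 5097472 2048 ck_2489 b (by omega) (by omega)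
  rcases Nat.lt_or_ge b 5101568 with g18 | g18
  · exact chkURangeF_spec C relF_hyp 1237356000 tc_eq 5099520 2048 ck_2490 b (by omega) (by omega)
  rcases Nat.lt_or_ge b 5103616 with g19 | g19
  · exact chkURangeF_spec C relF_hyp 1237356000 tc_eq 5101568 2048 ck_2491 b (by omega) (by omega)
  rcases Nat.lt_or_ge b 5105664 with g20 | g20
  · exact chkURangeF_spec C relF_hyp 1237356000 tc_eq 5103616 2048 ck_2492 b (by omega) (by omega)
  rcases Nat.lt_or_ge b 5107712 with g21 | g21
  · exact chkURangeF_spec C relF_hyp 1237356000 tc_eq 5105664 2048 ck_2493 b (by omega) (by omega)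
  rcases Nat.lt_or_ge b 5109760 with g22 | g22
  · exact chkURangeF_spec C relF_hyp 1237356000 tc_eq 5107712 2048 ck_2494 b (by omega) (by omega)
  exact chkURangeF_spec C relF_hyp 1237356000 tc_eq 5109760 2048 ck_2495 b (by omega) (by omega)
end Cfsg.Agent.Lib.Helper2.HNMult.P5
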