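import Cfsg.Agent.Lib.Helper2.HNMult.P5.Cert
set_option autoImplicit false
set_option maxRecDepth 1000000
set_option Elab.async false
namespace Cfsg.Agent.Lib.Helper2.HNMult.P5
open Cfsg.Agent.Lib.Helper4.Sparse Cfsg.Agent.Lib.Helper2.SparseF
theorem ck_2496 : chkURangeF D C relF 796 1237356000 5111808 2048 = true := by decide +kernel
theorem ck_2497 : chkURangeF D C relF 796 1237356000 5113856 2048 = true := by decide +kernel
theorem ck_2498 : chkURangeF D C relF 796 1237356000 5115904 2048 = true := by decide +kernel
theorem ck_2499 : chkURangeF D C relF 796 1237356000 5117952 2048 = true := by decide +kernel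
theorem ck_2500 : chkURangeF D C relF 796 1237356000 5120000 2048 = true := by decide +kernel
theorem ck_2501 : chkURangeF D C relF 796 1237356000 5122048 2048 = true := by decide +kernel
theorem ck_2502 : chkURangeF D C relF 796 1237356000 5124096 2048 = true := by decide +kernel
theorem ck_2503 : chkURangeF D C relF 796 1237356000 5126144 2048 = true := by decide +kernel
theorem ck_2504 : chkURangeF D C relF 796 1237356000 5128192 2048 = true := by decide +kernel
theorem ck_2505 : chkURangeF D C relF 796 1237356000 5130240 2048 = true := by decide +kernel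
theorem ck_2506 : chkURangeF D C relF 796 1237356000 5132288 2048 = true := by decide +kernel
theorem ck_2507 : chkURangeF D C relF 796 1237356000 5134336 2048 = true := by decide +kernel
theorem ck_2508 : chkURangeF D C relF 796 1237356000 5136384 2048 = true := by decide +kernel
theorem ck_2509 : chkURangeF D C relF 796 1237356000 5138432 2048 = true := by decide +kernel
theorem ck_2510 : chkURangeF D C relF 796 1237356000 5140480 2048 = true := by decide +kernel
theorem ck_2511 : chkURangeF D C relF 796 1237356000 5142528 2048 = true := by decide +kernel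
theorem ck_2512 : chkURangeF D C relF 796 1237356000 5144576 2048 = true := by decide +kernel
theorem ck_2513 : chkURangeF D C relF 796 1237356000 5146624 2048 = true := by decide +kernel
theorem ck_2514 : chkURangeF D C relF 796 1237356000 5148672 2048 = true := by decide +kernel
theorem ck_2515 : chkURangeF D C relF 796 1237356000 5150720 2048 = true := by decide +kernel
theorem ck_2516 : chkURangeF D C relF 796 1237356000 5152768 2048 = true := by decide +kernel
theorem ck_2517 : chkURangeF D C relF 796 1237356000 5154816 2048 = true := by decide +kernel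
theorem ck_2518 : chkURangeF D C relF 796 1237356000 5156864 2048 = true := by decide +kernel
theorem ck_2519 : chkURangeF D C relF 796 1237356000 5158912 2048 = true := by decide +kernel
theorem chkU_104 (b : ℕ) (h1 : 5111808 ≤ b) (h2 : b < 5160960) : chkU D C b = true := by
  rcases Nat.lt_or_ge b 5113856 with g0 | g0
  · exact chkURangeF_spec C relF_hyp 1237356000 tc_eq 5111808 2048 ck_2496 b (by omega) (by omega)
  rcases Nat.lt_or_ge b 5115904 with g1 | g1
  · exact chkURangeF_spec C relF_hyp 1237356000 tc_eq 5113856 2048 ck_2497 b (by omega) (by omega)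
  rcases Nat.lt_or_ge b 5117952 with g2 | g2
  · exact chkURangeF_spec C relF_hyp 1237356000 tc_eq 5115904 2048 ck_2498 b (by omega) (by omega)
  rcases Nat.lt_or_ge b 5120000 with g3 | g3
  · exact chkURangeF_spec C relF_hyp 1237356000 tc_eq 5117952 2048 ck_2499 b (by omega) (by omega)
  rcases Nat.lt_or_ge b 5122048 with g4 | g4
  · exact chkURangeF_spec C relF_hyp 1237356000 tc_eq 5120000 2048 ck_2500 b (by omega) (by omega)
  rcases Nat.lt_or_ge b 5124096 with g5 | g5
  · exact chkURangeF_spec C relF_hyp 1237356000 tc_eq 5122048 2048 ck_2501 b (by omega) (by omega)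
  rcases Nat.lt_or_ge b 5126144 with g6 | g6
  · exact chkURangeF_spec C relF_hyp 1237356000 tc_eq 5124096 2048 ck_2502 b (by omega) (by omega)
  rcases Nat.lt_or_ge b 5128192 with g7 | g7
  · exact chkURangeF_spec C relF_hyp 1237356000 tc_eq 5126144 2048 ck_2503 b (by omega) (by omega)
  rcases Nat.lt_or_ge b 5130240 with g8 | g8
  · exact chkURangeF_spec C relF_hyp 1237356000 tc_eq 5128192 2048 ck_2504 b (by omega) (by omega)
  rcases Nat.lt_or_ge b 5132288 with g9 | g9
  · exact chkURangeF_spec C relF_hyp 1237356000 tc_eq 5130240 2048 ck_2505 b (by omega) (by omega)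
  rcases Nat.lt_or_ge b 5134336 with g10 | g10
  · exact chkURangeF_spec C relF_hyp 1237356000 tc_eq 5132288 2048 ck_2506 b (by omega) (by omega)
  rcases Nat.lt_or_ge b 5136384 with g11 | g11
  · exact chkURangeF_spec C relF_hyp 1237356000 tc_eq 5134336 2048 ck_2507 b (by omega) (by omega)
  rcases Nat.lt_or_ge b 5138432 with g12 | g12
  · exact chkURangeF_spec C relF_hyp 1237356000 tc_eq 5136384 2048 ck_2508 b (by omega) (by omega)
  rcases Nat.lt_or_ge b 5140480 with g13 | g13
  · exact chkURangeF_spec C relF_hyp 1237356000 tc_eq 5138432 2048 ck_2509 b (by omega) (by omega)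
  rcases Nat.lt_or_ge b 5142528 with g14 | g14
  · exact chkURangeF_spec C relF_hyp 1237356000 tc_eq 5140480 2048 ck_2510 b (by omega) (by omega)
  rcases Nat.lt_or_ge b 5144576 with g15 | g15
  · exact chkURangeF_spec C relF_hyp 1237356000 tc_eq 5142528 2048 ck_2511 b (by omega) (by omega)
  rcases Nat.lt_or_ge b 5146624 with g16 | g16
  · exact chkURangeF_spec C relF_hyp 1237356000 tc_eq 5144576 2048 ck_2512 b (by omega) (by omega)
  rcases Nat.lt_or_ge b 5148672 with g17 | g17
  · exact chkURangeF_spec C relF_hyp 1237356000 tc_eq 5146624 2048 ck_2513 b (by omega) (by omega)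
  rcases Nat.lt_or_ge b 5150720 with g18 | g18
  · exact chkURangeF_spec C relF_hyp 1237356000 tc_eq 5148672 2048 ck_2514 b (by omega) (by omega)
  rcases Nat.lt_or_ge b 5152768 with g19 | g19
  · exact chkURangeF_spec C relF_hyp 1237356000 tc_eq 5150720 2048 ck_2515 b (by omega) (by omega)
  rcases Nat.lt_or_ge b 5154816 with g20 | g20
  · exact chkURangeF_spec C relF_hyp 1237356000 tc_eq 5152768 2048 ck_2516 b (by omega) (by omega)
  rcases Nat.lt_or_ge b 5156864 with g21 | g21
  · exact chkURangeF_spec C relF_hyp 1237356000 tc_eq 5154816 2048 ck_2517 b (by omega) (by omega)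
  rcases Nat.lt_or_ge b 5158912 with g22 | g22
  · exact chkURangeF_spec C relF_hyp 1237356000 tc_eq 5156864 2048 ck_2518 b (by omega) (by omega)
  exact chkURangeF_spec C relF_hyp 1237356000 tc_eq 5158912 2048 ck_2519 b (by omega) (by omega)
end Cfsg.Agent.Lib.Helper2.HNMult.P5
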