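import Cfsg.Agent.Lib.Helper2.HNMult.P5.Cert
set_option autoImplicit false
set_option maxRecDepth 1000000
set_option Elab.async false
namespace Cfsg.Agent.Lib.Helper2.HNMult.P5
open Cfsg.Agent.Lib.Helper4.Sparse Cfsg.Agent.Lib.Helper2.SparseF
theorem ck_2568 : chkURangeF D C relF 796 1237356000 5259264 2048 = true := by decide +kernel
theorem ck_2569 : chkURangeF D C relF 796 1237356000 5261312 2048 = true := by decide +kernel
theorem ck_2570 : chkURangeF D C relF 796 1237356000 5263360 2048 = true := by decide +kernel
theorem ck_2571 : chkURangeF D C relF 796 1237356000 5265408 2048 = true := by decide +kernel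
theorem ck_2572 : chkURangeF D C relF 796 1237356000 5267456 2048 = true := by decide +kernel
theorem ck_2573 : chkURangeF D C relF 796 1237356000 5269504 2048 = true := by decide +kernel
theorem ck_2574 : chkURangeF D C relF 796 1237356000 5271552 2048 = true := by decide +kernel
theorem ck_2575 : chkURangeF D C relF 796 1237356000 5273600 2048 = true := by decide +kernel
theorem ck_2576 : chkURangeF D C relF 796 1237356000 5275648 2048 = true := by decide +kernel
theorem ck_2577 : chkURangeF D C relF 796 1237356000 5277696 2048 = true := by decide +kernel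
theorem ck_2578 : chkURangeF D C relF 796 1237356000 5279744 2048 = true := by decide +kernel
theorem ck_2579 : chkURangeF D C relF 796 1237356000 5281792 2048 = true := by decide +kernel
theorem ck_2580 : chkURangeF D C relF 796 1237356000 5283840 2048 = true := by decide +kernel
theorem ck_2581 : chkURangeF D C relF 796 1237356000 5285888 2048 = true := by decide +kernel
theorem ck_2582 : chkURangeF D C relF 796 1237356000 5287936 2048 = true := by decide +kernel
theorem ck_2583 : chkURangeF D C relF 796 1237356000 5289984 2048 = true := by decide +kernel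
theorem ck_2584 : chkURangeF D C relF 796 1237356000 5292032 2048 = true := by decide +kernel
theorem ck_2585 : chkURangeF D C relF 796 1237356000 5294080 2048 = true := by decide +kernel
theorem ck_2586 : chkURangeF D C relF 796 1237356000 5296128 2048 = true := by decide +kernel
theorem ck_2587 : chkURangeF D C relF 796 1237356000 5298176 2048 = true := by decide +kernel
theorem ck_2588 : chkURangeF D C relF 796 1237356000 5300224 2048 = true := by decide +kernel
theorem ck_2589 : chkURangeF D C relF 796 1237356000 5302272 2048 = true := by decide +kernel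
theorem ck_2590 : chkURangeF D C relF 796 1237356000 5304320 2048 = true := by decide +kernel
theorem ck_2591 : chkURangeF D C relF 796 1237356000 5306368 2048 = true := by decide +kernel
theorem chkU_107 (b : ℕ) (h1 : 5259264 ≤ b) (h2 : b < 5308416) : chkU D C b = true := by
  rcases Nat.lt_or_ge b 5261312 with g0 | g0
  · exact chkURangeF_spec C relF_hyp 1237356000 tc_eq 5259264 2048 ck_2568 b (by omega) (by omega)
  rcases Nat.lt_or_ge b 5263360 with g1 | g1
  · exact chkURangeF_spec C relF_hyp 1237356000 tc_eq 5261312 2048 ck_2569 b (by omega) (by omega)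
  rcases Nat.lt_or_ge b 5265408 with g2 | g2
  · exact chkURangeF_spec C relF_hyp 1237356000 tc_eq 5263360 2048 ck_2570 b (by omega) (by omega)
  rcases Nat.lt_or_ge b 5267456 with g3 | g3
  · exact chkURangeF_spec C relF_hyp 1237356000 tc_eq 5265408 2048 ck_2571 b (by omega) (by omega)
  rcases Nat.lt_or_ge b 5269504 with g4 | g4
  · exact chkURangeF_spec C relF_hyp 1237356000 tc_eq 5267456 2048 ck_2572 b (by omega) (by omega)
  rcases Nat.lt_or_ge b 5271552 with g5 | g5
  · exact chkURangeF_spec C relF_hyp 1237356000 tc_eq 5269504 2048 ck_2573 b (by omega) (by omega)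
  rcases Nat.lt_or_ge b 5273600 with g6 | g6
  · exact chkURangeF_spec C relF_hyp 1237356000 tc_eq 5271552 2048 ck_2574 b (by omega) (by omega)
  rcases Nat.lt_or_ge b 5275648 with g7 | g7
  · exact chkURangeF_spec C relF_hyp 1237356000 tc_eq 5273600 2048 ck_2575 b (by omega) (by omega)
  rcases Nat.lt_or_ge b 5277696 with g8 | g8
  · exact chkURangeF_spec C relF_hyp 1237356000 tc_eq 5275648 2048 ck_2576 b (by omega) (by omega)
  rcases Nat.lt_or_ge b 5279744 with g9 | g9
  · exact chkURangeF_spec C relF_hyp 1237356000 tc_eq 5277696 2048 ck_2577 b (by omega) (by omega)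
  rcases Nat.lt_or_ge b 5281792 with g10 | g10
  · exact chkURangeF_spec C relF_hyp 1237356000 tc_eq 5279744 2048 ck_2578 b (by omega) (by omega)
  rcases Nat.lt_or_ge b 5283840 with g11 | g11
  · exact chkURangeF_spec C relF_hyp 1237356000 tc_eq 5281792 2048 ck_2579 b (by omega) (by omega)
  rcases Nat.lt_or_ge b 5285888 with g12 | g12
  · exact chkURangeF_spec C relF_hyp 1237356000 tc_eq 5283840 2048 ck_2580 b (by omega) (by omega)
  rcases Nat.lt_or_ge b 5287936 with g13 | g13
  · exact chkURangeF_spec C relF_hyp 1237356000 tc_eq 5285888 2048 ck_2581 b (by omega) (by omega)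
  rcases Nat.lt_or_ge b 5289984 with g14 | g14
  · exact chkURangeF_spec C relF_hyp 1237356000 tc_eq 5287936 2048 ck_2582 b (by omega) (by omega)
  rcases Nat.lt_or_ge b 5292032 with g15 | g15
  · exact chkURangeF_spec C relF_hyp 1237356000 tc_eq 5289984 2048 ck_2583 b (by omega) (by omega)
  rcases Nat.lt_or_ge b 5294080 with g16 | g16
  · exact chkURangeF_spec C relF_hyp 1237356000 tc_eq 5292032 2048 ck_2584 b (by omega) (by omega)
  rcases Nat.lt_or_ge b 5296128 with g17 | g17
  · exact chkURangeF_spec C relF_hyp 1237356000 tc_eq 5294080 2048 ck_2585 b (by omega) (by omega)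
  rcases Nat.lt_or_ge b 5298176 with g18 | g18
  · exact chkURangeF_spec C relF_hyp 1237356000 tc_eq 5296128 2048 ck_2586 b (by omega) (by omega)
  rcases Nat.lt_or_ge b 5300224 with g19 | g19
  · exact chkURangeF_spec C relF_hyp 1237356000 tc_eq 5298176 2048 ck_2587 b (by omega) (by omega)
  rcases Nat.lt_or_ge b 5302272 with g20 | g20
  · exact chkURangeF_spec C relF_hyp 1237356000 tc_eq 5300224 2048 ck_2588 b (by omega) (by omega)
  rcases Nat.lt_or_ge b 5304320 with g21 | g21
  · exact chkURangeF_spec C relF_hyp 1237356000 tc_eq 5302272 2048 ck_2589 b (by omega) (by omega)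
  rcases Nat.lt_or_ge b 5306368 with g22 | g22
  · exact chkURangeF_spec C relF_hyp 1237356000 tc_eq 5304320 2048 ck_2590 b (by omega) (by omega)
  exact chkURangeF_spec C relF_hyp 1237356000 tc_eq 5306368 2048 ck_2591 b (by omega) (by omega)
end Cfsg.Agent.Lib.Helper2.HNMult.P5
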