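import Cfsg.Agent.Lib.Helper2.HNMult.P5.Cert
set_option autoImplicit false
set_option maxRecDepth 1000000
set_option Elab.async false
namespace Cfsg.Agent.Lib.Helper2.HNMult.P5
open Cfsg.Agent.Lib.Helper4.Sparse Cfsg.Agent.Lib.Helper2.SparseF
theorem ck_2616 : chkURangeF D C relF 796 1237356000 5357568 2048 = true := by decide +kernel
theorem ck_2617 : chkURangeF D C relF 796 1237356000 5359616 2048 = true := by decide +kernel
theorem ck_2618 : chkURangeF D C relF 796 1237356000 5361664 2048 = true := by decide +kernel
theorem ck_2619 : chkURangeF D C relF 796 1237356000 5363712 2048 = true := by decide +kernel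
theorem ck_2620 : chkURangeF D C relF 796 1237356000 5365760 2048 = true := by decide +kernel
theorem ck_2621 : chkURangeF D C relF 796 1237356000 5367808 2048 = true := by decide +kernel
theorem ck_2622 : chkURangeF D C relF 796 1237356000 5369856 2048 = true := by decide +kernel
theorem ck_2623 : chkURangeF D C relF 796 1237356000 5371904 2048 = true := by decide +kernel
theorem ck_2624 : chkURangeF D C relF 796 1237356000 5373952 2048 = true := by decide +kernel
theorem ck_2625 : chkURangeF D C relF 796 1237356000 5376000 2048 = true := by decide +kernel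
theorem ck_2626 : chkURangeF D C relF 796 1237356000 5378048 2048 = true := by decide +kernel
theorem ck_2627 : chkURangeF D C relF 796 1237356000 5380096 2048 = true := by decide +kernel
theorem ck_2628 : chkURangeF D C relF 796 1237356000 5382144 2048 = true := by decide +kernel
theorem ck_2629 : chkURangeF D C relF 796 1237356000 5384192 2048 = true := by decide +kernel
theorem ck_2630 : chkURangeF D C relF 796 1237356000 5386240 2048 = true := by decide +kernel
theorem ck_2631 : chkURangeF D C relF 796 1237356000 5388288 2048 = true := by decide +kernel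
theorem ck_2632 : chkURangeF D C relF 796 1237356000 5390336 2048 = true := by decide +kernel
theorem ck_2633 : chkURangeF D C relF 796 1237356000 5392384 2048 = true := by decide +kernel
theorem ck_2634 : chkURangeF D C relF 796 1237356000 5394432 2048 = true := by decide +kernel
theorem ck_2635 : chkURangeF D C relF 796 1237356000 5396480 2048 = true := by decide +kernel
theorem ck_2636 : chkURangeF D C relF 796 1237356000 5398528 2048 = true := by decide +kernel
theorem ck_2637 : chkURangeF D C relF 796 1237356000 5400576 2048 = true := by decide +kernel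
theorem ck_2638 : chkURangeF D C relF 796 1237356000 5402624 2048 = true := by decide +kernel
theorem ck_2639 : chkURangeF D C relF 796 1237356000 5404672 2048 = true := by decide +kernel
theorem chkU_109 (b : ℕ) (h1 : 5357568 ≤ b) (h2 : b < 5406720) : chkU D C b = true := by
  rcases Nat.lt_or_ge b 5359616 with g0 | g0
  · exact chkURangeF_spec C relF_hyp 1237356000 tc_eq 5357568 2048 ck_2616 b (by omega) (by omega)
  rcases Nat.lt_or_ge b 5361664 with g1 | g1
  · exact chkURangeF_spec C relF_hyp 1237356000 tc_eq 5359616 2048 ck_2617 b (by omega) (by omega)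
  rcases Nat.lt_or_ge b 5363712 with g2 | g2
  · exact chkURangeF_spec C relF_hyp 1237356000 tc_eq 5361664 2048 ck_2618 b (by omega) (by omega)
  rcases Nat.lt_or_ge b 5365760 with g3 | g3
  · exact chkURangeF_spec C relF_hyp 1237356000 tc_eq 5363712 2048 ck_2619 b (by omega) (by omega)
  rcases Nat.lt_or_ge b 5367808 with g4 | g4
  · exact chkURangeF_spec C relF_hyp 1237356000 tc_eq 5365760 2048 ck_2620 b (by omega) (by omega)
  rcases Nat.lt_or_ge b 5369856 with g5 | g5
  · exact chkURangeF_spec C relF_hyp 1237356000 tc_eq 5367808 2048 ck_2621 b (by omega) (by omega)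
  rcases Nat.lt_or_ge b 5371904 with g6 | g6
  · exact chkURangeF_spec C relF_hyp 1237356000 tc_eq 5369856 2048 ck_2622 b (by omega) (by omega)
  rcases Nat.lt_or_ge b 5373952 with g7 | g7
  · exact chkURangeF_spec C relF_hyp 1237356000 tc_eq 5371904 2048 ck_2623 b (by omega) (by omega)
  rcases Nat.lt_or_ge b 5376000 with g8 | g8
  · exact chkURangeF_spec C relF_hyp 1237356000 tc_eq 5373952 2048 ck_2624 b (by omega) (by omega)
  rcases Nat.lt_or_ge b 5378048 with g9 | g9
  · exact chkURangeF_spec C relF_hyp 1237356000 tc_eq 5376000 2048 ck_2625 b (by omega) (by omega)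
  rcases Nat.lt_or_ge b 5380096 with g10 | g10
  · exact chkURangeF_spec C relF_hyp 1237356000 tc_eq 5378048 2048 ck_2626 b (by omega) (by omega)
  rcases Nat.lt_or_ge b 5382144 with g11 | g11
  · exact chkURangeF_spec C relF_hyp 1237356000 tc_eq 5380096 2048 ck_2627 b (by omega) (by omega)
  rcases Nat.lt_or_ge b 5384192 with g12 | g12
  · exact chkURangeF_spec C relF_hyp 1237356000 tc_eq 5382144 2048 ck_2628 b (by omega) (by omega)
  rcases Nat.lt_or_ge b 5386240 with g13 | g13
  · exact chkURangeF_spec C relF_hyp 1237356000 tc_eq 5384192 2048 ck_2629 b (by omega) (by omega)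
  rcases Nat.lt_or_ge b 5388288 with g14 | g14
  · exact chkURangeF_spec C relF_hyp 1237356000 tc_eq 5386240 2048 ck_2630 b (by omega) (by omega)
  rcases Nat.lt_or_ge b 5390336 with g15 | g15
  · exact chkURangeF_spec C relF_hyp 1237356000 tc_eq 5388288 2048 ck_2631 b (by omega) (by omega)
  rcases Nat.lt_or_ge b 5392384 with g16 | g16
  · exact chkURangeF_spec C relF_hyp 1237356000 tc_eq 5390336 2048 ck_2632 b (by omega) (by omega)
  rcases Nat.lt_or_ge b 5394432 with g17 | g17
  · exact chkURangeF_spec C relF_hyp 1237356000 tc_eq 5392384 2048 ck_2633 b (by omega) (by omega)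
  rcases Nat.lt_or_ge b 5396480 with g18 | g18
  · exact chkURangeF_spec C relF_hyp 1237356000 tc_eq 5394432 2048 ck_2634 b (by omega) (by omega)
  rcases Nat.lt_or_ge b 5398528 with g19 | g19
  · exact chkURangeF_spec C relF_hyp 1237356000 tc_eq 5396480 2048 ck_2635 b (by omega) (by omega)
  rcases Nat.lt_or_ge b 5400576 with g20 | g20
  · exact chkURangeF_spec C relF_hyp 1237356000 tc_eq 5398528 2048 ck_2636 b (by omega) (by omega)
  rcases Nat.lt_or_ge b 5402624 with g21 | g21
  · exact chkURangeF_spec C relF_hyp 1237356000 tc_eq 5400576 2048 ck_2637 b (by omega) (by omega)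
  rcases Nat.lt_or_ge b 5404672 with g22 | g22
  · exact chkURangeF_spec C relF_hyp 1237356000 tc_eq 5402624 2048 ck_2638 b (by omega) (by omega)
  exact chkURangeF_spec C relF_hyp 1237356000 tc_eq 5404672 2048 ck_2639 b (by omega) (by omega)
end Cfsg.Agent.Lib.Helper2.HNMult.P5
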