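import Cfsg.Agent.Lib.Helper2.HNMult.P5.Cert
set_option autoImplicit false
set_option maxRecDepth 1000000
set_option Elab.async false
namespace Cfsg.Agent.Lib.Helper2.HNMult.P5
open Cfsg.Agent.Lib.Helper4.Sparse Cfsg.Agent.Lib.Helper2.SparseF
theorem ck_2832 : chkURangeF D C relF 796 1237356000 5799936 2048 = true := by decide +kernel
theorem ck_2833 : chkURangeF D C relF 796 1237356000 5801984 2048 = true := by decide +kernel
theorem ck_2834 : chkURangeF D C relF 796 1237356000 5804032 2048 = true := by decide +kernel
theorem ck_2835 : chkURangeF D C relF 796 1237356000 5806080 2048 = true := by decide +kernel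
theorem ck_2836 : chkURangeF D C relF 796 1237356000 5808128 2048 = true := by decide +kernel
theorem ck_2837 : chkURangeF D C relF 796 1237356000 5810176 2048 = true := by decide +kernel
theorem ck_2838 : chkURangeF D C relF 796 1237356000 5812224 2048 = true := by decide +kernel
theorem ck_2839 : chkURangeF D C relF 796 1237356000 5814272 2048 = true := by decide +kernel
theorem ck_2840 : chkURangeF D C relF 796 1237356000 5816320 2048 = true := by decide +kernel
theorem ck_2841 : chkURangeF D C relF 796 1237356000 5818368 2048 = true := by decide +kernel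
theorem ck_2842 : chkURangeF D C relF 796 1237356000 5820416 2048 = true := by decide +kernel
theorem ck_2843 : chkURangeF D C relF 796 1237356000 5822464 2048 = true := by decide +kernel
theorem ck_2844 : chkURangeF D C relF 796 1237356000 5824512 2048 = true := by decide +kernel
theorem ck_2845 : chkURangeF D C relF 796 1237356000 5826560 2048 = true := by decide +kernel
theorem ck_2846 : chkURangeF D C relF 796 1237356000 5828608 2048 = true := by decide +kernel
theorem ck_2847 : chkURangeF D C relF 796 1237356000 5830656 2048 = true := by decide +kernel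
theorem ck_2848 : chkURangeF D C relF 796 1237356000 5832704 2048 = true := by decide +kernel
theorem ck_2849 : chkURangeF D C relF 796 1237356000 5834752 2048 = true := by decide +kernel
theorem ck_2850 : chkURangeF D C relF 796 1237356000 5836800 2048 = true := by decide +kernel
theorem ck_2851 : chkURangeF D C relF 796 1237356000 5838848 2048 = true := by decide +kernel
theorem ck_2852 : chkURangeF D C relF 796 1237356000 5840896 2048 = true := by decide +kernel
theorem ck_2853 : chkURangeF D C relF 796 1237356000 5842944 2048 = true := by decide +kernel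
theorem ck_2854 : chkURangeF D C relF 796 1237356000 5844992 2048 = true := by decide +kernel
theorem ck_2855 : chkURangeF D C relF 796 1237356000 5847040 2048 = true := by decide +kernel
theorem chkU_118 (b : ℕ) (h1 : 5799936 ≤ b) (h2 : b < 5849088) : chkU D C b = true := by
  rcases Nat.lt_or_ge b 5801984 with g0 | g0
  · exact chkURangeF_spec C relF_hyp 1237356000 tc_eq 5799936 2048 ck_2832 b (by omega) (by omega)
  rcases Nat.lt_or_ge b 5804032 with g1 | g1
  · exact chkURangeF_spec C relF_hyp 1237356000 tc_eq 5801984 2048 ck_2833 b (by omega) (by omega)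
  rcases Nat.lt_or_ge b 5806080 with g2 | g2
  · exact chkURangeF_spec C relF_hyp 1237356000 tc_eq 5804032 2048 ck_2834 b (by omega) (by omega)
  rcases Nat.lt_or_ge b 5808128 with g3 | g3
  · exact chkURangeF_spec C relF_hyp 1237356000 tc_eq 5806080 2048 ck_2835 b (by omega) (by omega)
  rcases Nat.lt_or_ge b 5810176 with g4 | g4
  · exact chkURangeF_spec C relF_hyp 1237356000 tc_eq 5808128 2048 ck_2836 b (by omega) (by omega)
  rcases Nat.lt_or_ge b 5812224 with g5 | g5
  · exact chkURangeF_spec C relF_hyp 1237356000 tc_eq 5810176 2048 ck_2837 b (by omega) (by omega)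
  rcases Nat.lt_or_ge b 5814272 with g6 | g6
  · exact chkURangeF_spec C relF_hyp 1237356000 tc_eq 5812224 2048 ck_2838 b (by omega) (by omega)
  rcases Nat.lt_or_ge b 5816320 with g7 | g7
  · exact chkURangeF_spec C relF_hyp 1237356000 tc_eq 5814272 2048 ck_2839 b (by omega) (by omega)
  rcases Nat.lt_or_ge b 5818368 with g8 | g8
  · exact chkURangeF_spec C relF_hyp 1237356000 tc_eq 5816320 2048 ck_2840 b (by omega) (by omega)
  rcases Nat.lt_or_ge b 5820416 with g9 | g9
  · exact chkURangeF_spec C relF_hyp 1237356000 tc_eq 5818368 2048 ck_2841 b (by omega) (by omega)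
  rcases Nat.lt_or_ge b 5822464 with g10 | g10
  · exact chkURangeF_spec C relF_hyp 1237356000 tc_eq 5820416 2048 ck_2842 b (by omega) (by omega)
  rcases Nat.lt_or_ge b 5824512 with g11 | g11
  · exact chkURangeF_spec C relF_hyp 1237356000 tc_eq 5822464 2048 ck_2843 b (by omega) (by omega)
  rcases Nat.lt_or_ge b 5826560 with g12 | g12
  · exact chkURangeF_spec C relF_hyp 1237356000 tc_eq 5824512 2048 ck_2844 b (by omega) (by omega)
  rcases Nat.lt_or_ge b 5828608 with g13 | g13
  · exact chkURangeF_spec C relF_hyp 1237356000 tc_eq 5826560 2048 ck_2845 b (by omega) (by omega)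
  rcases Nat.lt_or_ge b 5830656 with g14 | g14
  · exact chkURangeF_spec C relF_hyp 1237356000 tc_eq 5828608 2048 ck_2846 b (by omega) (by omega)
  rcases Nat.lt_or_ge b 5832704 with g15 | g15
  · exact chkURangeF_spec C relF_hyp 1237356000 tc_eq 5830656 2048 ck_2847 b (by omega) (by omega)
  rcases Nat.lt_or_ge b 5834752 with g16 | g16
  · exact chkURangeF_spec C relF_hyp 1237356000 tc_eq 5832704 2048 ck_2848 b (by omega) (by omega)
  rcases Nat.lt_or_ge b 5836800 with g17 | g17
  · exact chkURangeF_spec C relF_hyp 1237356000 tc_eq 5834752 2048 ck_2849 b (by omega) (by omega)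
  rcases Nat.lt_or_ge b 5838848 with g18 | g18
  · exact chkURangeF_spec C relF_hyp 1237356000 tc_eq 5836800 2048 ck_2850 b (by omega) (by omega)
  rcases Nat.lt_or_ge b 5840896 with g19 | g19
  · exact chkURangeF_spec C relF_hyp 1237356000 tc_eq 5838848 2048 ck_2851 b (by omega) (by omega)
  rcases Nat.lt_or_ge b 5842944 with g20 | g20
  · exact chkURangeF_spec C relF_hyp 1237356000 tc_eq 5840896 2048 ck_2852 b (by omega) (by omega)
  rcases Nat.lt_or_ge b 5844992 with g21 | g21
  · exact chkURangeF_spec C relF_hyp 1237356000 tc_eq 5842944 2048 ck_2853 b (by omega) (by omega)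
  rcases Nat.lt_or_ge b 5847040 with g22 | g22
  · exact chkURangeF_spec C relF_hyp 1237356000 tc_eq 5844992 2048 ck_2854 b (by omega) (by omega)
  exact chkURangeF_spec C relF_hyp 1237356000 tc_eq 5847040 2048 ck_2855 b (by omega) (by omega)
end Cfsg.Agent.Lib.Helper2.HNMult.P5
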