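import Cfsg.Agent.Lib.Helper2.HNMult.P5.Cert
set_option autoImplicit false
set_option maxRecDepth 1000000
set_option Elab.async false
namespace Cfsg.Agent.Lib.Helper2.HNMult.P5
open Cfsg.Agent.Lib.Helper4.Sparse Cfsg.Agent.Lib.Helper2.SparseF
theorem ck_2928 : chkURangeF D C relF 796 1237356000 5996544 2048 = true := by decide +kernel
theorem ck_2929 : chkURangeF D C relF 796 1237356000 5998592 2048 = true := by decide +kernel
theorem ck_2930 : chkURangeF D C relF 796 1237356000 6000640 2048 = true := by decide +kernel
theorem ck_2931 : chkURangeF D C relF 796 1237356000 6002688 2048 = true := by decide +kernel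
theorem ck_2932 : chkURangeF D C relF 796 1237356000 6004736 2048 = true := by decide +kernel
theorem ck_2933 : chkURangeF D C relF 796 1237356000 6006784 2048 = true := by decide +kernel
theorem ck_2934 : chkURangeF D C relF 796 1237356000 6008832 2048 = true := by decide +kernel
theorem ck_2935 : chkURangeF D C relF 796 1237356000 6010880 2048 = true := by decide +kernel
theorem ck_2936 : chkURangeF D C relF 796 1237356000 6012928 2048 = true := by decide +kernel
theorem ck_2937 : chkURangeF D C relF 796 1237356000 6014976 2048 = true := by decide +kernel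
theorem ck_2938 : chkURangeF D C relF 796 1237356000 6017024 2048 = true := by decide +kernel
theorem ck_2939 : chkURangeF D C relF 796 1237356000 6019072 2048 = true := by decide +kernel
theorem ck_2940 : chkURangeF D C relF 796 1237356000 6021120 2048 = true := by decide +kernel
theorem ck_2941 : chkURangeF D C relF 796 1237356000 6023168 2048 = true := by decide +kernel
theorem ck_2942 : chkURangeF D C relF 796 1237356000 6025216 2048 = true := by decide +kernel
theorem ck_2943 : chkURangeF D C relF 796 1237356000 6027264 2048 = true := by decide +kernel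
theorem ck_2944 : chkURangeF D C relF 796 1237356000 6029312 2048 = true := by decide +kernel
theorem ck_2945 : chkURangeF D C relF 796 1237356000 6031360 2048 = true := by decide +kernel
theorem ck_2946 : chkURangeF D C relF 796 1237356000 6033408 2048 = true := by decide +kernel
theorem ck_2947 : chkURangeF D C relF 796 1237356000 6035456 2048 = true := by decide +kernel
theorem ck_2948 : chkURangeF D C relF 796 1237356000 6037504 2048 = true := by decide +kernel
theorem ck_2949 : chkURangeF D C relF 796 1237356000 6039552 2048 = true := by decide +kernel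
theorem ck_2950 : chkURangeF D C relF 796 1237356000 6041600 2048 = true := by decide +kernel
theorem ck_2951 : chkURangeF D C relF 796 1237356000 6043648 2048 = true := by decide +kernel
theorem chkU_122 (b : ℕ) (h1 : 5996544 ≤ b) (h2 : b < 6045696) : chkU D C b = true := by
  rcases Nat.lt_or_ge b 5998592 with g0 | g0
  · exact chkURangeF_spec C relF_hyp 1237356000 tc_eq 5996544 2048 ck_2928 b (by omega) (by omega)
  rcases Nat.lt_or_ge b 6000640 with g1 | g1
  · exact chkURangeF_spec C relF_hyp 1237356000 tc_eq 5998592 2048 ck_2929 b (by omega) (by omega)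
  rcases Nat.lt_or_ge b 6002688 with g2 | g2
  · exact chkURangeF_spec C relF_hyp 1237356000 tc_eq 6000640 2048 ck_2930 b (by omega) (by omega)
  rcases Nat.lt_or_ge b 6004736 with g3 | g3
  · exact chkURangeF_spec C relF_hyp 1237356000 tc_eq 6002688 2048 ck_2931 b (by omega) (by omega)
  rcases Nat.lt_or_ge b 6006784 with g4 | g4
  · exact chkURangeF_spec C relF_hyp 1237356000 tc_eq 6004736 2048 ck_2932 b (by omega) (by omega)
  rcases Nat.lt_or_ge b 6008832 with g5 | g5
  · exact chkURangeF_spec C relF_hyp 1237356000 tc_eq 6006784 2048 ck_2933 b (by omega) (by omega)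
  rcases Nat.lt_or_ge b 6010880 with g6 | g6
  · exact chkURangeF_spec C relF_hyp 1237356000 tc_eq 6008832 2048 ck_2934 b (by omega) (by omega)
  rcases Nat.lt_or_ge b 6012928 with g7 | g7
  · exact chkURangeF_spec C relF_hyp 1237356000 tc_eq 6010880 2048 ck_2935 b (by omega) (by omega)
  rcases Nat.lt_or_ge b 6014976 with g8 | g8
  · exact chkURangeF_spec C relF_hyp 1237356000 tc_eq 6012928 2048 ck_2936 b (by omega) (by omega)
  rcases Nat.lt_or_ge b 6017024 with g9 | g9
  · exact chkURangeF_spec C relF_hyp 1237356000 tc_eq 6014976 2048 ck_2937 b (by omega) (by omega)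
  rcases Nat.lt_or_ge b 6019072 with g10 | g10
  · exact chkURangeF_spec C relF_hyp 1237356000 tc_eq 6017024 2048 ck_2938 b (by omega) (by omega)
  rcases Nat.lt_or_ge b 6021120 with g11 | g11
  · exact chkURangeF_spec C relF_hyp 1237356000 tc_eq 6019072 2048 ck_2939 b (by omega) (by omega)
  rcases Nat.lt_or_ge b 6023168 with g12 | g12
  · exact chkURangeF_spec C relF_hyp 1237356000 tc_eq 6021120 2048 ck_2940 b (by omega) (by omega)
  rcases Nat.lt_or_ge b 6025216 with g13 | g13
  · exact chkURangeF_spec C relF_hyp 1237356000 tc_eq 6023168 2048 ck_2941 b (by omega) (by omega)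
  rcases Nat.lt_or_ge b 6027264 with g14 | g14
  · exact chkURangeF_spec C relF_hyp 1237356000 tc_eq 6025216 2048 ck_2942 b (by omega) (by omega)
  rcases Nat.lt_or_ge b 6029312 with g15 | g15
  · exact chkURangeF_spec C relF_hyp 1237356000 tc_eq 6027264 2048 ck_2943 b (by omega) (by omega)
  rcases Nat.lt_or_ge b 6031360 with g16 | g16
  · exact chkURangeF_spec C relF_hyp 1237356000 tc_eq 6029312 2048 ck_2944 b (by omega) (by omega)
  rcases Nat.lt_or_ge b 6033408 with g17 | g17
  · exact chkURangeF_spec C relF_hyp 1237356000 tc_eq 6031360 2048 ck_2945 b (by omega) (by omega)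
  rcases Nat.lt_or_ge b 6035456 with g18 | g18
  · exact chkURangeF_spec C relF_hyp 1237356000 tc_eq 6033408 2048 ck_2946 b (by omega) (by omega)
  rcases Nat.lt_or_ge b 6037504 with g19 | g19
  · exact chkURangeF_spec C relF_hyp 1237356000 tc_eq 6035456 2048 ck_2947 b (by omega) (by omega)
  rcases Nat.lt_or_ge b 6039552 with g20 | g20
  · exact chkURangeF_spec C relF_hyp 1237356000 tc_eq 6037504 2048 ck_2948 b (by omega) (by omega)
  rcases Nat.lt_or_ge b 6041600 with g21 | g21
  · exact chkURangeF_spec C relF_hyp 1237356000 tc_eq 6039552 2048 ck_2949 b (by omega) (by omega)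
  rcases Nat.lt_or_ge b 6043648 with g22 | g22
  · exact chkURangeF_spec C relF_hyp 1237356000 tc_eq 6041600 2048 ck_2950 b (by omega) (by omega)
  exact chkURangeF_spec C relF_hyp 1237356000 tc_eq 6043648 2048 ck_2951 b (by omega) (by omega)
end Cfsg.Agent.Lib.Helper2.HNMult.P5
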