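import Cfsg.Agent.Lib.Helper2.HNMult.P5.Cert
set_option autoImplicit false
set_option maxRecDepth 1000000
set_option Elab.async false
namespace Cfsg.Agent.Lib.Helper2.HNMult.P5
open Cfsg.Agent.Lib.Helper4.Sparse Cfsg.Agent.Lib.Helper2.SparseF
theorem ck_2952 : chkURangeF D C relF 796 1237356000 6045696 2048 = true := by decide +kernel
theorem ck_2953 : chkURangeF D C relF 796 1237356000 6047744 2048 = true := by decide +kernel
theorem ck_2954 : chkURangeF D C relF 796 1237356000 6049792 2048 = true := by decide +kernel
theorem ck_2955 : chkURangeF D C relF 796 1237356000 6051840 2048 = true := by decide +kernel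
theorem ck_2956 : chkURangeF D C relF 796 1237356000 6053888 2048 = true := by decide +kernel
theorem ck_2957 : chkURangeF D C relF 796 1237356000 6055936 2048 = true := by decide +kernel
theorem ck_2958 : chkURangeF D C relF 796 1237356000 6057984 2048 = true := by decide +kernel
theorem ck_2959 : chkURangeF D C relF 796 1237356000 6060032 2048 = true := by decide +kernel
theorem ck_2960 : chkURangeF D C relF 796 1237356000 6062080 2048 = true := by decide +kernel
theorem ck_2961 : chkURangeF D C relF 796 1237356000 6064128 2048 = true := by decide +kernel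
theorem ck_2962 : chkURangeF D C relF 796 1237356000 6066176 2048 = true := by decide +kernel
theorem ck_2963 : chkURangeF D C relF 796 1237356000 6068224 2048 = true := by decide +kernel
theorem ck_2964 : chkURangeF D C relF 796 1237356000 6070272 2048 = true := by decide +kernel
theorem ck_2965 : chkURangeF D C relF 796 1237356000 6072320 2048 = true := by decide +kernel
theorem ck_2966 : chkURangeF D C relF 796 1237356000 6074368 2048 = true := by decide +kernel
theorem ck_2967 : chkURangeF D C relF 796 1237356000 6076416 2048 = true := by decide +kernel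
theorem ck_2968 : chkURangeF D C relF 796 1237356000 6078464 2048 = true := by decide +kernel
theorem ck_2969 : chkURangeF D C relF 796 1237356000 6080512 2048 = true := by decide +kernel
theorem ck_2970 : chkURangeF D C relF 796 1237356000 6082560 2048 = true := by decide +kernel
theorem ck_2971 : chkURangeF D C relF 796 1237356000 6084608 2048 = true := by decide +kernel
theorem ck_2972 : chkURangeF D C relF 796 1237356000 6086656 2048 = true := by decide +kernel
theorem ck_2973 : chkURangeF D C relF 796 1237356000 6088704 2048 = true := by decide +kernel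
theorem ck_2974 : chkURangeF D C relF 796 1237356000 6090752 2048 = true := by decide +kernel
theorem ck_2975 : chkURangeF D C relF 796 1237356000 6092800 2048 = true := by decide +kernel
theorem chkU_123 (b : ℕ) (h1 : 6045696 ≤ b) (h2 : b < 6094848) : chkU D C b = true := by
  rcases Nat.lt_or_ge b 6047744 with g0 | g0
  · exact chkURangeF_spec C relF_hyp 1237356000 tc_eq 6045696 2048 ck_2952 b (by omega) (by omega)
  rcases Nat.lt_or_ge b 6049792 with g1 | g1
  · exact chkURangeF_spec C relF_hyp 1237356000 tc_eq 6047744 2048 ck_2953 b (by omega) (by omega)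
  rcases Nat.lt_or_ge b 6051840 with g2 | g2
  · exact chkURangeF_spec C relF_hyp 1237356000 tc_eq 6049792 2048 ck_2954 b (by omega) (by omega)
  rcases Nat.lt_or_ge b 6053888 with g3 | g3
  · exact chkURangeF_spec C relF_hyp 1237356000 tc_eq 6051840 2048 ck_2955 b (by omega) (by omega)
  rcases Nat.lt_or_ge b 6055936 with g4 | g4
  · exact chkURangeF_spec C relF_hyp 1237356000 tc_eq 6053888 2048 ck_2956 b (by omega) (by omega)
  rcases Nat.lt_or_ge b 6057984 with g5 | g5
  · exact chkURangeF_spec C relF_hyp 1237356000 tc_eq 6055936 2048 ck_2957 b (by omega) (by omega)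
  rcases Nat.lt_or_ge b 6060032 with g6 | g6
  · exact chkURangeF_spec C relF_hyp 1237356000 tc_eq 6057984 2048 ck_2958 b (by omega) (by omega)
  rcases Nat.lt_or_ge b 6062080 with g7 | g7
  · exact chkURangeF_spec C relF_hyp 1237356000 tc_eq 6060032 2048 ck_2959 b (by omega) (by omega)
  rcases Nat.lt_or_ge b 6064128 with g8 | g8
  · exact chkURangeF_spec C relF_hyp 1237356000 tc_eq 6062080 2048 ck_2960 b (by omega) (by omega)
  rcases Nat.lt_or_ge b 6066176 with g9 | g9
  · exact chkURangeF_spec C relF_hyp 1237356000 tc_eq 6064128 2048 ck_2961 b (by omega) (by omega)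
  rcases Nat.lt_or_ge b 6068224 with g10 | g10
  · exact chkURangeF_spec C relF_hyp 1237356000 tc_eq 6066176 2048 ck_2962 b (by omega) (by omega)
  rcases Nat.lt_or_ge b 6070272 with g11 | g11
  · exact chkURangeF_spec C relF_hyp 1237356000 tc_eq 6068224 2048 ck_2963 b (by omega) (by omega)
  rcases Nat.lt_or_ge b 6072320 with g12 | g12
  · exact chkURangeF_spec C relF_hyp 1237356000 tc_eq 6070272 2048 ck_2964 b (by omega) (by omega)
  rcases Nat.lt_or_ge b 6074368 with g13 | g13
  · exact chkURangeF_spec C relF_hyp 1237356000 tc_eq 6072320 2048 ck_2965 b (by omega) (by omega)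
  rcases Nat.lt_or_ge b 6076416 with g14 | g14
  · exact chkURangeF_spec C relF_hyp 1237356000 tc_eq 6074368 2048 ck_2966 b (by omega) (by omega)
  rcases Nat.lt_or_ge b 6078464 with g15 | g15
  · exact chkURangeF_spec C relF_hyp 1237356000 tc_eq 6076416 2048 ck_2967 b (by omega) (by omega)
  rcases Nat.lt_or_ge b 6080512 with g16 | g16
  · exact chkURangeF_spec C relF_hyp 1237356000 tc_eq 6078464 2048 ck_2968 b (by omega) (by omega)
  rcases Nat.lt_or_ge b 6082560 with g17 | g17
  · exact chkURangeF_spec C relF_hyp 1237356000 tc_eq 6080512 2048 ck_2969 b (by omega) (by omega)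
  rcases Nat.lt_or_ge b 6084608 with g18 | g18
  · exact chkURangeF_spec C relF_hyp 1237356000 tc_eq 6082560 2048 ck_2970 b (by omega) (by omega)
  rcases Nat.lt_or_ge b 6086656 with g19 | g19
  · exact chkURangeF_spec C relF_hyp 1237356000 tc_eq 6084608 2048 ck_2971 b (by omega) (by omega)
  rcases Nat.lt_or_ge b 6088704 with g20 | g20
  · exact chkURangeF_spec C relF_hyp 1237356000 tc_eq 6086656 2048 ck_2972 b (by omega) (by omega)
  rcases Nat.lt_or_ge b 6090752 with g21 | g21
  · exact chkURangeF_spec C relF_hyp 1237356000 tc_eq 6088704 2048 ck_2973 b (by omega) (by omega)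
  rcases Nat.lt_or_ge b 6092800 with g22 | g22
  · exact chkURangeF_spec C relF_hyp 1237356000 tc_eq 6090752 2048 ck_2974 b (by omega) (by omega)
  exact chkURangeF_spec C relF_hyp 1237356000 tc_eq 6092800 2048 ck_2975 b (by omega) (by omega)
end Cfsg.Agent.Lib.Helper2.HNMult.P5
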