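import Cfsg.Agent.Lib.Helper2.HNMult.P5.Cert
set_option autoImplicit false
set_option maxRecDepth 1000000
set_option Elab.async false
namespace Cfsg.Agent.Lib.Helper2.HNMult.P5
open Cfsg.Agent.Lib.Helper4.Sparse Cfsg.Agent.Lib.Helper2.SparseF
theorem ck_2976 : chkURangeF D C relF 796 1237356000 6094848 2048 = true := by decide +kernel
theorem ck_2977 : chkURangeF D C relF 796 1237356000 6096896 2048 = true := by decide +kernel
theorem ck_2978 : chkURangeF D C relF 796 1237356000 6098944 2048 = true := by decide +kernel
theorem ck_2979 : chkURangeF D C relF 796 1237356000 6100992 2048 = true := by decide +kernel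
theorem ck_2980 : chkURangeF D C relF 796 1237356000 6103040 2048 = true := by decide +kernel
theorem ck_2981 : chkURangeF D C relF 796 1237356000 6105088 2048 = true := by decide +kernel
theorem ck_2982 : chkURangeF D C relF 796 1237356000 6107136 2048 = true := by decide +kernel
theorem ck_2983 : chkURangeF D C relF 796 1237356000 6109184 2048 = true := by decide +kernel
theorem ck_2984 : chkURangeF D C relF 796 1237356000 6111232 2048 = true := by decide +kernel
theorem ck_2985 : chkURangeF D C relF 796 1237356000 6113280 2048 = true := by decide +kernel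
theorem ck_2986 : chkURangeF D C relF 796 1237356000 6115328 2048 = true := by decide +kernel
theorem ck_2987 : chkURangeF D C relF 796 1237356000 6117376 2048 = true := by decide +kernel
theorem ck_2988 : chkURangeF D C relF 796 1237356000 6119424 2048 = true := by decide +kernel
theorem ck_2989 : chkURangeF D C relF 796 1237356000 6121472 2048 = true := by decide +kernel
theorem ck_2990 : chkURangeF D C relF 796 1237356000 6123520 2048 = true := by decide +kernel
theorem ck_2991 : chkURangeF D C relF 796 1237356000 6125568 2048 = true := by decide +kernel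
theorem ck_2992 : chkURangeF D C relF 796 1237356000 6127616 2048 = true := by decide +kernel
theorem ck_2993 : chkURangeF D C relF 796 1237356000 6129664 2048 = true := by decide +kernel
theorem ck_2994 : chkURangeF D C relF 796 1237356000 6131712 2048 = true := by decide +kernel
theorem ck_2995 : chkURangeF D C relF 796 1237356000 6133760 2048 = true := by decide +kernel
theorem ck_2996 : chkURangeF D C relF 796 1237356000 6135808 2048 = true := by decide +kernel
theorem ck_2997 : chkURangeF D C relF 796 1237356000 6137856 2048 = true := by decide +kernel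
theorem ck_2998 : chkURangeF D C relF 796 1237356000 6139904 2048 = true := by decide +kernel
theorem ck_2999 : chkURangeF D C relF 796 1237356000 6141952 2048 = true := by decide +kernel
theorem chkU_124 (b : ℕ) (h1 : 6094848 ≤ b) (h2 : b < 6144000) : chkU D C b = true := by
  rcases Nat.lt_or_ge b 6096896 with g0 | g0
  · exact chkURangeF_spec C relF_hyp 1237356000 tc_eq 6094848 2048 ck_2976 b (by omega) (by omega)
  rcases Nat.lt_or_ge b 6098944 with g1 | g1
  · exact chkURangeF_spec C relF_hyp 1237356000 tc_eq 6096896 2048 ck_2977 b (by omega) (by omega)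
  rcases Nat.lt_or_ge b 6100992 with g2 | g2
  · exact chkURangeF_spec C relF_hyp 1237356000 tc_eq 6098944 2048 ck_2978 b (by omega) (by omega)
  rcases Nat.lt_or_ge b 6103040 with g3 | g3
  · exact chkURangeF_spec C relF_hyp 1237356000 tc_eq 6100992 2048 ck_2979 b (by omega) (by omega)
  rcases Nat.lt_or_ge b 6105088 with g4 | g4
  · exact chkURangeF_spec C relF_hyp 1237356000 tc_eq 6103040 2048 ck_2980 b (by omega) (by omega)
  rcases Nat.lt_or_ge b 6107136 with g5 | g5
  · exact chkURangeF_spec C relF_hyp 1237356000 tc_eq 6105088 2048 ck_2981 b (by omega) (by omega)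
  rcases Nat.lt_or_ge b 6109184 with g6 | g6
  · exact chkURangeF_spec C relF_hyp 1237356000 tc_eq 6107136 2048 ck_2982 b (by omega) (by omega)
  rcases Nat.lt_or_ge b 6111232 with g7 | g7
  · exact chkURangeF_spec C relF_hyp 1237356000 tc_eq 6109184 2048 ck_2983 b (by omega) (by omega)
  rcases Nat.lt_or_ge b 6113280 with g8 | g8
  · exact chkURangeF_spec C relF_hyp 1237356000 tc_eq 6111232 2048 ck_2984 b (by omega) (by omega)
  rcases Nat.lt_or_ge b 6115328 with g9 | g9
  · exact chkURangeF_spec C relF_hyp 1237356000 tc_eq 6113280 2048 ck_2985 b (by omega) (by omega)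
  rcases Nat.lt_or_ge b 6117376 with g10 | g10
  · exact chkURangeF_spec C relF_hyp 1237356000 tc_eq 6115328 2048 ck_2986 b (by omega) (by omega)
  rcases Nat.lt_or_ge b 6119424 with g11 | g11
  · exact chkURangeF_spec C relF_hyp 1237356000 tc_eq 6117376 2048 ck_2987 b (by omega) (by omega)
  rcases Nat.lt_or_ge b 6121472 with g12 | g12
  · exact chkURangeF_spec C relF_hyp 1237356000 tc_eq 6119424 2048 ck_2988 b (by omega) (by omega)
  rcases Nat.lt_or_ge b 6123520 with g13 | g13
  · exact chkURangeF_spec C relF_hyp 1237356000 tc_eq 6121472 2048 ck_2989 b (by omega) (by omega)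
  rcases Nat.lt_or_ge b 6125568 with g14 | g14
  · exact chkURangeF_spec C relF_hyp 1237356000 tc_eq 6123520 2048 ck_2990 b (by omega) (by omega)
  rcases Nat.lt_or_ge b 6127616 with g15 | g15
  · exact chkURangeF_spec C relF_hyp 1237356000 tc_eq 6125568 2048 ck_2991 b (by omega) (by omega)
  rcases Nat.lt_or_ge b 6129664 with g16 | g16
  · exact chkURangeF_spec C relF_hyp 1237356000 tc_eq 6127616 2048 ck_2992 b (by omega) (by omega)
  rcases Nat.lt_or_ge b 6131712 with g17 | g17
  · exact chkURangeF_spec C relF_hyp 1237356000 tc_eq 6129664 2048 ck_2993 b (by omega) (by omega)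
  rcases Nat.lt_or_ge b 6133760 with g18 | g18
  · exact chkURangeF_spec C relF_hyp 1237356000 tc_eq 6131712 2048 ck_2994 b (by omega) (by omega)
  rcases Nat.lt_or_ge b 6135808 with g19 | g19
  · exact chkURangeF_spec C relF_hyp 1237356000 tc_eq 6133760 2048 ck_2995 b (by omega) (by omega)
  rcases Nat.lt_or_ge b 6137856 with g20 | g20
  · exact chkURangeF_spec C relF_hyp 1237356000 tc_eq 6135808 2048 ck_2996 b (by omega) (by omega)
  rcases Nat.lt_or_ge b 6139904 with g21 | g21
  · exact chkURangeF_spec C relF_hyp 1237356000 tc_eq 6137856 2048 ck_2997 b (by omega) (by omega)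
  rcases Nat.lt_or_ge b 6141952 with g22 | g22
  · exact chkURangeF_spec C relF_hyp 1237356000 tc_eq 6139904 2048 ck_2998 b (by omega) (by omega)
  exact chkURangeF_spec C relF_hyp 1237356000 tc_eq 6141952 2048 ck_2999 b (by omega) (by omega)
end Cfsg.Agent.Lib.Helper2.HNMult.P5
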