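import Cfsg.Agent.Lib.Helper2.HNMult.P5.Cert
set_option autoImplicit false
set_option maxRecDepth 1000000
set_option Elab.async false
namespace Cfsg.Agent.Lib.Helper2.HNMult.P5
open Cfsg.Agent.Lib.Helper4.Sparse Cfsg.Agent.Lib.Helper2.SparseF
theorem ck_3120 : chkURangeF D C relF 796 1237356000 6389760 2048 = true := by decide +kernel
theorem ck_3121 : chkURangeF D C relF 796 1237356000 6391808 2048 = true := by decide +kernel
theorem ck_3122 : chkURangeF D C relF 796 1237356000 6393856 2048 = true := by decide +kernel
theorem ck_3123 : chkURangeF D C relF 796 1237356000 6395904 2048 = true := by decide +kernel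
theorem ck_3124 : chkURangeF D C relF 796 1237356000 6397952 2048 = true := by decide +kernel
theorem ck_3125 : chkURangeF D C relF 796 1237356000 6400000 2048 = true := by decide +kernel
theorem ck_3126 : chkURangeF D C relF 796 1237356000 6402048 2048 = true := by decide +kernel
theorem ck_3127 : chkURangeF D C relF 796 1237356000 6404096 2048 = true := by decide +kernel
theorem ck_3128 : chkURangeF D C relF 796 1237356000 6406144 2048 = true := by decide +kernel
theorem ck_3129 : chkURangeF D C relF 796 1237356000 6408192 2048 = true := by decide +kernel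
theorem ck_3130 : chkURangeF D C relF 796 1237356000 6410240 2048 = true := by decide +kernel
theorem ck_3131 : chkURangeF D C relF 796 1237356000 6412288 2048 = true := by decide +kernel
theorem ck_3132 : chkURangeF D C relF 796 1237356000 6414336 2048 = true := by decide +kernel
theorem ck_3133 : chkURangeF D C relF 796 1237356000 6416384 2048 = true := by decide +kernel
theorem ck_3134 : chkURangeF D C relF 796 1237356000 6418432 2048 = true := by decide +kernel
theorem ck_3135 : chkURangeF D C relF 796 1237356000 6420480 2048 = true := by decide +kernel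
theorem ck_3136 : chkURangeF D C relF 796 1237356000 6422528 2048 = true := by decide +kernel
theorem ck_3137 : chkURangeF D C relF 796 1237356000 6424576 2048 = true := by decide +kernel
theorem ck_3138 : chkURangeF D C relF 796 1237356000 6426624 2048 = true := by decide +kernel
theorem ck_3139 : chkURangeF D C relF 796 1237356000 6428672 2048 = true := by decide +kernel
theorem ck_3140 : chkURangeF D C relF 796 1237356000 6430720 2048 = true := by decide +kernel
theorem ck_3141 : chkURangeF D C relF 796 1237356000 6432768 2048 = true := by decide +kernel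
theorem ck_3142 : chkURangeF D C relF 796 1237356000 6434816 2048 = true := by decide +kernel
theorem ck_3143 : chkURangeF D C relF 796 1237356000 6436864 2048 = true := by decide +kernel
theorem chkU_130 (b : ℕ) (h1 : 6389760 ≤ b) (h2 : b < 6438912) : chkU D C b = true := by
  rcases Nat.lt_or_ge b 6391808 with g0 | g0
  · exact chkURangeF_spec C relF_hyp 1237356000 tc_eq 6389760 2048 ck_3120 b (by omega) (by omega)
  rcases Nat.lt_or_ge b 6393856 with g1 | g1
  · exact chkURangeF_spec C relF_hyp 1237356000 tc_eq 6391808 2048 ck_3121 b (by omega) (by omega)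
  rcases Nat.lt_or_ge b 6395904 with g2 | g2
  · exact chkURangeF_spec C relF_hyp 1237356000 tc_eq 6393856 2048 ck_3122 b (by omega) (by omega)
  rcases Nat.lt_or_ge b 6397952 with g3 | g3
  · exact chkURangeF_spec C relF_hyp 1237356000 tc_eq 6395904 2048 ck_3123 b (by omega) (by omega)
  rcases Nat.lt_or_ge b 6400000 with g4 | g4
  · exact chkURangeF_spec C relF_hyp 1237356000 tc_eq 6397952 2048 ck_3124 b (by omega) (by omega)
  rcases Nat.lt_or_ge b 6402048 with g5 | g5
  · exact chkURangeF_spec C relF_hyp 1237356000 tc_eq 6400000 2048 ck_3125 b (by omega) (by omega)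
  rcases Nat.lt_or_ge b 6404096 with g6 | g6
  · exact chkURangeF_spec C relF_hyp 1237356000 tc_eq 6402048 2048 ck_3126 b (by omega) (by omega)
  rcases Nat.lt_or_ge b 6406144 with g7 | g7
  · exact chkURangeF_spec C relF_hyp 1237356000 tc_eq 6404096 2048 ck_3127 b (by omega) (by omega)
  rcases Nat.lt_or_ge b 6408192 with g8 | g8
  · exact chkURangeF_spec C relF_hyp 1237356000 tc_eq 6406144 2048 ck_3128 b (by omega) (by omega)
  rcases Nat.lt_or_ge b 6410240 with g9 | g9
  · exact chkURangeF_spec C relF_hyp 1237356000 tc_eq 6408192 2048 ck_3129 b (by omega) (by omega)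
  rcases Nat.lt_or_ge b 6412288 with g10 | g10
  · exact chkURangeF_spec C relF_hyp 1237356000 tc_eq 6410240 2048 ck_3130 b (by omega) (by omega)
  rcases Nat.lt_or_ge b 6414336 with g11 | g11
  · exact chkURangeF_spec C relF_hyp 1237356000 tc_eq 6412288 2048 ck_3131 b (by omega) (by omega)
  rcases Nat.lt_or_ge b 6416384 with g12 | g12
  · exact chkURangeF_spec C relF_hyp 1237356000 tc_eq 6414336 2048 ck_3132 b (by omega) (by omega)
  rcases Nat.lt_or_ge b 6418432 with g13 | g13
  · exact chkURangeF_spec C relF_hyp 1237356000 tc_eq 6416384 2048 ck_3133 b (by omega) (by omega)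
  rcases Nat.lt_or_ge b 6420480 with g14 | g14
  · exact chkURangeF_spec C relF_hyp 1237356000 tc_eq 6418432 2048 ck_3134 b (by omega) (by omega)
  rcases Nat.lt_or_ge b 6422528 with g15 | g15
  · exact chkURangeF_spec C relF_hyp 1237356000 tc_eq 6420480 2048 ck_3135 b (by omega) (by omega)
  rcases Nat.lt_or_ge b 6424576 with g16 | g16
  · exact chkURangeF_spec C relF_hyp 1237356000 tc_eq 6422528 2048 ck_3136 b (by omega) (by omega)
  rcases Nat.lt_or_ge b 6426624 with g17 | g17
  · exact chkURangeF_spec C relF_hyp 1237356000 tc_eq 6424576 2048 ck_3137 b (by omega) (by omega)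
  rcases Nat.lt_or_ge b 6428672 with g18 | g18
  · exact chkURangeF_spec C relF_hyp 1237356000 tc_eq 6426624 2048 ck_3138 b (by omega) (by omega)
  rcases Nat.lt_or_ge b 6430720 with g19 | g19
  · exact chkURangeF_spec C relF_hyp 1237356000 tc_eq 6428672 2048 ck_3139 b (by omega) (by omega)
  rcases Nat.lt_or_ge b 6432768 with g20 | g20
  · exact chkURangeF_spec C relF_hyp 1237356000 tc_eq 6430720 2048 ck_3140 b (by omega) (by omega)
  rcases Nat.lt_or_ge b 6434816 with g21 | g21
  · exact chkURangeF_spec C relF_hyp 1237356000 tc_eq 6432768 2048 ck_3141 b (by omega) (by omega)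
  rcases Nat.lt_or_ge b 6436864 with g22 | g22
  · exact chkURangeF_spec C relF_hyp 1237356000 tc_eq 6434816 2048 ck_3142 b (by omega) (by omega)
  exact chkURangeF_spec C relF_hyp 1237356000 tc_eq 6436864 2048 ck_3143 b (by omega) (by omega)
end Cfsg.Agent.Lib.Helper2.HNMult.P5
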