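import Cfsg.Agent.Lib.Helper2.HNMult.P5.Cert
set_option autoImplicit false
set_option maxRecDepth 1000000
set_option Elab.async false
namespace Cfsg.Agent.Lib.Helper2.HNMult.P5
open Cfsg.Agent.Lib.Helper4.Sparse Cfsg.Agent.Lib.Helper2.SparseF
theorem ck_3144 : chkURangeF D C relF 796 1237356000 6438912 2048 = true := by decide +kernel
theorem ck_3145 : chkURangeF D C relF 796 1237356000 6440960 2048 = true := by decide +kernel
theorem ck_3146 : chkURangeF D C relF 796 1237356000 6443008 2048 = true := by decide +kernel
theorem ck_3147 : chkURangeF D C relF 796 1237356000 6445056 2048 = true := by decide +kernel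
theorem ck_3148 : chkURangeF D C relF 796 1237356000 6447104 2048 = true := by decide +kernel
theorem ck_3149 : chkURangeF D C relF 796 1237356000 6449152 2048 = true := by decide +kernel
theorem ck_3150 : chkURangeF D C relF 796 1237356000 6451200 2048 = true := by decide +kernel
theorem ck_3151 : chkURangeF D C relF 796 1237356000 6453248 2048 = true := by decide +kernel
theorem ck_3152 : chkURangeF D C relF 796 1237356000 6455296 2048 = true := by decide +kernel
theorem ck_3153 : chkURangeF D C relF 796 1237356000 6457344 2048 = true := by decide +kernel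
theorem ck_3154 : chkURangeF D C relF 796 1237356000 6459392 2048 = true := by decide +kernel
theorem ck_3155 : chkURangeF D C relF 796 1237356000 6461440 2048 = true := by decide +kernel
theorem ck_3156 : chkURangeF D C relF 796 1237356000 6463488 2048 = true := by decide +kernel
theorem ck_3157 : chkURangeF D C relF 796 1237356000 6465536 2048 = true := by decide +kernel
theorem ck_3158 : chkURangeF D C relF 796 1237356000 6467584 2048 = true := by decide +kernel
theorem ck_3159 : chkURangeF D C relF 796 1237356000 6469632 2048 = true := by decide +kernel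
theorem ck_3160 : chkURangeF D C relF 796 1237356000 6471680 2048 = true := by decide +kernel
theorem ck_3161 : chkURangeF D C relF 796 1237356000 6473728 2048 = true := by decide +kernel
theorem ck_3162 : chkURangeF D C relF 796 1237356000 6475776 2048 = true := by decide +kernel
theorem ck_3163 : chkURangeF D C relF 796 1237356000 6477824 2048 = true := by decide +kernel
theorem ck_3164 : chkURangeF D C relF 796 1237356000 6479872 2048 = true := by decide +kernel
theorem ck_3165 : chkURangeF D C relF 796 1237356000 6481920 2048 = true := by decide +kernel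
theorem ck_3166 : chkURangeF D C relF 796 1237356000 6483968 2048 = true := by decide +kernel
theorem ck_3167 : chkURangeF D C relF 796 1237356000 6486016 2048 = true := by decide +kernel
theorem chkU_131 (b : ℕ) (h1 : 6438912 ≤ b) (h2 : b < 6488064) : chkU D C b = true := by
  rcases Nat.lt_or_ge b 6440960 with g0 | g0
  · exact chkURangeF_spec C relF_hyp 1237356000 tc_eq 6438912 2048 ck_3144 b (by omega) (by omega)
  rcases Nat.lt_or_ge b 6443008 with g1 | g1
  · exact chkURangeF_spec C relF_hyp 1237356000 tc_eq 6440960 2048 ck_3145 b (by omega) (by omega)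
  rcases Nat.lt_or_ge b 6445056 with g2 | g2
  · exact chkURangeF_spec C relF_hyp 1237356000 tc_eq 6443008 2048 ck_3146 b (by omega) (by omega)
  rcases Nat.lt_or_ge b 6447104 with g3 | g3
  · exact chkURangeF_spec C relF_hyp 1237356000 tc_eq 6445056 2048 ck_3147 b (by omega) (by omega)
  rcases Nat.lt_or_ge b 6449152 with g4 | g4
  · exact chkURangeF_spec C relF_hyp 1237356000 tc_eq 6447104 2048 ck_3148 b (by omega) (by omega)
  rcases Nat.lt_or_ge b 6451200 with g5 | g5
  · exact chkURangeF_spec C relF_hyp 1237356000 tc_eq 6449152 2048 ck_3149 b (by omega) (by omega)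
  rcases Nat.lt_or_ge b 6453248 with g6 | g6
  · exact chkURangeF_spec C relF_hyp 1237356000 tc_eq 6451200 2048 ck_3150 b (by omega) (by omega)
  rcases Nat.lt_or_ge b 6455296 with g7 | g7
  · exact chkURangeF_spec C relF_hyp 1237356000 tc_eq 6453248 2048 ck_3151 b (by omega) (by omega)
  rcases Nat.lt_or_ge b 6457344 with g8 | g8
  · exact chkURangeF_spec C relF_hyp 1237356000 tc_eq 6455296 2048 ck_3152 b (by omega) (by omega)
  rcases Nat.lt_or_ge b 6459392 with g9 | g9
  · exact chkURangeF_spec C relF_hyp 1237356000 tc_eq 6457344 2048 ck_3153 b (by omega) (by omega)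
  rcases Nat.lt_or_ge b 6461440 with g10 | g10
  · exact chkURangeF_spec C relF_hyp 1237356000 tc_eq 6459392 2048 ck_3154 b (by omega) (by omega)
  rcases Nat.lt_or_ge b 6463488 with g11 | g11
  · exact chkURangeF_spec C relF_hyp 1237356000 tc_eq 6461440 2048 ck_3155 b (by omega) (by omega)
  rcases Nat.lt_or_ge b 6465536 with g12 | g12
  · exact chkURangeF_spec C relF_hyp 1237356000 tc_eq 6463488 2048 ck_3156 b (by omega) (by omega)
  rcases Nat.lt_or_ge b 6467584 with g13 | g13
  · exact chkURangeF_spec C relF_hyp 1237356000 tc_eq 6465536 2048 ck_3157 b (by omega) (by omega)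
  rcases Nat.lt_or_ge b 6469632 with g14 | g14
  · exact chkURangeF_spec C relF_hyp 1237356000 tc_eq 6467584 2048 ck_3158 b (by omega) (by omega)
  rcases Nat.lt_or_ge b 6471680 with g15 | g15
  · exact chkURangeF_spec C relF_hyp 1237356000 tc_eq 6469632 2048 ck_3159 b (by omega) (by omega)
  rcases Nat.lt_or_ge b 6473728 with g16 | g16
  · exact chkURangeF_spec C relF_hyp 1237356000 tc_eq 6471680 2048 ck_3160 b (by omega) (by omega)
  rcases Nat.lt_or_ge b 6475776 with g17 | g17
  · exact chkURangeF_spec C relF_hyp 1237356000 tc_eq 6473728 2048 ck_3161 b (by omega) (by omega)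
  rcases Nat.lt_or_ge b 6477824 with g18 | g18
  · exact chkURangeF_spec C relF_hyp 1237356000 tc_eq 6475776 2048 ck_3162 b (by omega) (by omega)
  rcases Nat.lt_or_ge b 6479872 with g19 | g19
  · exact chkURangeF_spec C relF_hyp 1237356000 tc_eq 6477824 2048 ck_3163 b (by omega) (by omega)
  rcases Nat.lt_or_ge b 6481920 with g20 | g20
  · exact chkURangeF_spec C relF_hyp 1237356000 tc_eq 6479872 2048 ck_3164 b (by omega) (by omega)
  rcases Nat.lt_or_ge b 6483968 with g21 | g21
  · exact chkURangeF_spec C relF_hyp 1237356000 tc_eq 6481920 2048 ck_3165 b (by omega) (by omega)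
  rcases Nat.lt_or_ge b 6486016 with g22 | g22
  · exact chkURangeF_spec C relF_hyp 1237356000 tc_eq 6483968 2048 ck_3166 b (by omega) (by omega)
  exact chkURangeF_spec C relF_hyp 1237356000 tc_eq 6486016 2048 ck_3167 b (by omega) (by omega)
end Cfsg.Agent.Lib.Helper2.HNMult.P5
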