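import Cfsg.Agent.Lib.Helper2.HNMult.P5.Cert
set_option autoImplicit false
set_option maxRecDepth 1000000
set_option Elab.async false
namespace Cfsg.Agent.Lib.Helper2.HNMult.P5
open Cfsg.Agent.Lib.Helper4.Sparse Cfsg.Agent.Lib.Helper2.SparseF
theorem ck_3168 : chkURangeF D C relF 796 1237356000 6488064 2048 = true := by decide +kernel
theorem ck_3169 : chkURangeF D C relF 796 1237356000 6490112 2048 = true := by decide +kernel
theorem ck_3170 : chkURangeF D C relF 796 1237356000 6492160 2048 = true := by decide +kernel
theorem ck_3171 : chkURangeF D C relF 796 1237356000 6494208 2048 = true := by decide +kernel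
theorem ck_3172 : chkURangeF D C relF 796 1237356000 6496256 2048 = true := by decide +kernel
theorem ck_3173 : chkURangeF D C relF 796 1237356000 6498304 2048 = true := by decide +kernel
theorem ck_3174 : chkURangeF D C relF 796 1237356000 6500352 2048 = true := by decide +kernel
theorem ck_3175 : chkURangeF D C relF 796 1237356000 6502400 2048 = true := by decide +kernel
theorem ck_3176 : chkURangeF D C relF 796 1237356000 6504448 2048 = true := by decide +kernel
theorem ck_3177 : chkURangeF D C relF 796 1237356000 6506496 2048 = true := by decide +kernel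
theorem ck_3178 : chkURangeF D C relF 796 1237356000 6508544 2048 = true := by decide +kernel
theorem ck_3179 : chkURangeF D C relF 796 1237356000 6510592 2048 = true := by decide +kernel
theorem ck_3180 : chkURangeF D C relF 796 1237356000 6512640 2048 = true := by decide +kernel
theorem ck_3181 : chkURangeF D C relF 796 1237356000 6514688 2048 = true := by decide +kernel
theorem ck_3182 : chkURangeF D C relF 796 1237356000 6516736 2048 = true := by decide +kernel
theorem ck_3183 : chkURangeF D C relF 796 1237356000 6518784 2048 = true := by decide +kernel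
theorem ck_3184 : chkURangeF D C relF 796 1237356000 6520832 2048 = true := by decide +kernel
theorem ck_3185 : chkURangeF D C relF 796 1237356000 6522880 2048 = true := by decide +kernel
theorem ck_3186 : chkURangeF D C relF 796 1237356000 6524928 2048 = true := by decide +kernel
theorem ck_3187 : chkURangeF D C relF 796 1237356000 6526976 2048 = true := by decide +kernel
theorem ck_3188 : chkURangeF D C relF 796 1237356000 6529024 2048 = true := by decide +kernel
theorem ck_3189 : chkURangeF D C relF 796 1237356000 6531072 2048 = true := by decide +kernel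
theorem ck_3190 : chkURangeF D C relF 796 1237356000 6533120 2048 = true := by decide +kernel
theorem ck_3191 : chkURangeF D C relF 796 1237356000 6535168 2048 = true := by decide +kernel
theorem chkU_132 (b : ℕ) (h1 : 6488064 ≤ b) (h2 : b < 6537216) : chkU D C b = true := by
  rcases Nat.lt_or_ge b 6490112 with g0 | g0
  · exact chkURangeF_spec C relF_hyp 1237356000 tc_eq 6488064 2048 ck_3168 b (by omega) (by omega)
  rcases Nat.lt_or_ge b 6492160 with g1 | g1
  · exact chkURangeF_spec C relF_hyp 1237356000 tc_eq 6490112 2048 ck_3169 b (by omega) (by omega)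
  rcases Nat.lt_or_ge b 6494208 with g2 | g2
  · exact chkURangeF_spec C relF_hyp 1237356000 tc_eq 6492160 2048 ck_3170 b (by omega) (by omega)
  rcases Nat.lt_or_ge b 6496256 with g3 | g3
  · exact chkURangeF_spec C relF_hyp 1237356000 tc_eq 6494208 2048 ck_3171 b (by omega) (by omega)
  rcases Nat.lt_or_ge b 6498304 with g4 | g4
  · exact chkURangeF_spec C relF_hyp 1237356000 tc_eq 6496256 2048 ck_3172 b (by omega) (by omega)
  rcases Nat.lt_or_ge b 6500352 with g5 | g5
  · exact chkURangeF_spec C relF_hyp 1237356000 tc_eq 6498304 2048 ck_3173 b (by omega) (by omega)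
  rcases Nat.lt_or_ge b 6502400 with g6 | g6
  · exact chkURangeF_spec C relF_hyp 1237356000 tc_eq 6500352 2048 ck_3174 b (by omega) (by omega)
  rcases Nat.lt_or_ge b 6504448 with g7 | g7
  · exact chkURangeF_spec C relF_hyp 1237356000 tc_eq 6502400 2048 ck_3175 b (by omega) (by omega)
  rcases Nat.lt_or_ge b 6506496 with g8 | g8
  · exact chkURangeF_spec C relF_hyp 1237356000 tc_eq 6504448 2048 ck_3176 b (by omega) (by omega)
  rcases Nat.lt_or_ge b 6508544 with g9 | g9
  · exact chkURangeF_spec C relF_hyp 1237356000 tc_eq 6506496 2048 ck_3177 b (by omega) (by omega)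
  rcases Nat.lt_or_ge b 6510592 with g10 | g10
  · exact chkURangeF_spec C relF_hyp 1237356000 tc_eq 6508544 2048 ck_3178 b (by omega) (by omega)
  rcases Nat.lt_or_ge b 6512640 with g11 | g11
  · exact chkURangeF_spec C relF_hyp 1237356000 tc_eq 6510592 2048 ck_3179 b (by omega) (by omega)
  rcases Nat.lt_or_ge b 6514688 with g12 | g12
  · exact chkURangeF_spec C relF_hyp 1237356000 tc_eq 6512640 2048 ck_3180 b (by omega) (by omega)
  rcases Nat.lt_or_ge b 6516736 with g13 | g13
  · exact chkURangeF_spec C relF_hyp 1237356000 tc_eq 6514688 2048 ck_3181 b (by omega) (by omega)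
  rcases Nat.lt_or_ge b 6518784 with g14 | g14
  · exact chkURangeF_spec C relF_hyp 1237356000 tc_eq 6516736 2048 ck_3182 b (by omega) (by omega)
  rcases Nat.lt_or_ge b 6520832 with g15 | g15
  · exact chkURangeF_spec C relF_hyp 1237356000 tc_eq 6518784 2048 ck_3183 b (by omega) (by omega)
  rcases Nat.lt_or_ge b 6522880 with g16 | g16
  · exact chkURangeF_spec C relF_hyp 1237356000 tc_eq 6520832 2048 ck_3184 b (by omega) (by omega)
  rcases Nat.lt_or_ge b 6524928 with g17 | g17
  · exact chkURangeF_spec C relF_hyp 1237356000 tc_eq 6522880 2048 ck_3185 b (by omega) (by omega)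
  rcases Nat.lt_or_ge b 6526976 with g18 | g18
  · exact chkURangeF_spec C relF_hyp 1237356000 tc_eq 6524928 2048 ck_3186 b (by omega) (by omega)
  rcases Nat.lt_or_ge b 6529024 with g19 | g19
  · exact chkURangeF_spec C relF_hyp 1237356000 tc_eq 6526976 2048 ck_3187 b (by omega) (by omega)
  rcases Nat.lt_or_ge b 6531072 with g20 | g20
  · exact chkURangeF_spec C relF_hyp 1237356000 tc_eq 6529024 2048 ck_3188 b (by omega) (by omega)
  rcases Nat.lt_or_ge b 6533120 with g21 | g21
  · exact chkURangeF_spec C relF_hyp 1237356000 tc_eq 6531072 2048 ck_3189 b (by omega) (by omega)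
  rcases Nat.lt_or_ge b 6535168 with g22 | g22
  · exact chkURangeF_spec C relF_hyp 1237356000 tc_eq 6533120 2048 ck_3190 b (by omega) (by omega)
  exact chkURangeF_spec C relF_hyp 1237356000 tc_eq 6535168 2048 ck_3191 b (by omega) (by omega)
end Cfsg.Agent.Lib.Helper2.HNMult.P5
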