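import Cfsg.Agent.Lib.Helper2.HNMult.P5.Cert
set_option autoImplicit false
set_option maxRecDepth 1000000
set_option Elab.async false
namespace Cfsg.Agent.Lib.Helper2.HNMult.P5
open Cfsg.Agent.Lib.Helper4.Sparse Cfsg.Agent.Lib.Helper2.SparseF
theorem ck_3360 : chkURangeF D C relF 796 1237356000 6881280 2048 = true := by decide +kernel
theorem ck_3361 : chkURangeF D C relF 796 1237356000 6883328 2048 = true := by decide +kernel
theorem ck_3362 : chkURangeF D C relF 796 1237356000 6885376 2048 = true := by decide +kernel
theorem ck_3363 : chkURangeF D C relF 796 1237356000 6887424 2048 = true := by decide +kernel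
theorem ck_3364 : chkURangeF D C relF 796 1237356000 6889472 2048 = true := by decide +kernel
theorem ck_3365 : chkURangeF D C relF 796 1237356000 6891520 2048 = true := by decide +kernel
theorem ck_3366 : chkURangeF D C relF 796 1237356000 6893568 2048 = true := by decide +kernel
theorem ck_3367 : chkURangeF D C relF 796 1237356000 6895616 2048 = true := by decide +kernel
theorem ck_3368 : chkURangeF D C relF 796 1237356000 6897664 2048 = true := by decide +kernel
theorem ck_3369 : chkURangeF D C relF 796 1237356000 6899712 2048 = true := by decide +kernel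
theorem ck_3370 : chkURangeF D C relF 796 1237356000 6901760 2048 = true := by decide +kernel
theorem ck_3371 : chkURangeF D C relF 796 1237356000 6903808 2048 = true := by decide +kernel
theorem ck_3372 : chkURangeF D C relF 796 1237356000 6905856 2048 = true := by decide +kernel
theorem ck_3373 : chkURangeF D C relF 796 1237356000 6907904 2048 = true := by decide +kernel
theorem ck_3374 : chkURangeF D C relF 796 1237356000 6909952 2048 = true := by decide +kernel
theorem ck_3375 : chkURangeF D C relF 796 1237356000 6912000 2048 = true := by decide +kernel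
theorem ck_3376 : chkURangeF D C relF 796 1237356000 6914048 2048 = true := by decide +kernel
theorem ck_3377 : chkURangeF D C relF 796 1237356000 6916096 2048 = true := by decide +kernel
theorem ck_3378 : chkURangeF D C relF 796 1237356000 6918144 2048 = true := by decide +kernel
theorem ck_3379 : chkURangeF D C relF 796 1237356000 6920192 2048 = true := by decide +kernel
theorem ck_3380 : chkURangeF D C relF 796 1237356000 6922240 2048 = true := by decide +kernel
theorem ck_3381 : chkURangeF D C relF 796 1237356000 6924288 2048 = true := by decide +kernel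
theorem ck_3382 : chkURangeF D C relF 796 1237356000 6926336 2048 = true := by decide +kernel
theorem ck_3383 : chkURangeF D C relF 796 1237356000 6928384 2048 = true := by decide +kernel
theorem chkU_140 (b : ℕ) (h1 : 6881280 ≤ b) (h2 : b < 6930432) : chkU D C b = true := by
  rcases Nat.lt_or_ge b 6883328 with g0 | g0
  · exact chkURangeF_spec C relF_hyp 1237356000 tc_eq 6881280 2048 ck_3360 b (by omega) (by omega)
  rcases Nat.lt_or_ge b 6885376 with g1 | g1
  · exact chkURangeF_spec C relF_hyp 1237356000 tc_eq 6883328 2048 ck_3361 b (by omega) (by omega)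
  rcases Nat.lt_or_ge b 6887424 with g2 | g2
  · exact chkURangeF_spec C relF_hyp 1237356000 tc_eq 6885376 2048 ck_3362 b (by omega) (by omega)
  rcases Nat.lt_or_ge b 6889472 with g3 | g3
  · exact chkURangeF_spec C relF_hyp 1237356000 tc_eq 6887424 2048 ck_3363 b (by omega) (by omega)
  rcases Nat.lt_or_ge b 6891520 with g4 | g4
  · exact chkURangeF_spec C relF_hyp 1237356000 tc_eq 6889472 2048 ck_3364 b (by omega) (by omega)
  rcases Nat.lt_or_ge b 6893568 with g5 | g5
  · exact chkURangeF_spec C relF_hyp 1237356000 tc_eq 6891520 2048 ck_3365 b (by omega) (by omega)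
  rcases Nat.lt_or_ge b 6895616 with g6 | g6
  · exact chkURangeF_spec C relF_hyp 1237356000 tc_eq 6893568 2048 ck_3366 b (by omega) (by omega)
  rcases Nat.lt_or_ge b 6897664 with g7 | g7
  · exact chkURangeF_spec C relF_hyp 1237356000 tc_eq 6895616 2048 ck_3367 b (by omega) (by omega)
  rcases Nat.lt_or_ge b 6899712 with g8 | g8
  · exact chkURangeF_spec C relF_hyp 1237356000 tc_eq 6897664 2048 ck_3368 b (by omega) (by omega)
  rcases Nat.lt_or_ge b 6901760 with g9 | g9
  · exact chkURangeF_spec C relF_hyp 1237356000 tc_eq 6899712 2048 ck_3369 b (by omega) (by omega)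
  rcases Nat.lt_or_ge b 6903808 with g10 | g10
  · exact chkURangeF_spec C relF_hyp 1237356000 tc_eq 6901760 2048 ck_3370 b (by omega) (by omega)
  rcases Nat.lt_or_ge b 6905856 with g11 | g11
  · exact chkURangeF_spec C relF_hyp 1237356000 tc_eq 6903808 2048 ck_3371 b (by omega) (by omega)
  rcases Nat.lt_or_ge b 6907904 with g12 | g12
  · exact chkURangeF_spec C relF_hyp 1237356000 tc_eq 6905856 2048 ck_3372 b (by omega) (by omega)
  rcases Nat.lt_or_ge b 6909952 with g13 | g13
  · exact chkURangeF_spec C relF_hyp 1237356000 tc_eq 6907904 2048 ck_3373 b (by omega) (by omega)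
  rcases Nat.lt_or_ge b 6912000 with g14 | g14
  · exact chkURangeF_spec C relF_hyp 1237356000 tc_eq 6909952 2048 ck_3374 b (by omega) (by omega)
  rcases Nat.lt_or_ge b 6914048 with g15 | g15
  · exact chkURangeF_spec C relF_hyp 1237356000 tc_eq 6912000 2048 ck_3375 b (by omega) (by omega)
  rcases Nat.lt_or_ge b 6916096 with g16 | g16
  · exact chkURangeF_spec C relF_hyp 1237356000 tc_eq 6914048 2048 ck_3376 b (by omega) (by omega)
  rcases Nat.lt_or_ge b 6918144 with g17 | g17
  · exact chkURangeF_spec C relF_hyp 1237356000 tc_eq 6916096 2048 ck_3377 b (by omega) (by omega)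
  rcases Nat.lt_or_ge b 6920192 with g18 | g18
  · exact chkURangeF_spec C relF_hyp 1237356000 tc_eq 6918144 2048 ck_3378 b (by omega) (by omega)
  rcases Nat.lt_or_ge b 6922240 with g19 | g19
  · exact chkURangeF_spec C relF_hyp 1237356000 tc_eq 6920192 2048 ck_3379 b (by omega) (by omega)
  rcases Nat.lt_or_ge b 6924288 with g20 | g20
  · exact chkURangeF_spec C relF_hyp 1237356000 tc_eq 6922240 2048 ck_3380 b (by omega) (by omega)
  rcases Nat.lt_or_ge b 6926336 with g21 | g21
  · exact chkURangeF_spec C relF_hyp 1237356000 tc_eq 6924288 2048 ck_3381 b (by omega) (by omega)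
  rcases Nat.lt_or_ge b 6928384 with g22 | g22
  · exact chkURangeF_spec C relF_hyp 1237356000 tc_eq 6926336 2048 ck_3382 b (by omega) (by omega)
  exact chkURangeF_spec C relF_hyp 1237356000 tc_eq 6928384 2048 ck_3383 b (by omega) (by omega)
end Cfsg.Agent.Lib.Helper2.HNMult.P5
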