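import Cfsg.Agent.Lib.Helper2.HNMult.P5.Cert
set_option autoImplicit false
set_option maxRecDepth 1000000
set_option Elab.async false
namespace Cfsg.Agent.Lib.Helper2.HNMult.P5
open Cfsg.Agent.Lib.Helper4.Sparse Cfsg.Agent.Lib.Helper2.SparseF
theorem ck_3384 : chkURangeF D C relF 796 1237356000 6930432 2048 = true := by decide +kernel
theorem ck_3385 : chkURangeF D C relF 796 1237356000 6932480 2048 = true := by decide +kernel
theorem ck_3386 : chkURangeF D C relF 796 1237356000 6934528 2048 = true := by decide +kernel
theorem ck_3387 : chkURangeF D C relF 796 1237356000 6936576 2048 = true := by decide +kernel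
theorem ck_3388 : chkURangeF D C relF 796 1237356000 6938624 2048 = true := by decide +kernel
theorem ck_3389 : chkURangeF D C relF 796 1237356000 6940672 2048 = true := by decide +kernel
theorem ck_3390 : chkURangeF D C relF 796 1237356000 6942720 2048 = true := by decide +kernel
theorem ck_3391 : chkURangeF D C relF 796 1237356000 6944768 2048 = true := by decide +kernel
theorem ck_3392 : chkURangeF D C relF 796 1237356000 6946816 2048 = true := by decide +kernel
theorem ck_3393 : chkURangeF D C relF 796 1237356000 6948864 2048 = true := by decide +kernel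
theorem ck_3394 : chkURangeF D C relF 796 1237356000 6950912 2048 = true := by decide +kernel
theorem ck_3395 : chkURangeF D C relF 796 1237356000 6952960 2048 = true := by decide +kernel
theorem ck_3396 : chkURangeF D C relF 796 1237356000 6955008 2048 = true := by decide +kernel
theorem ck_3397 : chkURangeF D C relF 796 1237356000 6957056 2048 = true := by decide +kernel
theorem ck_3398 : chkURangeF D C relF 796 1237356000 6959104 2048 = true := by decide +kernel
theorem ck_3399 : chkURangeF D C relF 796 1237356000 6961152 2048 = true := by decide +kernel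
theorem ck_3400 : chkURangeF D C relF 796 1237356000 6963200 2048 = true := by decide +kernel
theorem ck_3401 : chkURangeF D C relF 796 1237356000 6965248 2048 = true := by decide +kernel
theorem ck_3402 : chkURangeF D C relF 796 1237356000 6967296 2048 = true := by decide +kernel
theorem ck_3403 : chkURangeF D C relF 796 1237356000 6969344 2048 = true := by decide +kernel
theorem ck_3404 : chkURangeF D C relF 796 1237356000 6971392 2048 = true := by decide +kernel
theorem ck_3405 : chkURangeF D C relF 796 1237356000 6973440 2048 = true := by decide +kernel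
theorem ck_3406 : chkURangeF D C relF 796 1237356000 6975488 2048 = true := by decide +kernel
theorem ck_3407 : chkURangeF D C relF 796 1237356000 6977536 2048 = true := by decide +kernel
theorem chkU_141 (b : ℕ) (h1 : 6930432 ≤ b) (h2 : b < 6979584) : chkU D C b = true := by
  rcases Nat.lt_or_ge b 6932480 with g0 | g0
  · exact chkURangeF_spec C relF_hyp 1237356000 tc_eq 6930432 2048 ck_3384 b (by omega) (by omega)
  rcases Nat.lt_or_ge b 6934528 with g1 | g1
  · exact chkURangeF_spec C relF_hyp 1237356000 tc_eq 6932480 2048 ck_3385 b (by omega) (by omega)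
  rcases Nat.lt_or_ge b 6936576 with g2 | g2
  · exact chkURangeF_spec C relF_hyp 1237356000 tc_eq 6934528 2048 ck_3386 b (by omega) (by omega)
  rcases Nat.lt_or_ge b 6938624 with g3 | g3
  · exact chkURangeF_spec C relF_hyp 1237356000 tc_eq 6936576 2048 ck_3387 b (by omega) (by omega)
  rcases Nat.lt_or_ge b 6940672 with g4 | g4
  · exact chkURangeF_spec C relF_hyp 1237356000 tc_eq 6938624 2048 ck_3388 b (by omega) (by omega)
  rcases Nat.lt_or_ge b 6942720 with g5 | g5
  · exact chkURangeF_spec C relF_hyp 1237356000 tc_eq 6940672 2048 ck_3389 b (by omega) (by omega)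
  rcases Nat.lt_or_ge b 6944768 with g6 | g6
  · exact chkURangeF_spec C relF_hyp 1237356000 tc_eq 6942720 2048 ck_3390 b (by omega) (by omega)
  rcases Nat.lt_or_ge b 6946816 with g7 | g7
  · exact chkURangeF_spec C relF_hyp 1237356000 tc_eq 6944768 2048 ck_3391 b (by omega) (by omega)
  rcases Nat.lt_or_ge b 6948864 with g8 | g8
  · exact chkURangeF_spec C relF_hyp 1237356000 tc_eq 6946816 2048 ck_3392 b (by omega) (by omega)
  rcases Nat.lt_or_ge b 6950912 with g9 | g9
  · exact chkURangeF_spec C relF_hyp 1237356000 tc_eq 6948864 2048 ck_3393 b (by omega) (by omega)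
  rcases Nat.lt_or_ge b 6952960 with g10 | g10
  · exact chkURangeF_spec C relF_hyp 1237356000 tc_eq 6950912 2048 ck_3394 b (by omega) (by omega)
  rcases Nat.lt_or_ge b 6955008 with g11 | g11
  · exact chkURangeF_spec C relF_hyp 1237356000 tc_eq 6952960 2048 ck_3395 b (by omega) (by omega)
  rcases Nat.lt_or_ge b 6957056 with g12 | g12
  · exact chkURangeF_spec C relF_hyp 1237356000 tc_eq 6955008 2048 ck_3396 b (by omega) (by omega)
  rcases Nat.lt_or_ge b 6959104 with g13 | g13
  · exact chkURangeF_spec C relF_hyp 1237356000 tc_eq 6957056 2048 ck_3397 b (by omega) (by omega)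
  rcases Nat.lt_or_ge b 6961152 with g14 | g14
  · exact chkURangeF_spec C relF_hyp 1237356000 tc_eq 6959104 2048 ck_3398 b (by omega) (by omega)
  rcases Nat.lt_or_ge b 6963200 with g15 | g15
  · exact chkURangeF_spec C relF_hyp 1237356000 tc_eq 6961152 2048 ck_3399 b (by omega) (by omega)
  rcases Nat.lt_or_ge b 6965248 with g16 | g16
  · exact chkURangeF_spec C relF_hyp 1237356000 tc_eq 6963200 2048 ck_3400 b (by omega) (by omega)
  rcases Nat.lt_or_ge b 6967296 with g17 | g17
  · exact chkURangeF_spec C relF_hyp 1237356000 tc_eq 6965248 2048 ck_3401 b (by omega) (by omega)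
  rcases Nat.lt_or_ge b 6969344 with g18 | g18
  · exact chkURangeF_spec C relF_hyp 1237356000 tc_eq 6967296 2048 ck_3402 b (by omega) (by omega)
  rcases Nat.lt_or_ge b 6971392 with g19 | g19
  · exact chkURangeF_spec C relF_hyp 1237356000 tc_eq 6969344 2048 ck_3403 b (by omega) (by omega)
  rcases Nat.lt_or_ge b 6973440 with g20 | g20
  · exact chkURangeF_spec C relF_hyp 1237356000 tc_eq 6971392 2048 ck_3404 b (by omega) (by omega)
  rcases Nat.lt_or_ge b 6975488 with g21 | g21
  · exact chkURangeF_spec C relF_hyp 1237356000 tc_eq 6973440 2048 ck_3405 b (by omega) (by omega)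
  rcases Nat.lt_or_ge b 6977536 with g22 | g22
  · exact chkURangeF_spec C relF_hyp 1237356000 tc_eq 6975488 2048 ck_3406 b (by omega) (by omega)
  exact chkURangeF_spec C relF_hyp 1237356000 tc_eq 6977536 2048 ck_3407 b (by omega) (by omega)
end Cfsg.Agent.Lib.Helper2.HNMult.P5
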