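import Cfsg.Agent.Lib.Helper2.HNMult.P5.Cert
set_option autoImplicit false
set_option maxRecDepth 1000000
set_option Elab.async false
namespace Cfsg.Agent.Lib.Helper2.HNMult.P5
open Cfsg.Agent.Lib.Helper4.Sparse Cfsg.Agent.Lib.Helper2.SparseF
theorem ck_3432 : chkURangeF D C relF 796 1237356000 7028736 2048 = true := by decide +kernel
theorem ck_3433 : chkURangeF D C relF 796 1237356000 7030784 2048 = true := by decide +kernel
theorem ck_3434 : chkURangeF D C relF 796 1237356000 7032832 2048 = true := by decide +kernel
theorem ck_3435 : chkURangeF D C relF 796 1237356000 7034880 2048 = true := by decide +kernel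
theorem ck_3436 : chkURangeF D C relF 796 1237356000 7036928 2048 = true := by decide +kernel
theorem ck_3437 : chkURangeF D C relF 796 1237356000 7038976 2048 = true := by decide +kernel
theorem ck_3438 : chkURangeF D C relF 796 1237356000 7041024 2048 = true := by decide +kernel
theorem ck_3439 : chkURangeF D C relF 796 1237356000 7043072 2048 = true := by decide +kernel
theorem ck_3440 : chkURangeF D C relF 796 1237356000 7045120 2048 = true := by decide +kernel
theorem ck_3441 : chkURangeF D C relF 796 1237356000 7047168 2048 = true := by decide +kernel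
theorem ck_3442 : chkURangeF D C relF 796 1237356000 7049216 2048 = true := by decide +kernel
theorem ck_3443 : chkURangeF D C relF 796 1237356000 7051264 2048 = true := by decide +kernel
theorem ck_3444 : chkURangeF D C relF 796 1237356000 7053312 2048 = true := by decide +kernel
theorem ck_3445 : chkURangeF D C relF 796 1237356000 7055360 2048 = true := by decide +kernel
theorem ck_3446 : chkURangeF D C relF 796 1237356000 7057408 2048 = true := by decide +kernel
theorem ck_3447 : chkURangeF D C relF 796 1237356000 7059456 2048 = true := by decide +kernel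
theorem ck_3448 : chkURangeF D C relF 796 1237356000 7061504 2048 = true := by decide +kernel
theorem ck_3449 : chkURangeF D C relF 796 1237356000 7063552 2048 = true := by decide +kernel
theorem ck_3450 : chkURangeF D C relF 796 1237356000 7065600 2048 = true := by decide +kernel
theorem ck_3451 : chkURangeF D C relF 796 1237356000 7067648 2048 = true := by decide +kernel
theorem ck_3452 : chkURangeF D C relF 796 1237356000 7069696 2048 = true := by decide +kernel
theorem ck_3453 : chkURangeF D C relF 796 1237356000 7071744 2048 = true := by decide +kernel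
theorem ck_3454 : chkURangeF D C relF 796 1237356000 7073792 2048 = true := by decide +kernel
theorem ck_3455 : chkURangeF D C relF 796 1237356000 7075840 2048 = true := by decide +kernel
theorem chkU_143 (b : ℕ) (h1 : 7028736 ≤ b) (h2 : b < 7077888) : chkU D C b = true := by
  rcases Nat.lt_or_ge b 7030784 with g0 | g0
  · exact chkURangeF_spec C relF_hyp 1237356000 tc_eq 7028736 2048 ck_3432 b (by omega) (by omega)
  rcases Nat.lt_or_ge b 7032832 with g1 | g1
  · exact chkURangeF_spec C relF_hyp 1237356000 tc_eq 7030784 2048 ck_3433 b (by omega) (by omega)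
  rcases Nat.lt_or_ge b 7034880 with g2 | g2
  · exact chkURangeF_spec C relF_hyp 1237356000 tc_eq 7032832 2048 ck_3434 b (by omega) (by omega)
  rcases Nat.lt_or_ge b 7036928 with g3 | g3
  · exact chkURangeF_spec C relF_hyp 1237356000 tc_eq 7034880 2048 ck_3435 b (by omega) (by omega)
  rcases Nat.lt_or_ge b 7038976 with g4 | g4
  · exact chkURangeF_spec C relF_hyp 1237356000 tc_eq 7036928 2048 ck_3436 b (by omega) (by omega)
  rcases Nat.lt_or_ge b 7041024 with g5 | g5
  · exact chkURangeF_spec C relF_hyp 1237356000 tc_eq 7038976 2048 ck_3437 b (by omega) (by omega)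
  rcases Nat.lt_or_ge b 7043072 with g6 | g6
  · exact chkURangeF_spec C relF_hyp 1237356000 tc_eq 7041024 2048 ck_3438 b (by omega) (by omega)
  rcases Nat.lt_or_ge b 7045120 with g7 | g7
  · exact chkURangeF_spec C relF_hyp 1237356000 tc_eq 7043072 2048 ck_3439 b (by omega) (by omega)
  rcases Nat.lt_or_ge b 7047168 with g8 | g8
  · exact chkURangeF_spec C relF_hyp 1237356000 tc_eq 7045120 2048 ck_3440 b (by omega) (by omega)
  rcases Nat.lt_or_ge b 7049216 with g9 | g9
  · exact chkURangeF_spec C relF_hyp 1237356000 tc_eq 7047168 2048 ck_3441 b (by omega) (by omega)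
  rcases Nat.lt_or_ge b 7051264 with g10 | g10
  · exact chkURangeF_spec C relF_hyp 1237356000 tc_eq 7049216 2048 ck_3442 b (by omega) (by omega)
  rcases Nat.lt_or_ge b 7053312 with g11 | g11
  · exact chkURangeF_spec C relF_hyp 1237356000 tc_eq 7051264 2048 ck_3443 b (by omega) (by omega)
  rcases Nat.lt_or_ge b 7055360 with g12 | g12
  · exact chkURangeF_spec C relF_hyp 1237356000 tc_eq 7053312 2048 ck_3444 b (by omega) (by omega)
  rcases Nat.lt_or_ge b 7057408 with g13 | g13
  · exact chkURangeF_spec C relF_hyp 1237356000 tc_eq 7055360 2048 ck_3445 b (by omega) (by omega)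
  rcases Nat.lt_or_ge b 7059456 with g14 | g14
  · exact chkURangeF_spec C relF_hyp 1237356000 tc_eq 7057408 2048 ck_3446 b (by omega) (by omega)
  rcases Nat.lt_or_ge b 7061504 with g15 | g15
  · exact chkURangeF_spec C relF_hyp 1237356000 tc_eq 7059456 2048 ck_3447 b (by omega) (by omega)
  rcases Nat.lt_or_ge b 7063552 with g16 | g16
  · exact chkURangeF_spec C relF_hyp 1237356000 tc_eq 7061504 2048 ck_3448 b (by omega) (by omega)
  rcases Nat.lt_or_ge b 7065600 with g17 | g17
  · exact chkURangeF_spec C relF_hyp 1237356000 tc_eq 7063552 2048 ck_3449 b (by omega) (by omega)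
  rcases Nat.lt_or_ge b 7067648 with g18 | g18
  · exact chkURangeF_spec C relF_hyp 1237356000 tc_eq 7065600 2048 ck_3450 b (by omega) (by omega)
  rcases Nat.lt_or_ge b 7069696 with g19 | g19
  · exact chkURangeF_spec C relF_hyp 1237356000 tc_eq 7067648 2048 ck_3451 b (by omega) (by omega)
  rcases Nat.lt_or_ge b 7071744 with g20 | g20
  · exact chkURangeF_spec C relF_hyp 1237356000 tc_eq 7069696 2048 ck_3452 b (by omega) (by omega)
  rcases Nat.lt_or_ge b 7073792 with g21 | g21
  · exact chkURangeF_spec C relF_hyp 1237356000 tc_eq 7071744 2048 ck_3453 b (by omega) (by omega)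
  rcases Nat.lt_or_ge b 7075840 with g22 | g22
  · exact chkURangeF_spec C relF_hyp 1237356000 tc_eq 7073792 2048 ck_3454 b (by omega) (by omega)
  exact chkURangeF_spec C relF_hyp 1237356000 tc_eq 7075840 2048 ck_3455 b (by omega) (by omega)
end Cfsg.Agent.Lib.Helper2.HNMult.P5
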