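import Cfsg.Agent.Lib.Helper2.HNMult.P5.Cert
set_option autoImplicit false
set_option maxRecDepth 1000000
set_option Elab.async false
namespace Cfsg.Agent.Lib.Helper2.HNMult.P5
open Cfsg.Agent.Lib.Helper4.Sparse Cfsg.Agent.Lib.Helper2.SparseF
theorem ck_3480 : chkURangeF D C relF 796 1237356000 7127040 2048 = true := by decide +kernel
theorem ck_3481 : chkURangeF D C relF 796 1237356000 7129088 2048 = true := by decide +kernel
theorem ck_3482 : chkURangeF D C relF 796 1237356000 7131136 2048 = true := by decide +kernel
theorem ck_3483 : chkURangeF D C relF 796 1237356000 7133184 2048 = true := by decide +kernel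
theorem ck_3484 : chkURangeF D C relF 796 1237356000 7135232 2048 = true := by decide +kernel
theorem ck_3485 : chkURangeF D C relF 796 1237356000 7137280 2048 = true := by decide +kernel
theorem ck_3486 : chkURangeF D C relF 796 1237356000 7139328 2048 = true := by decide +kernel
theorem ck_3487 : chkURangeF D C relF 796 1237356000 7141376 2048 = true := by decide +kernel
theorem ck_3488 : chkURangeF D C relF 796 1237356000 7143424 2048 = true := by decide +kernel
theorem ck_3489 : chkURangeF D C relF 796 1237356000 7145472 2048 = true := by decide +kernel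
theorem ck_3490 : chkURangeF D C relF 796 1237356000 7147520 2048 = true := by decide +kernel
theorem ck_3491 : chkURangeF D C relF 796 1237356000 7149568 2048 = true := by decide +kernel
theorem ck_3492 : chkURangeF D C relF 796 1237356000 7151616 2048 = true := by decide +kernel
theorem ck_3493 : chkURangeF D C relF 796 1237356000 7153664 2048 = true := by decide +kernel
theorem ck_3494 : chkURangeF D C relF 796 1237356000 7155712 2048 = true := by decide +kernel
theorem ck_3495 : chkURangeF D C relF 796 1237356000 7157760 2048 = true := by decide +kernel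
theorem ck_3496 : chkURangeF D C relF 796 1237356000 7159808 2048 = true := by decide +kernel
theorem ck_3497 : chkURangeF D C relF 796 1237356000 7161856 2048 = true := by decide +kernel
theorem ck_3498 : chkURangeF D C relF 796 1237356000 7163904 2048 = true := by decide +kernel
theorem ck_3499 : chkURangeF D C relF 796 1237356000 7165952 2048 = true := by decide +kernel
theorem ck_3500 : chkURangeF D C relF 796 1237356000 7168000 2048 = true := by decide +kernel
theorem ck_3501 : chkURangeF D C relF 796 1237356000 7170048 2048 = true := by decide +kernel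
theorem ck_3502 : chkURangeF D C relF 796 1237356000 7172096 2048 = true := by decide +kernel
theorem ck_3503 : chkURangeF D C relF 796 1237356000 7174144 2048 = true := by decide +kernel
theorem chkU_145 (b : ℕ) (h1 : 7127040 ≤ b) (h2 : b < 7176192) : chkU D C b = true := by
  rcases Nat.lt_or_ge b 7129088 with g0 | g0
  · exact chkURangeF_spec C relF_hyp 1237356000 tc_eq 7127040 2048 ck_3480 b (by omega) (by omega)
  rcases Nat.lt_or_ge b 7131136 with g1 | g1
  · exact chkURangeF_spec C relF_hyp 1237356000 tc_eq 7129088 2048 ck_3481 b (by omega) (by omega)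
  rcases Nat.lt_or_ge b 7133184 with g2 | g2
  · exact chkURangeF_spec C relF_hyp 1237356000 tc_eq 7131136 2048 ck_3482 b (by omega) (by omega)
  rcases Nat.lt_or_ge b 7135232 with g3 | g3
  · exact chkURangeF_spec C relF_hyp 1237356000 tc_eq 7133184 2048 ck_3483 b (by omega) (by omega)
  rcases Nat.lt_or_ge b 7137280 with g4 | g4
  · exact chkURangeF_spec C relF_hyp 1237356000 tc_eq 7135232 2048 ck_3484 b (by omega) (by omega)
  rcases Nat.lt_or_ge b 7139328 with g5 | g5
  · exact chkURangeF_spec C relF_hyp 1237356000 tc_eq 7137280 2048 ck_3485 b (by omega) (by omega)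
  rcases Nat.lt_or_ge b 7141376 with g6 | g6
  · exact chkURangeF_spec C relF_hyp 1237356000 tc_eq 7139328 2048 ck_3486 b (by omega) (by omega)
  rcases Nat.lt_or_ge b 7143424 with g7 | g7
  · exact chkURangeF_spec C relF_hyp 1237356000 tc_eq 7141376 2048 ck_3487 b (by omega) (by omega)
  rcases Nat.lt_or_ge b 7145472 with g8 | g8
  · exact chkURangeF_spec C relF_hyp 1237356000 tc_eq 7143424 2048 ck_3488 b (by omega) (by omega)
  rcases Nat.lt_or_ge b 7147520 with g9 | g9
  · exact chkURangeF_spec C relF_hyp 1237356000 tc_eq 7145472 2048 ck_3489 b (by omega) (by omega)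
  rcases Nat.lt_or_ge b 7149568 with g10 | g10
  · exact chkURangeF_spec C relF_hyp 1237356000 tc_eq 7147520 2048 ck_3490 b (by omega) (by omega)
  rcases Nat.lt_or_ge b 7151616 with g11 | g11
  · exact chkURangeF_spec C relF_hyp 1237356000 tc_eq 7149568 2048 ck_3491 b (by omega) (by omega)
  rcases Nat.lt_or_ge b 7153664 with g12 | g12
  · exact chkURangeF_spec C relF_hyp 1237356000 tc_eq 7151616 2048 ck_3492 b (by omega) (by omega)
  rcases Nat.lt_or_ge b 7155712 with g13 | g13
  · exact chkURangeF_spec C relF_hyp 1237356000 tc_eq 7153664 2048 ck_3493 b (by omega) (by omega)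
  rcases Nat.lt_or_ge b 7157760 with g14 | g14
  · exact chkURangeF_spec C relF_hyp 1237356000 tc_eq 7155712 2048 ck_3494 b (by omega) (by omega)
  rcases Nat.lt_or_ge b 7159808 with g15 | g15
  · exact chkURangeF_spec C relF_hyp 1237356000 tc_eq 7157760 2048 ck_3495 b (by omega) (by omega)
  rcases Nat.lt_or_ge b 7161856 with g16 | g16
  · exact chkURangeF_spec C relF_hyp 1237356000 tc_eq 7159808 2048 ck_3496 b (by omega) (by omega)
  rcases Nat.lt_or_ge b 7163904 with g17 | g17
  · exact chkURangeF_spec C relF_hyp 1237356000 tc_eq 7161856 2048 ck_3497 b (by omega) (by omega)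
  rcases Nat.lt_or_ge b 7165952 with g18 | g18
  · exact chkURangeF_spec C relF_hyp 1237356000 tc_eq 7163904 2048 ck_3498 b (by omega) (by omega)
  rcases Nat.lt_or_ge b 7168000 with g19 | g19
  · exact chkURangeF_spec C relF_hyp 1237356000 tc_eq 7165952 2048 ck_3499 b (by omega) (by omega)
  rcases Nat.lt_or_ge b 7170048 with g20 | g20
  · exact chkURangeF_spec C relF_hyp 1237356000 tc_eq 7168000 2048 ck_3500 b (by omega) (by omega)
  rcases Nat.lt_or_ge b 7172096 with g21 | g21
  · exact chkURangeF_spec C relF_hyp 1237356000 tc_eq 7170048 2048 ck_3501 b (by omega) (by omega)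
  rcases Nat.lt_or_ge b 7174144 with g22 | g22
  · exact chkURangeF_spec C relF_hyp 1237356000 tc_eq 7172096 2048 ck_3502 b (by omega) (by omega)
  exact chkURangeF_spec C relF_hyp 1237356000 tc_eq 7174144 2048 ck_3503 b (by omega) (by omega)
end Cfsg.Agent.Lib.Helper2.HNMult.P5
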