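import Cfsg.Agent.Lib.Helper2.HNMult.P5.Cert
set_option autoImplicit false
set_option maxRecDepth 1000000
set_option Elab.async false
namespace Cfsg.Agent.Lib.Helper2.HNMult.P5
open Cfsg.Agent.Lib.Helper4.Sparse Cfsg.Agent.Lib.Helper2.SparseF
theorem ck_3552 : chkURangeF D C relF 796 1237356000 7274496 2048 = true := by decide +kernel
theorem ck_3553 : chkURangeF D C relF 796 1237356000 7276544 2048 = true := by decide +kernel
theorem ck_3554 : chkURangeF D C relF 796 1237356000 7278592 2048 = true := by decide +kernel
theorem ck_3555 : chkURangeF D C relF 796 1237356000 7280640 2048 = true := by decide +kernel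
theorem ck_3556 : chkURangeF D C relF 796 1237356000 7282688 2048 = true := by decide +kernel
theorem ck_3557 : chkURangeF D C relF 796 1237356000 7284736 2048 = true := by decide +kernel
theorem ck_3558 : chkURangeF D C relF 796 1237356000 7286784 2048 = true := by decide +kernel
theorem ck_3559 : chkURangeF D C relF 796 1237356000 7288832 2048 = true := by decide +kernel
theorem ck_3560 : chkURangeF D C relF 796 1237356000 7290880 2048 = true := by decide +kernel
theorem ck_3561 : chkURangeF D C relF 796 1237356000 7292928 2048 = true := by decide +kernel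
theorem ck_3562 : chkURangeF D C relF 796 1237356000 7294976 2048 = true := by decide +kernel
theorem ck_3563 : chkURangeF D C relF 796 1237356000 7297024 2048 = true := by decide +kernel
theorem ck_3564 : chkURangeF D C relF 796 1237356000 7299072 2048 = true := by decide +kernel
theorem ck_3565 : chkURangeF D C relF 796 1237356000 7301120 2048 = true := by decide +kernel
theorem ck_3566 : chkURangeF D C relF 796 1237356000 7303168 2048 = true := by decide +kernel
theorem ck_3567 : chkURangeF D C relF 796 1237356000 7305216 2048 = true := by decide +kernel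
theorem ck_3568 : chkURangeF D C relF 796 1237356000 7307264 2048 = true := by decide +kernel
theorem ck_3569 : chkURangeF D C relF 796 1237356000 7309312 2048 = true := by decide +kernel
theorem ck_3570 : chkURangeF D C relF 796 1237356000 7311360 2048 = true := by decide +kernel
theorem ck_3571 : chkURangeF D C relF 796 1237356000 7313408 2048 = true := by decide +kernel
theorem ck_3572 : chkURangeF D C relF 796 1237356000 7315456 2048 = true := by decide +kernel
theorem ck_3573 : chkURangeF D C relF 796 1237356000 7317504 2048 = true := by decide +kernel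
theorem ck_3574 : chkURangeF D C relF 796 1237356000 7319552 2048 = true := by decide +kernel
theorem ck_3575 : chkURangeF D C relF 796 1237356000 7321600 2048 = true := by decide +kernel
theorem chkU_148 (b : ℕ) (h1 : 7274496 ≤ b) (h2 : b < 7323648) : chkU D C b = true := by
  rcases Nat.lt_or_ge b 7276544 with g0 | g0
  · exact chkURangeF_spec C relF_hyp 1237356000 tc_eq 7274496 2048 ck_3552 b (by omega) (by omega)
  rcases Nat.lt_or_ge b 7278592 with g1 | g1
  · exact chkURangeF_spec C relF_hyp 1237356000 tc_eq 7276544 2048 ck_3553 b (by omega) (by omega)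
  rcases Nat.lt_or_ge b 7280640 with g2 | g2
  · exact chkURangeF_spec C relF_hyp 1237356000 tc_eq 7278592 2048 ck_3554 b (by omega) (by omega)
  rcases Nat.lt_or_ge b 7282688 with g3 | g3
  · exact chkURangeF_spec C relF_hyp 1237356000 tc_eq 7280640 2048 ck_3555 b (by omega) (by omega)
  rcases Nat.lt_or_ge b 7284736 with g4 | g4
  · exact chkURangeF_spec C relF_hyp 1237356000 tc_eq 7282688 2048 ck_3556 b (by omega) (by omega)
  rcases Nat.lt_or_ge b 7286784 with g5 | g5
  · exact chkURangeF_spec C relF_hyp 1237356000 tc_eq 7284736 2048 ck_3557 b (by omega) (by omega)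
  rcases Nat.lt_or_ge b 7288832 with g6 | g6
  · exact chkURangeF_spec C relF_hyp 1237356000 tc_eq 7286784 2048 ck_3558 b (by omega) (by omega)
  rcases Nat.lt_or_ge b 7290880 with g7 | g7
  · exact chkURangeF_spec C relF_hyp 1237356000 tc_eq 7288832 2048 ck_3559 b (by omega) (by omega)
  rcases Nat.lt_or_ge b 7292928 with g8 | g8
  · exact chkURangeF_spec C relF_hyp 1237356000 tc_eq 7290880 2048 ck_3560 b (by omega) (by omega)
  rcases Nat.lt_or_ge b 7294976 with g9 | g9
  · exact chkURangeF_spec C relF_hyp 1237356000 tc_eq 7292928 2048 ck_3561 b (by omega) (by omega)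
  rcases Nat.lt_or_ge b 7297024 with g10 | g10
  · exact chkURangeF_spec C relF_hyp 1237356000 tc_eq 7294976 2048 ck_3562 b (by omega) (by omega)
  rcases Nat.lt_or_ge b 7299072 with g11 | g11
  · exact chkURangeF_spec C relF_hyp 1237356000 tc_eq 7297024 2048 ck_3563 b (by omega) (by omega)
  rcases Nat.lt_or_ge b 7301120 with g12 | g12
  · exact chkURangeF_spec C relF_hyp 1237356000 tc_eq 7299072 2048 ck_3564 b (by omega) (by omega)
  rcases Nat.lt_or_ge b 7303168 with g13 | g13
  · exact chkURangeF_spec C relF_hyp 1237356000 tc_eq 7301120 2048 ck_3565 b (by omega) (by omega)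
  rcases Nat.lt_or_ge b 7305216 with g14 | g14
  · exact chkURangeF_spec C relF_hyp 1237356000 tc_eq 7303168 2048 ck_3566 b (by omega) (by omega)
  rcases Nat.lt_or_ge b 7307264 with g15 | g15
  · exact chkURangeF_spec C relF_hyp 1237356000 tc_eq 7305216 2048 ck_3567 b (by omega) (by omega)
  rcases Nat.lt_or_ge b 7309312 with g16 | g16
  · exact chkURangeF_spec C relF_hyp 1237356000 tc_eq 7307264 2048 ck_3568 b (by omega) (by omega)
  rcases Nat.lt_or_ge b 7311360 with g17 | g17
  · exact chkURangeF_spec C relF_hyp 1237356000 tc_eq 7309312 2048 ck_3569 b (by omega) (by omega)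
  rcases Nat.lt_or_ge b 7313408 with g18 | g18
  · exact chkURangeF_spec C relF_hyp 1237356000 tc_eq 7311360 2048 ck_3570 b (by omega) (by omega)
  rcases Nat.lt_or_ge b 7315456 with g19 | g19
  · exact chkURangeF_spec C relF_hyp 1237356000 tc_eq 7313408 2048 ck_3571 b (by omega) (by omega)
  rcases Nat.lt_or_ge b 7317504 with g20 | g20
  · exact chkURangeF_spec C relF_hyp 1237356000 tc_eq 7315456 2048 ck_3572 b (by omega) (by omega)
  rcases Nat.lt_or_ge b 7319552 with g21 | g21
  · exact chkURangeF_spec C relF_hyp 1237356000 tc_eq 7317504 2048 ck_3573 b (by omega) (by omega)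
  rcases Nat.lt_or_ge b 7321600 with g22 | g22
  · exact chkURangeF_spec C relF_hyp 1237356000 tc_eq 7319552 2048 ck_3574 b (by omega) (by omega)
  exact chkURangeF_spec C relF_hyp 1237356000 tc_eq 7321600 2048 ck_3575 b (by omega) (by omega)
end Cfsg.Agent.Lib.Helper2.HNMult.P5
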