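import Cfsg.Agent.Lib.Helper2.HNMult.P5.Cert
set_option autoImplicit false
set_option maxRecDepth 1000000
set_option Elab.async false
namespace Cfsg.Agent.Lib.Helper2.HNMult.P5
open Cfsg.Agent.Lib.Helper4.Sparse Cfsg.Agent.Lib.Helper2.SparseF
theorem ck_3576 : chkURangeF D C relF 796 1237356000 7323648 2048 = true := by decide +kernel
theorem ck_3577 : chkURangeF D C relF 796 1237356000 7325696 2048 = true := by decide +kernel
theorem ck_3578 : chkURangeF D C relF 796 1237356000 7327744 2048 = true := by decide +kernel
theorem ck_3579 : chkURangeF D C relF 796 1237356000 7329792 2048 = true := by decide +kernel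
theorem ck_3580 : chkURangeF D C relF 796 1237356000 7331840 2048 = true := by decide +kernel
theorem ck_3581 : chkURangeF D C relF 796 1237356000 7333888 2048 = true := by decide +kernel
theorem ck_3582 : chkURangeF D C relF 796 1237356000 7335936 2048 = true := by decide +kernel
theorem ck_3583 : chkURangeF D C relF 796 1237356000 7337984 2048 = true := by decide +kernel
theorem ck_3584 : chkURangeF D C relF 796 1237356000 7340032 2048 = true := by decide +kernel
theorem ck_3585 : chkURangeF D C relF 796 1237356000 7342080 2048 = true := by decide +kernel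
theorem ck_3586 : chkURangeF D C relF 796 1237356000 7344128 2048 = true := by decide +kernel
theorem ck_3587 : chkURangeF D C relF 796 1237356000 7346176 2048 = true := by decide +kernel
theorem ck_3588 : chkURangeF D C relF 796 1237356000 7348224 2048 = true := by decide +kernel
theorem ck_3589 : chkURangeF D C relF 796 1237356000 7350272 2048 = true := by decide +kernel
theorem ck_3590 : chkURangeF D C relF 796 1237356000 7352320 2048 = true := by decide +kernel
theorem ck_3591 : chkURangeF D C relF 796 1237356000 7354368 2048 = true := by decide +kernel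
theorem ck_3592 : chkURangeF D C relF 796 1237356000 7356416 2048 = true := by decide +kernel
theorem ck_3593 : chkURangeF D C relF 796 1237356000 7358464 2048 = true := by decide +kernel
theorem ck_3594 : chkURangeF D C relF 796 1237356000 7360512 2048 = true := by decide +kernel
theorem ck_3595 : chkURangeF D C relF 796 1237356000 7362560 2048 = true := by decide +kernel
theorem ck_3596 : chkURangeF D C relF 796 1237356000 7364608 2048 = true := by decide +kernel
theorem ck_3597 : chkURangeF D C relF 796 1237356000 7366656 2048 = true := by decide +kernel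
theorem ck_3598 : chkURangeF D C relF 796 1237356000 7368704 2048 = true := by decide +kernel
theorem ck_3599 : chkURangeF D C relF 796 1237356000 7370752 2048 = true := by decide +kernel
theorem chkU_149 (b : ℕ) (h1 : 7323648 ≤ b) (h2 : b < 7372800) : chkU D C b = true := by
  rcases Nat.lt_or_ge b 7325696 with g0 | g0
  · exact chkURangeF_spec C relF_hyp 1237356000 tc_eq 7323648 2048 ck_3576 b (by omega) (by omega)
  rcases Nat.lt_or_ge b 7327744 with g1 | g1
  · exact chkURangeF_spec C relF_hyp 1237356000 tc_eq 7325696 2048 ck_3577 b (by omega) (by omega)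
  rcases Nat.lt_or_ge b 7329792 with g2 | g2
  · exact chkURangeF_spec C relF_hyp 1237356000 tc_eq 7327744 2048 ck_3578 b (by omega) (by omega)
  rcases Nat.lt_or_ge b 7331840 with g3 | g3
  · exact chkURangeF_spec C relF_hyp 1237356000 tc_eq 7329792 2048 ck_3579 b (by omega) (by omega)
  rcases Nat.lt_or_ge b 7333888 with g4 | g4
  · exact chkURangeF_spec C relF_hyp 1237356000 tc_eq 7331840 2048 ck_3580 b (by omega) (by omega)
  rcases Nat.lt_or_ge b 7335936 with g5 | g5
  · exact chkURangeF_spec C relF_hyp 1237356000 tc_eq 7333888 2048 ck_3581 b (by omega) (by omega)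
  rcases Nat.lt_or_ge b 7337984 with g6 | g6
  · exact chkURangeF_spec C relF_hyp 1237356000 tc_eq 7335936 2048 ck_3582 b (by omega) (by omega)
  rcases Nat.lt_or_ge b 7340032 with g7 | g7
  · exact chkURangeF_spec C relF_hyp 1237356000 tc_eq 7337984 2048 ck_3583 b (by omega) (by omega)
  rcases Nat.lt_or_ge b 7342080 with g8 | g8
  · exact chkURangeF_spec C relF_hyp 1237356000 tc_eq 7340032 2048 ck_3584 b (by omega) (by omega)
  rcases Nat.lt_or_ge b 7344128 with g9 | g9
  · exact chkURangeF_spec C relF_hyp 1237356000 tc_eq 7342080 2048 ck_3585 b (by omega) (by omega)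
  rcases Nat.lt_or_ge b 7346176 with g10 | g10
  · exact chkURangeF_spec C relF_hyp 1237356000 tc_eq 7344128 2048 ck_3586 b (by omega) (by omega)
  rcases Nat.lt_or_ge b 7348224 with g11 | g11
  · exact chkURangeF_spec C relF_hyp 1237356000 tc_eq 7346176 2048 ck_3587 b (by omega) (by omega)
  rcases Nat.lt_or_ge b 7350272 with g12 | g12
  · exact chkURangeF_spec C relF_hyp 1237356000 tc_eq 7348224 2048 ck_3588 b (by omega) (by omega)
  rcases Nat.lt_or_ge b 7352320 with g13 | g13
  · exact chkURangeF_spec C relF_hyp 1237356000 tc_eq 7350272 2048 ck_3589 b (by omega) (by omega)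
  rcases Nat.lt_or_ge b 7354368 with g14 | g14
  · exact chkURangeF_spec C relF_hyp 1237356000 tc_eq 7352320 2048 ck_3590 b (by omega) (by omega)
  rcases Nat.lt_or_ge b 7356416 with g15 | g15
  · exact chkURangeF_spec C relF_hyp 1237356000 tc_eq 7354368 2048 ck_3591 b (by omega) (by omega)
  rcases Nat.lt_or_ge b 7358464 with g16 | g16
  · exact chkURangeF_spec C relF_hyp 1237356000 tc_eq 7356416 2048 ck_3592 b (by omega) (by omega)
  rcases Nat.lt_or_ge b 7360512 with g17 | g17
  · exact chkURangeF_spec C relF_hyp 1237356000 tc_eq 7358464 2048 ck_3593 b (by omega) (by omega)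
  rcases Nat.lt_or_ge b 7362560 with g18 | g18
  · exact chkURangeF_spec C relF_hyp 1237356000 tc_eq 7360512 2048 ck_3594 b (by omega) (by omega)
  rcases Nat.lt_or_ge b 7364608 with g19 | g19
  · exact chkURangeF_spec C relF_hyp 1237356000 tc_eq 7362560 2048 ck_3595 b (by omega) (by omega)
  rcases Nat.lt_or_ge b 7366656 with g20 | g20
  · exact chkURangeF_spec C relF_hyp 1237356000 tc_eq 7364608 2048 ck_3596 b (by omega) (by omega)
  rcases Nat.lt_or_ge b 7368704 with g21 | g21
  · exact chkURangeF_spec C relF_hyp 1237356000 tc_eq 7366656 2048 ck_3597 b (by omega) (by omega)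
  rcases Nat.lt_or_ge b 7370752 with g22 | g22
  · exact chkURangeF_spec C relF_hyp 1237356000 tc_eq 7368704 2048 ck_3598 b (by omega) (by omega)
  exact chkURangeF_spec C relF_hyp 1237356000 tc_eq 7370752 2048 ck_3599 b (by omega) (by omega)
end Cfsg.Agent.Lib.Helper2.HNMult.P5
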