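import Cfsg.Agent.Lib.Helper2.HNMult.P5.Cert
set_option autoImplicit false
set_option maxRecDepth 1000000
set_option Elab.async false
namespace Cfsg.Agent.Lib.Helper2.HNMult.P5
open Cfsg.Agent.Lib.Helper4.Sparse Cfsg.Agent.Lib.Helper2.SparseF
theorem ck_3720 : chkURangeF D C relF 796 1237356000 7618560 2048 = true := by decide +kernel
theorem ck_3721 : chkURangeF D C relF 796 1237356000 7620608 2048 = true := by decide +kernel
theorem ck_3722 : chkURangeF D C relF 796 1237356000 7622656 2048 = true := by decide +kernel
theorem ck_3723 : chkURangeF D C relF 796 1237356000 7624704 2048 = true := by decide +kernel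
theorem ck_3724 : chkURangeF D C relF 796 1237356000 7626752 2048 = true := by decide +kernel
theorem ck_3725 : chkURangeF D C relF 796 1237356000 7628800 2048 = true := by decide +kernel
theorem ck_3726 : chkURangeF D C relF 796 1237356000 7630848 2048 = true := by decide +kernel
theorem ck_3727 : chkURangeF D C relF 796 1237356000 7632896 2048 = true := by decide +kernel
theorem ck_3728 : chkURangeF D C relF 796 1237356000 7634944 2048 = true := by decide +kernel
theorem ck_3729 : chkURangeF D C relF 796 1237356000 7636992 2048 = true := by decide +kernel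
theorem ck_3730 : chkURangeF D C relF 796 1237356000 7639040 2048 = true := by decide +kernel
theorem ck_3731 : chkURangeF D C relF 796 1237356000 7641088 2048 = true := by decide +kernel
theorem ck_3732 : chkURangeF D C relF 796 1237356000 7643136 2048 = true := by decide +kernel
theorem ck_3733 : chkURangeF D C relF 796 1237356000 7645184 2048 = true := by decide +kernel
theorem ck_3734 : chkURangeF D C relF 796 1237356000 7647232 2048 = true := by decide +kernel
theorem ck_3735 : chkURangeF D C relF 796 1237356000 7649280 2048 = true := by decide +kernel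
theorem ck_3736 : chkURangeF D C relF 796 1237356000 7651328 2048 = true := by decide +kernel
theorem ck_3737 : chkURangeF D C relF 796 1237356000 7653376 2048 = true := by decide +kernel
theorem ck_3738 : chkURangeF D C relF 796 1237356000 7655424 2048 = true := by decide +kernel
theorem ck_3739 : chkURangeF D C relF 796 1237356000 7657472 2048 = true := by decide +kernel
theorem ck_3740 : chkURangeF D C relF 796 1237356000 7659520 2048 = true := by decide +kernel
theorem ck_3741 : chkURangeF D C relF 796 1237356000 7661568 2048 = true := by decide +kernel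
theorem ck_3742 : chkURangeF D C relF 796 1237356000 7663616 2048 = true := by decide +kernel
theorem ck_3743 : chkURangeF D C relF 796 1237356000 7665664 2048 = true := by decide +kernel
theorem chkU_155 (b : ℕ) (h1 : 7618560 ≤ b) (h2 : b < 7667712) : chkU D C b = true := by
  rcases Nat.lt_or_ge b 7620608 with g0 | g0
  · exact chkURangeF_spec C relF_hyp 1237356000 tc_eq 7618560 2048 ck_3720 b (by omega) (by omega)
  rcases Nat.lt_or_ge b 7622656 with g1 | g1
  · exact chkURangeF_spec C relF_hyp 1237356000 tc_eq 7620608 2048 ck_3721 b (by omega) (by omega)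
  rcases Nat.lt_or_ge b 7624704 with g2 | g2
  · exact chkURangeF_spec C relF_hyp 1237356000 tc_eq 7622656 2048 ck_3722 b (by omega) (by omega)
  rcases Nat.lt_or_ge b 7626752 with g3 | g3
  · exact chkURangeF_spec C relF_hyp 1237356000 tc_eq 7624704 2048 ck_3723 b (by omega) (by omega)
  rcases Nat.lt_or_ge b 7628800 with g4 | g4
  · exact chkURangeF_spec C relF_hyp 1237356000 tc_eq 7626752 2048 ck_3724 b (by omega) (by omega)
  rcases Nat.lt_or_ge b 7630848 with g5 | g5
  · exact chkURangeF_spec C relF_hyp 1237356000 tc_eq 7628800 2048 ck_3725 b (by omega) (by omega)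
  rcases Nat.lt_or_ge b 7632896 with g6 | g6
  · exact chkURangeF_spec C relF_hyp 1237356000 tc_eq 7630848 2048 ck_3726 b (by omega) (by omega)
  rcases Nat.lt_or_ge b 7634944 with g7 | g7
  · exact chkURangeF_spec C relF_hyp 1237356000 tc_eq 7632896 2048 ck_3727 b (by omega) (by omega)
  rcases Nat.lt_or_ge b 7636992 with g8 | g8
  · exact chkURangeF_spec C relF_hyp 1237356000 tc_eq 7634944 2048 ck_3728 b (by omega) (by omega)
  rcases Nat.lt_or_ge b 7639040 with g9 | g9
  · exact chkURangeF_spec C relF_hyp 1237356000 tc_eq 7636992 2048 ck_3729 b (by omega) (by omega)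
  rcases Nat.lt_or_ge b 7641088 with g10 | g10
  · exact chkURangeF_spec C relF_hyp 1237356000 tc_eq 7639040 2048 ck_3730 b (by omega) (by omega)
  rcases Nat.lt_or_ge b 7643136 with g11 | g11
  · exact chkURangeF_spec C relF_hyp 1237356000 tc_eq 7641088 2048 ck_3731 b (by omega) (by omega)
  rcases Nat.lt_or_ge b 7645184 with g12 | g12
  · exact chkURangeF_spec C relF_hyp 1237356000 tc_eq 7643136 2048 ck_3732 b (by omega) (by omega)
  rcases Nat.lt_or_ge b 7647232 with g13 | g13
  · exact chkURangeF_spec C relF_hyp 1237356000 tc_eq 7645184 2048 ck_3733 b (by omega) (by omega)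
  rcases Nat.lt_or_ge b 7649280 with g14 | g14
  · exact chkURangeF_spec C relF_hyp 1237356000 tc_eq 7647232 2048 ck_3734 b (by omega) (by omega)
  rcases Nat.lt_or_ge b 7651328 with g15 | g15
  · exact chkURangeF_spec C relF_hyp 1237356000 tc_eq 7649280 2048 ck_3735 b (by omega) (by omega)
  rcases Nat.lt_or_ge b 7653376 with g16 | g16
  · exact chkURangeF_spec C relF_hyp 1237356000 tc_eq 7651328 2048 ck_3736 b (by omega) (by omega)
  rcases Nat.lt_or_ge b 7655424 with g17 | g17
  · exact chkURangeF_spec C relF_hyp 1237356000 tc_eq 7653376 2048 ck_3737 b (by omega) (by omega)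
  rcases Nat.lt_or_ge b 7657472 with g18 | g18
  · exact chkURangeF_spec C relF_hyp 1237356000 tc_eq 7655424 2048 ck_3738 b (by omega) (by omega)
  rcases Nat.lt_or_ge b 7659520 with g19 | g19
  · exact chkURangeF_spec C relF_hyp 1237356000 tc_eq 7657472 2048 ck_3739 b (by omega) (by omega)
  rcases Nat.lt_or_ge b 7661568 with g20 | g20
  · exact chkURangeF_spec C relF_hyp 1237356000 tc_eq 7659520 2048 ck_3740 b (by omega) (by omega)
  rcases Nat.lt_or_ge b 7663616 with g21 | g21
  · exact chkURangeF_spec C relF_hyp 1237356000 tc_eq 7661568 2048 ck_3741 b (by omega) (by omega)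
  rcases Nat.lt_or_ge b 7665664 with g22 | g22
  · exact chkURangeF_spec C relF_hyp 1237356000 tc_eq 7663616 2048 ck_3742 b (by omega) (by omega)
  exact chkURangeF_spec C relF_hyp 1237356000 tc_eq 7665664 2048 ck_3743 b (by omega) (by omega)
end Cfsg.Agent.Lib.Helper2.HNMult.P5
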