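import Cfsg.Agent.Lib.Helper2.HNMult.P5.Cert
set_option autoImplicit false
set_option maxRecDepth 1000000
set_option Elab.async false
namespace Cfsg.Agent.Lib.Helper2.HNMult.P5
open Cfsg.Agent.Lib.Helper4.Sparse Cfsg.Agent.Lib.Helper2.SparseF
theorem ck_3816 : chkURangeF D C relF 796 1237356000 7815168 2048 = true := by decide +kernel
theorem ck_3817 : chkURangeF D C relF 796 1237356000 7817216 2048 = true := by decide +kernel
theorem ck_3818 : chkURangeF D C relF 796 1237356000 7819264 2048 = true := by decide +kernel
theorem ck_3819 : chkURangeF D C relF 796 1237356000 7821312 2048 = true := by decide +kernel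
theorem ck_3820 : chkURangeF D C relF 796 1237356000 7823360 2048 = true := by decide +kernel
theorem ck_3821 : chkURangeF D C relF 796 1237356000 7825408 2048 = true := by decide +kernel
theorem ck_3822 : chkURangeF D C relF 796 1237356000 7827456 2048 = true := by decide +kernel
theorem ck_3823 : chkURangeF D C relF 796 1237356000 7829504 2048 = true := by decide +kernel
theorem ck_3824 : chkURangeF D C relF 796 1237356000 7831552 2048 = true := by decide +kernel
theorem ck_3825 : chkURangeF D C relF 796 1237356000 7833600 2048 = true := by decide +kernel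
theorem ck_3826 : chkURangeF D C relF 796 1237356000 7835648 2048 = true := by decide +kernel
theorem ck_3827 : chkURangeF D C relF 796 1237356000 7837696 2048 = true := by decide +kernel
theorem ck_3828 : chkURangeF D C relF 796 1237356000 7839744 2048 = true := by decide +kernel
theorem ck_3829 : chkURangeF D C relF 796 1237356000 7841792 2048 = true := by decide +kernel
theorem ck_3830 : chkURangeF D C relF 796 1237356000 7843840 2048 = true := by decide +kernel
theorem ck_3831 : chkURangeF D C relF 796 1237356000 7845888 2048 = true := by decide +kernel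
theorem ck_3832 : chkURangeF D C relF 796 1237356000 7847936 2048 = true := by decide +kernel
theorem ck_3833 : chkURangeF D C relF 796 1237356000 7849984 2048 = true := by decide +kernel
theorem ck_3834 : chkURangeF D C relF 796 1237356000 7852032 2048 = true := by decide +kernel
theorem ck_3835 : chkURangeF D C relF 796 1237356000 7854080 2048 = true := by decide +kernel
theorem ck_3836 : chkURangeF D C relF 796 1237356000 7856128 2048 = true := by decide +kernel
theorem ck_3837 : chkURangeF D C relF 796 1237356000 7858176 2048 = true := by decide +kernel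
theorem ck_3838 : chkURangeF D C relF 796 1237356000 7860224 2048 = true := by decide +kernel
theorem ck_3839 : chkURangeF D C relF 796 1237356000 7862272 2048 = true := by decide +kernel
theorem chkU_159 (b : ℕ) (h1 : 7815168 ≤ b) (h2 : b < 7864320) : chkU D C b = true := by
  rcases Nat.lt_or_ge b 7817216 with g0 | g0
  · exact chkURangeF_spec C relF_hyp 1237356000 tc_eq 7815168 2048 ck_3816 b (by omega) (by omega)
  rcases Nat.lt_or_ge b 7819264 with g1 | g1
  · exact chkURangeF_spec C relF_hyp 1237356000 tc_eq 7817216 2048 ck_3817 b (by omega) (by omega)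
  rcases Nat.lt_or_ge b 7821312 with g2 | g2
  · exact chkURangeF_spec C relF_hyp 1237356000 tc_eq 7819264 2048 ck_3818 b (by omega) (by omega)
  rcases Nat.lt_or_ge b 7823360 with g3 | g3
  · exact chkURangeF_spec C relF_hyp 1237356000 tc_eq 7821312 2048 ck_3819 b (by omega) (by omega)
  rcases Nat.lt_or_ge b 7825408 with g4 | g4
  · exact chkURangeF_spec C relF_hyp 1237356000 tc_eq 7823360 2048 ck_3820 b (by omega) (by omega)
  rcases Nat.lt_or_ge b 7827456 with g5 | g5
  · exact chkURangeF_spec C relF_hyp 1237356000 tc_eq 7825408 2048 ck_3821 b (by omega) (by omega)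
  rcases Nat.lt_or_ge b 7829504 with g6 | g6
  · exact chkURangeF_spec C relF_hyp 1237356000 tc_eq 7827456 2048 ck_3822 b (by omega) (by omega)
  rcases Nat.lt_or_ge b 7831552 with g7 | g7
  · exact chkURangeF_spec C relF_hyp 1237356000 tc_eq 7829504 2048 ck_3823 b (by omega) (by omega)
  rcases Nat.lt_or_ge b 7833600 with g8 | g8
  · exact chkURangeF_spec C relF_hyp 1237356000 tc_eq 7831552 2048 ck_3824 b (by omega) (by omega)
  rcases Nat.lt_or_ge b 7835648 with g9 | g9
  · exact chkURangeF_spec C relF_hyp 1237356000 tc_eq 7833600 2048 ck_3825 b (by omega) (by omega)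
  rcases Nat.lt_or_ge b 7837696 with g10 | g10
  · exact chkURangeF_spec C relF_hyp 1237356000 tc_eq 7835648 2048 ck_3826 b (by omega) (by omega)
  rcases Nat.lt_or_ge b 7839744 with g11 | g11
  · exact chkURangeF_spec C relF_hyp 1237356000 tc_eq 7837696 2048 ck_3827 b (by omega) (by omega)
  rcases Nat.lt_or_ge b 7841792 with g12 | g12
  · exact chkURangeF_spec C relF_hyp 1237356000 tc_eq 7839744 2048 ck_3828 b (by omega) (by omega)
  rcases Nat.lt_or_ge b 7843840 with g13 | g13
  · exact chkURangeF_spec C relF_hyp 1237356000 tc_eq 7841792 2048 ck_3829 b (by omega) (by omega)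
  rcases Nat.lt_or_ge b 7845888 with g14 | g14
  · exact chkURangeF_spec C relF_hyp 1237356000 tc_eq 7843840 2048 ck_3830 b (by omega) (by omega)
  rcases Nat.lt_or_ge b 7847936 with g15 | g15
  · exact chkURangeF_spec C relF_hyp 1237356000 tc_eq 7845888 2048 ck_3831 b (by omega) (by omega)
  rcases Nat.lt_or_ge b 7849984 with g16 | g16
  · exact chkURangeF_spec C relF_hyp 1237356000 tc_eq 7847936 2048 ck_3832 b (by omega) (by omega)
  rcases Nat.lt_or_ge b 7852032 with g17 | g17
  · exact chkURangeF_spec C relF_hyp 1237356000 tc_eq 7849984 2048 ck_3833 b (by omega) (by omega)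
  rcases Nat.lt_or_ge b 7854080 with g18 | g18
  · exact chkURangeF_spec C relF_hyp 1237356000 tc_eq 7852032 2048 ck_3834 b (by omega) (by omega)
  rcases Nat.lt_or_ge b 7856128 with g19 | g19
  · exact chkURangeF_spec C relF_hyp 1237356000 tc_eq 7854080 2048 ck_3835 b (by omega) (by omega)
  rcases Nat.lt_or_ge b 7858176 with g20 | g20
  · exact chkURangeF_spec C relF_hyp 1237356000 tc_eq 7856128 2048 ck_3836 b (by omega) (by omega)
  rcases Nat.lt_or_ge b 7860224 with g21 | g21
  · exact chkURangeF_spec C relF_hyp 1237356000 tc_eq 7858176 2048 ck_3837 b (by omega) (by omega)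
  rcases Nat.lt_or_ge b 7862272 with g22 | g22
  · exact chkURangeF_spec C relF_hyp 1237356000 tc_eq 7860224 2048 ck_3838 b (by omega) (by omega)
  exact chkURangeF_spec C relF_hyp 1237356000 tc_eq 7862272 2048 ck_3839 b (by omega) (by omega)
end Cfsg.Agent.Lib.Helper2.HNMult.P5
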