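import Cfsg.Agent.Lib.Helper2.HNMult.P5.Cert
set_option autoImplicit false
set_option maxRecDepth 1000000
set_option Elab.async false
namespace Cfsg.Agent.Lib.Helper2.HNMult.P5
open Cfsg.Agent.Lib.Helper4.Sparse Cfsg.Agent.Lib.Helper2.SparseF
theorem ck_3840 : chkURangeF D C relF 796 1237356000 7864320 2048 = true := by decide +kernel
theorem ck_3841 : chkURangeF D C relF 796 1237356000 7866368 2048 = true := by decide +kernel
theorem ck_3842 : chkURangeF D C relF 796 1237356000 7868416 2048 = true := by decide +kernel
theorem ck_3843 : chkURangeF D C relF 796 1237356000 7870464 2048 = true := by decide +kernel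
theorem ck_3844 : chkURangeF D C relF 796 1237356000 7872512 2048 = true := by decide +kernel
theorem ck_3845 : chkURangeF D C relF 796 1237356000 7874560 2048 = true := by decide +kernel
theorem ck_3846 : chkURangeF D C relF 796 1237356000 7876608 2048 = true := by decide +kernel
theorem ck_3847 : chkURangeF D C relF 796 1237356000 7878656 2048 = true := by decide +kernel
theorem ck_3848 : chkURangeF D C relF 796 1237356000 7880704 2048 = true := by decide +kernel
theorem ck_3849 : chkURangeF D C relF 796 1237356000 7882752 2048 = true := by decide +kernel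
theorem ck_3850 : chkURangeF D C relF 796 1237356000 7884800 2048 = true := by decide +kernel
theorem ck_3851 : chkURangeF D C relF 796 1237356000 7886848 2048 = true := by decide +kernel
theorem ck_3852 : chkURangeF D C relF 796 1237356000 7888896 2048 = true := by decide +kernel
theorem ck_3853 : chkURangeF D C relF 796 1237356000 7890944 2048 = true := by decide +kernel
theorem ck_3854 : chkURangeF D C relF 796 1237356000 7892992 2048 = true := by decide +kernel
theorem ck_3855 : chkURangeF D C relF 796 1237356000 7895040 2048 = true := by decide +kernel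
theorem ck_3856 : chkURangeF D C relF 796 1237356000 7897088 2048 = true := by decide +kernel
theorem ck_3857 : chkURangeF D C relF 796 1237356000 7899136 2048 = true := by decide +kernel
theorem ck_3858 : chkURangeF D C relF 796 1237356000 7901184 2048 = true := by decide +kernel
theorem ck_3859 : chkURangeF D C relF 796 1237356000 7903232 2048 = true := by decide +kernel
theorem ck_3860 : chkURangeF D C relF 796 1237356000 7905280 2048 = true := by decide +kernel
theorem ck_3861 : chkURangeF D C relF 796 1237356000 7907328 2048 = true := by decide +kernel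
theorem ck_3862 : chkURangeF D C relF 796 1237356000 7909376 2048 = true := by decide +kernel
theorem ck_3863 : chkURangeF D C relF 796 1237356000 7911424 2048 = true := by decide +kernel
theorem chkU_160 (b : ℕ) (h1 : 7864320 ≤ b) (h2 : b < 7913472) : chkU D C b = true := by
  rcases Nat.lt_or_ge b 7866368 with g0 | g0
  · exact chkURangeF_spec C relF_hyp 1237356000 tc_eq 7864320 2048 ck_3840 b (by omega) (by omega)
  rcases Nat.lt_or_ge b 7868416 with g1 | g1
  · exact chkURangeF_spec C relF_hyp 1237356000 tc_eq 7866368 2048 ck_3841 b (by omega) (by omega)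
  rcases Nat.lt_or_ge b 7870464 with g2 | g2
  · exact chkURangeF_spec C relF_hyp 1237356000 tc_eq 7868416 2048 ck_3842 b (by omega) (by omega)
  rcases Nat.lt_or_ge b 7872512 with g3 | g3
  · exact chkURangeF_spec C relF_hyp 1237356000 tc_eq 7870464 2048 ck_3843 b (by omega) (by omega)
  rcases Nat.lt_or_ge b 7874560 with g4 | g4
  · exact chkURangeF_spec C relF_hyp 1237356000 tc_eq 7872512 2048 ck_3844 b (by omega) (by omega)
  rcases Nat.lt_or_ge b 7876608 with g5 | g5
  · exact chkURangeF_spec C relF_hyp 1237356000 tc_eq 7874560 2048 ck_3845 b (by omega) (by omega)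
  rcases Nat.lt_or_ge b 7878656 with g6 | g6
  · exact chkURangeF_spec C relF_hyp 1237356000 tc_eq 7876608 2048 ck_3846 b (by omega) (by omega)
  rcases Nat.lt_or_ge b 7880704 with g7 | g7
  · exact chkURangeF_spec C relF_hyp 1237356000 tc_eq 7878656 2048 ck_3847 b (by omega) (by omega)
  rcases Nat.lt_or_ge b 7882752 with g8 | g8
  · exact chkURangeF_spec C relF_hyp 1237356000 tc_eq 7880704 2048 ck_3848 b (by omega) (by omega)
  rcases Nat.lt_or_ge b 7884800 with g9 | g9
  · exact chkURangeF_spec C relF_hyp 1237356000 tc_eq 7882752 2048 ck_3849 b (by omega) (by omega)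
  rcases Nat.lt_or_ge b 7886848 with g10 | g10
  · exact chkURangeF_spec C relF_hyp 1237356000 tc_eq 7884800 2048 ck_3850 b (by omega) (by omega)
  rcases Nat.lt_or_ge b 7888896 with g11 | g11
  · exact chkURangeF_spec C relF_hyp 1237356000 tc_eq 7886848 2048 ck_3851 b (by omega) (by omega)
  rcases Nat.lt_or_ge b 7890944 with g12 | g12
  · exact chkURangeF_spec C relF_hyp 1237356000 tc_eq 7888896 2048 ck_3852 b (by omega) (by omega)
  rcases Nat.lt_or_ge b 7892992 with g13 | g13
  · exact chkURangeF_spec C relF_hyp 1237356000 tc_eq 7890944 2048 ck_3853 b (by omega) (by omega)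
  rcases Nat.lt_or_ge b 7895040 with g14 | g14
  · exact chkURangeF_spec C relF_hyp 1237356000 tc_eq 7892992 2048 ck_3854 b (by omega) (by omega)
  rcases Nat.lt_or_ge b 7897088 with g15 | g15
  · exact chkURangeF_spec C relF_hyp 1237356000 tc_eq 7895040 2048 ck_3855 b (by omega) (by omega)
  rcases Nat.lt_or_ge b 7899136 with g16 | g16
  · exact chkURangeF_spec C relF_hyp 1237356000 tc_eq 7897088 2048 ck_3856 b (by omega) (by omega)
  rcases Nat.lt_or_ge b 7901184 with g17 | g17
  · exact chkURangeF_spec C relF_hyp 1237356000 tc_eq 7899136 2048 ck_3857 b (by omega) (by omega)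
  rcases Nat.lt_or_ge b 7903232 with g18 | g18
  · exact chkURangeF_spec C relF_hyp 1237356000 tc_eq 7901184 2048 ck_3858 b (by omega) (by omega)
  rcases Nat.lt_or_ge b 7905280 with g19 | g19
  · exact chkURangeF_spec C relF_hyp 1237356000 tc_eq 7903232 2048 ck_3859 b (by omega) (by omega)
  rcases Nat.lt_or_ge b 7907328 with g20 | g20
  · exact chkURangeF_spec C relF_hyp 1237356000 tc_eq 7905280 2048 ck_3860 b (by omega) (by omega)
  rcases Nat.lt_or_ge b 7909376 with g21 | g21
  · exact chkURangeF_spec C relF_hyp 1237356000 tc_eq 7907328 2048 ck_3861 b (by omega) (by omega)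
  rcases Nat.lt_or_ge b 7911424 with g22 | g22
  · exact chkURangeF_spec C relF_hyp 1237356000 tc_eq 7909376 2048 ck_3862 b (by omega) (by omega)
  exact chkURangeF_spec C relF_hyp 1237356000 tc_eq 7911424 2048 ck_3863 b (by omega) (by omega)
end Cfsg.Agent.Lib.Helper2.HNMult.P5
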