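import Cfsg.Agent.Lib.Helper2.HNMult.P5.Cert
set_option autoImplicit false
set_option maxRecDepth 1000000
set_option Elab.async false
namespace Cfsg.Agent.Lib.Helper2.HNMult.P5
open Cfsg.Agent.Lib.Helper4.Sparse Cfsg.Agent.Lib.Helper2.SparseF
theorem ck_3936 : chkURangeF D C relF 796 1237356000 8060928 2048 = true := by decide +kernel
theorem ck_3937 : chkURangeF D C relF 796 1237356000 8062976 2048 = true := by decide +kernel
theorem ck_3938 : chkURangeF D C relF 796 1237356000 8065024 2048 = true := by decide +kernel
theorem ck_3939 : chkURangeF D C relF 796 1237356000 8067072 2048 = true := by decide +kernel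
theorem ck_3940 : chkURangeF D C relF 796 1237356000 8069120 2048 = true := by decide +kernel
theorem ck_3941 : chkURangeF D C relF 796 1237356000 8071168 2048 = true := by decide +kernel
theorem ck_3942 : chkURangeF D C relF 796 1237356000 8073216 2048 = true := by decide +kernel
theorem ck_3943 : chkURangeF D C relF 796 1237356000 8075264 2048 = true := by decide +kernel
theorem ck_3944 : chkURangeF D C relF 796 1237356000 8077312 2048 = true := by decide +kernel
theorem ck_3945 : chkURangeF D C relF 796 1237356000 8079360 2048 = true := by decide +kernel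
theorem ck_3946 : chkURangeF D C relF 796 1237356000 8081408 2048 = true := by decide +kernel
theorem ck_3947 : chkURangeF D C relF 796 1237356000 8083456 2048 = true := by decide +kernel
theorem ck_3948 : chkURangeF D C relF 796 1237356000 8085504 2048 = true := by decide +kernel
theorem ck_3949 : chkURangeF D C relF 796 1237356000 8087552 2048 = true := by decide +kernel
theorem ck_3950 : chkURangeF D C relF 796 1237356000 8089600 2048 = true := by decide +kernel
theorem ck_3951 : chkURangeF D C relF 796 1237356000 8091648 2048 = true := by decide +kernel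
theorem ck_3952 : chkURangeF D C relF 796 1237356000 8093696 2048 = true := by decide +kernel
theorem ck_3953 : chkURangeF D C relF 796 1237356000 8095744 2048 = true := by decide +kernel
theorem ck_3954 : chkURangeF D C relF 796 1237356000 8097792 2048 = true := by decide +kernel
theorem ck_3955 : chkURangeF D C relF 796 1237356000 8099840 2048 = true := by decide +kernel
theorem ck_3956 : chkURangeF D C relF 796 1237356000 8101888 2048 = true := by decide +kernel
theorem ck_3957 : chkURangeF D C relF 796 1237356000 8103936 2048 = true := by decide +kernel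
theorem ck_3958 : chkURangeF D C relF 796 1237356000 8105984 2048 = true := by decide +kernel
theorem ck_3959 : chkURangeF D C relF 796 1237356000 8108032 2048 = true := by decide +kernel
theorem chkU_164 (b : ℕ) (h1 : 8060928 ≤ b) (h2 : b < 8110080) : chkU D C b = true := by
  rcases Nat.lt_or_ge b 8062976 with g0 | g0
  · exact chkURangeF_spec C relF_hyp 1237356000 tc_eq 8060928 2048 ck_3936 b (by omega) (by omega)
  rcases Nat.lt_or_ge b 8065024 with g1 | g1
  · exact chkURangeF_spec C relF_hyp 1237356000 tc_eq 8062976 2048 ck_3937 b (by omega) (by omega)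
  rcases Nat.lt_or_ge b 8067072 with g2 | g2
  · exact chkURangeF_spec C relF_hyp 1237356000 tc_eq 8065024 2048 ck_3938 b (by omega) (by omega)
  rcases Nat.lt_or_ge b 8069120 with g3 | g3
  · exact chkURangeF_spec C relF_hyp 1237356000 tc_eq 8067072 2048 ck_3939 b (by omega) (by omega)
  rcases Nat.lt_or_ge b 8071168 with g4 | g4
  · exact chkURangeF_spec C relF_hyp 1237356000 tc_eq 8069120 2048 ck_3940 b (by omega) (by omega)
  rcases Nat.lt_or_ge b 8073216 with g5 | g5
  · exact chkURangeF_spec C relF_hyp 1237356000 tc_eq 8071168 2048 ck_3941 b (by omega) (by omega)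
  rcases Nat.lt_or_ge b 8075264 with g6 | g6
  · exact chkURangeF_spec C relF_hyp 1237356000 tc_eq 8073216 2048 ck_3942 b (by omega) (by omega)
  rcases Nat.lt_or_ge b 8077312 with g7 | g7
  · exact chkURangeF_spec C relF_hyp 1237356000 tc_eq 8075264 2048 ck_3943 b (by omega) (by omega)
  rcases Nat.lt_or_ge b 8079360 with g8 | g8
  · exact chkURangeF_spec C relF_hyp 1237356000 tc_eq 8077312 2048 ck_3944 b (by omega) (by omega)
  rcases Nat.lt_or_ge b 8081408 with g9 | g9
  · exact chkURangeF_spec C relF_hyp 1237356000 tc_eq 8079360 2048 ck_3945 b (by omega) (by omega)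
  rcases Nat.lt_or_ge b 8083456 with g10 | g10
  · exact chkURangeF_spec C relF_hyp 1237356000 tc_eq 8081408 2048 ck_3946 b (by omega) (by omega)
  rcases Nat.lt_or_ge b 8085504 with g11 | g11
  · exact chkURangeF_spec C relF_hyp 1237356000 tc_eq 8083456 2048 ck_3947 b (by omega) (by omega)
  rcases Nat.lt_or_ge b 8087552 with g12 | g12
  · exact chkURangeF_spec C relF_hyp 1237356000 tc_eq 8085504 2048 ck_3948 b (by omega) (by omega)
  rcases Nat.lt_or_ge b 8089600 with g13 | g13
  · exact chkURangeF_spec C relF_hyp 1237356000 tc_eq 8087552 2048 ck_3949 b (by omega) (by omega)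
  rcases Nat.lt_or_ge b 8091648 with g14 | g14
  · exact chkURangeF_spec C relF_hyp 1237356000 tc_eq 8089600 2048 ck_3950 b (by omega) (by omega)
  rcases Nat.lt_or_ge b 8093696 with g15 | g15
  · exact chkURangeF_spec C relF_hyp 1237356000 tc_eq 8091648 2048 ck_3951 b (by omega) (by omega)
  rcases Nat.lt_or_ge b 8095744 with g16 | g16
  · exact chkURangeF_spec C relF_hyp 1237356000 tc_eq 8093696 2048 ck_3952 b (by omega) (by omega)
  rcases Nat.lt_or_ge b 8097792 with g17 | g17
  · exact chkURangeF_spec C relF_hyp 1237356000 tc_eq 8095744 2048 ck_3953 b (by omega) (by omega)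
  rcases Nat.lt_or_ge b 8099840 with g18 | g18
  · exact chkURangeF_spec C relF_hyp 1237356000 tc_eq 8097792 2048 ck_3954 b (by omega) (by omega)
  rcases Nat.lt_or_ge b 8101888 with g19 | g19
  · exact chkURangeF_spec C relF_hyp 1237356000 tc_eq 8099840 2048 ck_3955 b (by omega) (by omega)
  rcases Nat.lt_or_ge b 8103936 with g20 | g20
  · exact chkURangeF_spec C relF_hyp 1237356000 tc_eq 8101888 2048 ck_3956 b (by omega) (by omega)
  rcases Nat.lt_or_ge b 8105984 with g21 | g21
  · exact chkURangeF_spec C relF_hyp 1237356000 tc_eq 8103936 2048 ck_3957 b (by omega) (by omega)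
  rcases Nat.lt_or_ge b 8108032 with g22 | g22
  · exact chkURangeF_spec C relF_hyp 1237356000 tc_eq 8105984 2048 ck_3958 b (by omega) (by omega)
  exact chkURangeF_spec C relF_hyp 1237356000 tc_eq 8108032 2048 ck_3959 b (by omega) (by omega)
end Cfsg.Agent.Lib.Helper2.HNMult.P5
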