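import Cfsg.Agent.Lib.Helper2.HNMult.P5.Cert
set_option autoImplicit false
set_option maxRecDepth 1000000
set_option Elab.async false
namespace Cfsg.Agent.Lib.Helper2.HNMult.P5
open Cfsg.Agent.Lib.Helper4.Sparse Cfsg.Agent.Lib.Helper2.SparseF
theorem ck_3984 : chkURangeF D C relF 796 1237356000 8159232 2048 = true := by decide +kernel
theorem ck_3985 : chkURangeF D C relF 796 1237356000 8161280 2048 = true := by decide +kernel
theorem ck_3986 : chkURangeF D C relF 796 1237356000 8163328 2048 = true := by decide +kernel
theorem ck_3987 : chkURangeF D C relF 796 1237356000 8165376 2048 = true := by decide +kernel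
theorem ck_3988 : chkURangeF D C relF 796 1237356000 8167424 2048 = true := by decide +kernel
theorem ck_3989 : chkURangeF D C relF 796 1237356000 8169472 2048 = true := by decide +kernel
theorem ck_3990 : chkURangeF D C relF 796 1237356000 8171520 2048 = true := by decide +kernel
theorem ck_3991 : chkURangeF D C relF 796 1237356000 8173568 2048 = true := by decide +kernel
theorem ck_3992 : chkURangeF D C relF 796 1237356000 8175616 2048 = true := by decide +kernel
theorem ck_3993 : chkURangeF D C relF 796 1237356000 8177664 2048 = true := by decide +kernel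
theorem ck_3994 : chkURangeF D C relF 796 1237356000 8179712 2048 = true := by decide +kernel
theorem ck_3995 : chkURangeF D C relF 796 1237356000 8181760 2048 = true := by decide +kernel
theorem ck_3996 : chkURangeF D C relF 796 1237356000 8183808 2048 = true := by decide +kernel
theorem ck_3997 : chkURangeF D C relF 796 1237356000 8185856 2048 = true := by decide +kernel
theorem ck_3998 : chkURangeF D C relF 796 1237356000 8187904 2048 = true := by decide +kernel
theorem ck_3999 : chkURangeF D C relF 796 1237356000 8189952 2048 = true := by decide +kernel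
theorem ck_4000 : chkURangeF D C relF 796 1237356000 8192000 2048 = true := by decide +kernel
theorem ck_4001 : chkURangeF D C relF 796 1237356000 8194048 2048 = true := by decide +kernel
theorem ck_4002 : chkURangeF D C relF 796 1237356000 8196096 2048 = true := by decide +kernel
theorem ck_4003 : chkURangeF D C relF 796 1237356000 8198144 2048 = true := by decide +kernel
theorem ck_4004 : chkURangeF D C relF 796 1237356000 8200192 2048 = true := by decide +kernel
theorem ck_4005 : chkURangeF D C relF 796 1237356000 8202240 2048 = true := by decide +kernel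
theorem ck_4006 : chkURangeF D C relF 796 1237356000 8204288 2048 = true := by decide +kernel
theorem ck_4007 : chkURangeF D C relF 796 1237356000 8206336 2048 = true := by decide +kernel
theorem chkU_166 (b : ℕ) (h1 : 8159232 ≤ b) (h2 : b < 8208384) : chkU D C b = true := by
  rcases Nat.lt_or_ge b 8161280 with g0 | g0
  · exact chkURangeF_spec C relF_hyp 1237356000 tc_eq 8159232 2048 ck_3984 b (by omega) (by omega)
  rcases Nat.lt_or_ge b 8163328 with g1 | g1
  · exact chkURangeF_spec C relF_hyp 1237356000 tc_eq 8161280 2048 ck_3985 b (by omega) (by omega)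
  rcases Nat.lt_or_ge b 8165376 with g2 | g2
  · exact chkURangeF_spec C relF_hyp 1237356000 tc_eq 8163328 2048 ck_3986 b (by omega) (by omega)
  rcases Nat.lt_or_ge b 8167424 with g3 | g3
  · exact chkURangeF_spec C relF_hyp 1237356000 tc_eq 8165376 2048 ck_3987 b (by omega) (by omega)
  rcases Nat.lt_or_ge b 8169472 with g4 | g4
  · exact chkURangeF_spec C relF_hyp 1237356000 tc_eq 8167424 2048 ck_3988 b (by omega) (by omega)
  rcases Nat.lt_or_ge b 8171520 with g5 | g5
  · exact chkURangeF_spec C relF_hyp 1237356000 tc_eq 8169472 2048 ck_3989 b (by omega) (by omega)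
  rcases Nat.lt_or_ge b 8173568 with g6 | g6
  · exact chkURangeF_spec C relF_hyp 1237356000 tc_eq 8171520 2048 ck_3990 b (by omega) (by omega)
  rcases Nat.lt_or_ge b 8175616 with g7 | g7
  · exact chkURangeF_spec C relF_hyp 1237356000 tc_eq 8173568 2048 ck_3991 b (by omega) (by omega)
  rcases Nat.lt_or_ge b 8177664 with g8 | g8
  · exact chkURangeF_spec C relF_hyp 1237356000 tc_eq 8175616 2048 ck_3992 b (by omega) (by omega)
  rcases Nat.lt_or_ge b 8179712 with g9 | g9
  · exact chkURangeF_spec C relF_hyp 1237356000 tc_eq 8177664 2048 ck_3993 b (by omega) (by omega)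
  rcases Nat.lt_or_ge b 8181760 with g10 | g10
  · exact chkURangeF_spec C relF_hyp 1237356000 tc_eq 8179712 2048 ck_3994 b (by omega) (by omega)
  rcases Nat.lt_or_ge b 8183808 with g11 | g11
  · exact chkURangeF_spec C relF_hyp 1237356000 tc_eq 8181760 2048 ck_3995 b (by omega) (by omega)
  rcases Nat.lt_or_ge b 8185856 with g12 | g12
  · exact chkURangeF_spec C relF_hyp 1237356000 tc_eq 8183808 2048 ck_3996 b (by omega) (by omega)
  rcases Nat.lt_or_ge b 8187904 with g13 | g13
  · exact chkURangeF_spec C relF_hyp 1237356000 tc_eq 8185856 2048 ck_3997 b (by omega) (by omega)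
  rcases Nat.lt_or_ge b 8189952 with g14 | g14
  · exact chkURangeF_spec C relF_hyp 1237356000 tc_eq 8187904 2048 ck_3998 b (by omega) (by omega)
  rcases Nat.lt_or_ge b 8192000 with g15 | g15
  · exact chkURangeF_spec C relF_hyp 1237356000 tc_eq 8189952 2048 ck_3999 b (by omega) (by omega)
  rcases Nat.lt_or_ge b 8194048 with g16 | g16
  · exact chkURangeF_spec C relF_hyp 1237356000 tc_eq 8192000 2048 ck_4000 b (by omega) (by omega)
  rcases Nat.lt_or_ge b 8196096 with g17 | g17
  · exact chkURangeF_spec C relF_hyp 1237356000 tc_eq 8194048 2048 ck_4001 b (by omega) (by omega)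
  rcases Nat.lt_or_ge b 8198144 with g18 | g18
  · exact chkURangeF_spec C relF_hyp 1237356000 tc_eq 8196096 2048 ck_4002 b (by omega) (by omega)
  rcases Nat.lt_or_ge b 8200192 with g19 | g19
  · exact chkURangeF_spec C relF_hyp 1237356000 tc_eq 8198144 2048 ck_4003 b (by omega) (by omega)
  rcases Nat.lt_or_ge b 8202240 with g20 | g20
  · exact chkURangeF_spec C relF_hyp 1237356000 tc_eq 8200192 2048 ck_4004 b (by omega) (by omega)
  rcases Nat.lt_or_ge b 8204288 with g21 | g21
  · exact chkURangeF_spec C relF_hyp 1237356000 tc_eq 8202240 2048 ck_4005 b (by omega) (by omega)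
  rcases Nat.lt_or_ge b 8206336 with g22 | g22
  · exact chkURangeF_spec C relF_hyp 1237356000 tc_eq 8204288 2048 ck_4006 b (by omega) (by omega)
  exact chkURangeF_spec C relF_hyp 1237356000 tc_eq 8206336 2048 ck_4007 b (by omega) (by omega)
end Cfsg.Agent.Lib.Helper2.HNMult.P5
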