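import Cfsg.Agent.Lib.Helper2.HNMult.P5.Cert
set_option autoImplicit false
set_option maxRecDepth 1000000
set_option Elab.async false
namespace Cfsg.Agent.Lib.Helper2.HNMult.P5
open Cfsg.Agent.Lib.Helper4.Sparse Cfsg.Agent.Lib.Helper2.SparseF
theorem ck_4056 : chkURangeF D C relF 796 1237356000 8306688 2048 = true := by decide +kernel
theorem ck_4057 : chkURangeF D C relF 796 1237356000 8308736 2048 = true := by decide +kernel
theorem ck_4058 : chkURangeF D C relF 796 1237356000 8310784 2048 = true := by decide +kernel
theorem ck_4059 : chkURangeF D C relF 796 1237356000 8312832 2048 = true := by decide +kernel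
theorem ck_4060 : chkURangeF D C relF 796 1237356000 8314880 2048 = true := by decide +kernel
theorem ck_4061 : chkURangeF D C relF 796 1237356000 8316928 2048 = true := by decide +kernel
theorem ck_4062 : chkURangeF D C relF 796 1237356000 8318976 2048 = true := by decide +kernel
theorem ck_4063 : chkURangeF D C relF 796 1237356000 8321024 2048 = true := by decide +kernel
theorem ck_4064 : chkURangeF D C relF 796 1237356000 8323072 2048 = true := by decide +kernel
theorem ck_4065 : chkURangeF D C relF 796 1237356000 8325120 2048 = true := by decide +kernel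
theorem ck_4066 : chkURangeF D C relF 796 1237356000 8327168 2048 = true := by decide +kernel
theorem ck_4067 : chkURangeF D C relF 796 1237356000 8329216 2048 = true := by decide +kernel
theorem ck_4068 : chkURangeF D C relF 796 1237356000 8331264 2048 = true := by decide +kernel
theorem ck_4069 : chkURangeF D C relF 796 1237356000 8333312 2048 = true := by decide +kernel
theorem ck_4070 : chkURangeF D C relF 796 1237356000 8335360 2048 = true := by decide +kernel
theorem ck_4071 : chkURangeF D C relF 796 1237356000 8337408 2048 = true := by decide +kernel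
theorem ck_4072 : chkURangeF D C relF 796 1237356000 8339456 2048 = true := by decide +kernel
theorem ck_4073 : chkURangeF D C relF 796 1237356000 8341504 2048 = true := by decide +kernel
theorem ck_4074 : chkURangeF D C relF 796 1237356000 8343552 2048 = true := by decide +kernel
theorem ck_4075 : chkURangeF D C relF 796 1237356000 8345600 2048 = true := by decide +kernel
theorem ck_4076 : chkURangeF D C relF 796 1237356000 8347648 2048 = true := by decide +kernel
theorem ck_4077 : chkURangeF D C relF 796 1237356000 8349696 2048 = true := by decide +kernel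
theorem ck_4078 : chkURangeF D C relF 796 1237356000 8351744 2048 = true := by decide +kernel
theorem ck_4079 : chkURangeF D C relF 796 1237356000 8353792 2048 = true := by decide +kernel
theorem chkU_169 (b : ℕ) (h1 : 8306688 ≤ b) (h2 : b < 8355840) : chkU D C b = true := by
  rcases Nat.lt_or_ge b 8308736 with g0 | g0
  · exact chkURangeF_spec C relF_hyp 1237356000 tc_eq 8306688 2048 ck_4056 b (by omega) (by omega)
  rcases Nat.lt_or_ge b 8310784 with g1 | g1
  · exact chkURangeF_spec C relF_hyp 1237356000 tc_eq 8308736 2048 ck_4057 b (by omega) (by omega)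
  rcases Nat.lt_or_ge b 8312832 with g2 | g2
  · exact chkURangeF_spec C relF_hyp 1237356000 tc_eq 8310784 2048 ck_4058 b (by omega) (by omega)
  rcases Nat.lt_or_ge b 8314880 with g3 | g3
  · exact chkURangeF_spec C relF_hyp 1237356000 tc_eq 8312832 2048 ck_4059 b (by omega) (by omega)
  rcases Nat.lt_or_ge b 8316928 with g4 | g4
  · exact chkURangeF_spec C relF_hyp 1237356000 tc_eq 8314880 2048 ck_4060 b (by omega) (by omega)
  rcases Nat.lt_or_ge b 8318976 with g5 | g5
  · exact chkURangeF_spec C relF_hyp 1237356000 tc_eq 8316928 2048 ck_4061 b (by omega) (by omega)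
  rcases Nat.lt_or_ge b 8321024 with g6 | g6
  · exact chkURangeF_spec C relF_hyp 1237356000 tc_eq 8318976 2048 ck_4062 b (by omega) (by omega)
  rcases Nat.lt_or_ge b 8323072 with g7 | g7
  · exact chkURangeF_spec C relF_hyp 1237356000 tc_eq 8321024 2048 ck_4063 b (by omega) (by omega)
  rcases Nat.lt_or_ge b 8325120 with g8 | g8
  · exact chkURangeF_spec C relF_hyp 1237356000 tc_eq 8323072 2048 ck_4064 b (by omega) (by omega)
  rcases Nat.lt_or_ge b 8327168 with g9 | g9
  · exact chkURangeF_spec C relF_hyp 1237356000 tc_eq 8325120 2048 ck_4065 b (by omega) (by omega)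
  rcases Nat.lt_or_ge b 8329216 with g10 | g10
  · exact chkURangeF_spec C relF_hyp 1237356000 tc_eq 8327168 2048 ck_4066 b (by omega) (by omega)
  rcases Nat.lt_or_ge b 8331264 with g11 | g11
  · exact chkURangeF_spec C relF_hyp 1237356000 tc_eq 8329216 2048 ck_4067 b (by omega) (by omega)
  rcases Nat.lt_or_ge b 8333312 with g12 | g12
  · exact chkURangeF_spec C relF_hyp 1237356000 tc_eq 8331264 2048 ck_4068 b (by omega) (by omega)
  rcases Nat.lt_or_ge b 8335360 with g13 | g13
  · exact chkURangeF_spec C relF_hyp 1237356000 tc_eq 8333312 2048 ck_4069 b (by omega) (by omega)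
  rcases Nat.lt_or_ge b 8337408 with g14 | g14
  · exact chkURangeF_spec C relF_hyp 1237356000 tc_eq 8335360 2048 ck_4070 b (by omega) (by omega)
  rcases Nat.lt_or_ge b 8339456 with g15 | g15
  · exact chkURangeF_spec C relF_hyp 1237356000 tc_eq 8337408 2048 ck_4071 b (by omega) (by omega)
  rcases Nat.lt_or_ge b 8341504 with g16 | g16
  · exact chkURangeF_spec C relF_hyp 1237356000 tc_eq 8339456 2048 ck_4072 b (by omega) (by omega)
  rcases Nat.lt_or_ge b 8343552 with g17 | g17
  · exact chkURangeF_spec C relF_hyp 1237356000 tc_eq 8341504 2048 ck_4073 b (by omega) (by omega)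
  rcases Nat.lt_or_ge b 8345600 with g18 | g18
  · exact chkURangeF_spec C relF_hyp 1237356000 tc_eq 8343552 2048 ck_4074 b (by omega) (by omega)
  rcases Nat.lt_or_ge b 8347648 with g19 | g19
  · exact chkURangeF_spec C relF_hyp 1237356000 tc_eq 8345600 2048 ck_4075 b (by omega) (by omega)
  rcases Nat.lt_or_ge b 8349696 with g20 | g20
  · exact chkURangeF_spec C relF_hyp 1237356000 tc_eq 8347648 2048 ck_4076 b (by omega) (by omega)
  rcases Nat.lt_or_ge b 8351744 with g21 | g21
  · exact chkURangeF_spec C relF_hyp 1237356000 tc_eq 8349696 2048 ck_4077 b (by omega) (by omega)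
  rcases Nat.lt_or_ge b 8353792 with g22 | g22
  · exact chkURangeF_spec C relF_hyp 1237356000 tc_eq 8351744 2048 ck_4078 b (by omega) (by omega)
  exact chkURangeF_spec C relF_hyp 1237356000 tc_eq 8353792 2048 ck_4079 b (by omega) (by omega)
end Cfsg.Agent.Lib.Helper2.HNMult.P5
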