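import Cfsg.Agent.Lib.Helper2.HNMult.P5.Cert
set_option autoImplicit false
set_option maxRecDepth 1000000
set_option Elab.async false
namespace Cfsg.Agent.Lib.Helper2.HNMult.P5
open Cfsg.Agent.Lib.Helper4.Sparse Cfsg.Agent.Lib.Helper2.SparseF
theorem ck_4200 : chkURangeF D C relF 796 1237356000 8601600 2048 = true := by decide +kernel
theorem ck_4201 : chkURangeF D C relF 796 1237356000 8603648 2048 = true := by decide +kernel
theorem ck_4202 : chkURangeF D C relF 796 1237356000 8605696 2048 = true := by decide +kernel
theorem ck_4203 : chkURangeF D C relF 796 1237356000 8607744 2048 = true := by decide +kernel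
theorem ck_4204 : chkURangeF D C relF 796 1237356000 8609792 2048 = true := by decide +kernel
theorem ck_4205 : chkURangeF D C relF 796 1237356000 8611840 2048 = true := by decide +kernel
theorem ck_4206 : chkURangeF D C relF 796 1237356000 8613888 2048 = true := by decide +kernel
theorem ck_4207 : chkURangeF D C relF 796 1237356000 8615936 2048 = true := by decide +kernel
theorem ck_4208 : chkURangeF D C relF 796 1237356000 8617984 2048 = true := by decide +kernel
theorem ck_4209 : chkURangeF D C relF 796 1237356000 8620032 2048 = true := by decide +kernel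
theorem ck_4210 : chkURangeF D C relF 796 1237356000 8622080 2048 = true := by decide +kernel
theorem ck_4211 : chkURangeF D C relF 796 1237356000 8624128 2048 = true := by decide +kernel
theorem ck_4212 : chkURangeF D C relF 796 1237356000 8626176 2048 = true := by decide +kernel
theorem ck_4213 : chkURangeF D C relF 796 1237356000 8628224 2048 = true := by decide +kernel
theorem ck_4214 : chkURangeF D C relF 796 1237356000 8630272 2048 = true := by decide +kernel
theorem ck_4215 : chkURangeF D C relF 796 1237356000 8632320 2048 = true := by decide +kernel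
theorem ck_4216 : chkURangeF D C relF 796 1237356000 8634368 2048 = true := by decide +kernel
theorem ck_4217 : chkURangeF D C relF 796 1237356000 8636416 2048 = true := by decide +kernel
theorem ck_4218 : chkURangeF D C relF 796 1237356000 8638464 2048 = true := by decide +kernel
theorem ck_4219 : chkURangeF D C relF 796 1237356000 8640512 2048 = true := by decide +kernel
theorem ck_4220 : chkURangeF D C relF 796 1237356000 8642560 2048 = true := by decide +kernel
theorem ck_4221 : chkURangeF D C relF 796 1237356000 8644608 2048 = true := by decide +kernel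
theorem ck_4222 : chkURangeF D C relF 796 1237356000 8646656 2048 = true := by decide +kernel
theorem ck_4223 : chkURangeF D C relF 796 1237356000 8648704 2048 = true := by decide +kernel
theorem chkU_175 (b : ℕ) (h1 : 8601600 ≤ b) (h2 : b < 8650752) : chkU D C b = true := by
  rcases Nat.lt_or_ge b 8603648 with g0 | g0
  · exact chkURangeF_spec C relF_hyp 1237356000 tc_eq 8601600 2048 ck_4200 b (by omega) (by omega)
  rcases Nat.lt_or_ge b 8605696 with g1 | g1
  · exact chkURangeF_spec C relF_hyp 1237356000 tc_eq 8603648 2048 ck_4201 b (by omega) (by omega)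
  rcases Nat.lt_or_ge b 8607744 with g2 | g2
  · exact chkURangeF_spec C relF_hyp 1237356000 tc_eq 8605696 2048 ck_4202 b (by omega) (by omega)
  rcases Nat.lt_or_ge b 8609792 with g3 | g3
  · exact chkURangeF_spec C relF_hyp 1237356000 tc_eq 8607744 2048 ck_4203 b (by omega) (by omega)
  rcases Nat.lt_or_ge b 8611840 with g4 | g4
  · exact chkURangeF_spec C relF_hyp 1237356000 tc_eq 8609792 2048 ck_4204 b (by omega) (by omega)
  rcases Nat.lt_or_ge b 8613888 with g5 | g5
  · exact chkURangeF_spec C relF_hyp 1237356000 tc_eq 8611840 2048 ck_4205 b (by omega) (by omega)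
  rcases Nat.lt_or_ge b 8615936 with g6 | g6
  · exact chkURangeF_spec C relF_hyp 1237356000 tc_eq 8613888 2048 ck_4206 b (by omega) (by omega)
  rcases Nat.lt_or_ge b 8617984 with g7 | g7
  · exact chkURangeF_spec C relF_hyp 1237356000 tc_eq 8615936 2048 ck_4207 b (by omega) (by omega)
  rcases Nat.lt_or_ge b 8620032 with g8 | g8
  · exact chkURangeF_spec C relF_hyp 1237356000 tc_eq 8617984 2048 ck_4208 b (by omega) (by omega)
  rcases Nat.lt_or_ge b 8622080 with g9 | g9
  · exact chkURangeF_spec C relF_hyp 1237356000 tc_eq 8620032 2048 ck_4209 b (by omega) (by omega)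
  rcases Nat.lt_or_ge b 8624128 with g10 | g10
  · exact chkURangeF_spec C relF_hyp 1237356000 tc_eq 8622080 2048 ck_4210 b (by omega) (by omega)
  rcases Nat.lt_or_ge b 8626176 with g11 | g11
  · exact chkURangeF_spec C relF_hyp 1237356000 tc_eq 8624128 2048 ck_4211 b (by omega) (by omega)
  rcases Nat.lt_or_ge b 8628224 with g12 | g12
  · exact chkURangeF_spec C relF_hyp 1237356000 tc_eq 8626176 2048 ck_4212 b (by omega) (by omega)
  rcases Nat.lt_or_ge b 8630272 with g13 | g13
  · exact chkURangeF_spec C relF_hyp 1237356000 tc_eq 8628224 2048 ck_4213 b (by omega) (by omega)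
  rcases Nat.lt_or_ge b 8632320 with g14 | g14
  · exact chkURangeF_spec C relF_hyp 1237356000 tc_eq 8630272 2048 ck_4214 b (by omega) (by omega)
  rcases Nat.lt_or_ge b 8634368 with g15 | g15
  · exact chkURangeF_spec C relF_hyp 1237356000 tc_eq 8632320 2048 ck_4215 b (by omega) (by omega)
  rcases Nat.lt_or_ge b 8636416 with g16 | g16
  · exact chkURangeF_spec C relF_hyp 1237356000 tc_eq 8634368 2048 ck_4216 b (by omega) (by omega)
  rcases Nat.lt_or_ge b 8638464 with g17 | g17
  · exact chkURangeF_spec C relF_hyp 1237356000 tc_eq 8636416 2048 ck_4217 b (by omega) (by omega)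
  rcases Nat.lt_or_ge b 8640512 with g18 | g18
  · exact chkURangeF_spec C relF_hyp 1237356000 tc_eq 8638464 2048 ck_4218 b (by omega) (by omega)
  rcases Nat.lt_or_ge b 8642560 with g19 | g19
  · exact chkURangeF_spec C relF_hyp 1237356000 tc_eq 8640512 2048 ck_4219 b (by omega) (by omega)
  rcases Nat.lt_or_ge b 8644608 with g20 | g20
  · exact chkURangeF_spec C relF_hyp 1237356000 tc_eq 8642560 2048 ck_4220 b (by omega) (by omega)
  rcases Nat.lt_or_ge b 8646656 with g21 | g21
  · exact chkURangeF_spec C relF_hyp 1237356000 tc_eq 8644608 2048 ck_4221 b (by omega) (by omega)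
  rcases Nat.lt_or_ge b 8648704 with g22 | g22
  · exact chkURangeF_spec C relF_hyp 1237356000 tc_eq 8646656 2048 ck_4222 b (by omega) (by omega)
  exact chkURangeF_spec C relF_hyp 1237356000 tc_eq 8648704 2048 ck_4223 b (by omega) (by omega)
end Cfsg.Agent.Lib.Helper2.HNMult.P5
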