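import Cfsg.Agent.Lib.Helper2.HNMult.P5.Cert
set_option autoImplicit false
set_option maxRecDepth 1000000
set_option Elab.async false
namespace Cfsg.Agent.Lib.Helper2.HNMult.P5
open Cfsg.Agent.Lib.Helper4.Sparse Cfsg.Agent.Lib.Helper2.SparseF
theorem ck_4224 : chkURangeF D C relF 796 1237356000 8650752 2048 = true := by decide +kernel
theorem ck_4225 : chkURangeF D C relF 796 1237356000 8652800 2048 = true := by decide +kernel
theorem ck_4226 : chkURangeF D C relF 796 1237356000 8654848 2048 = true := by decide +kernel
theorem ck_4227 : chkURangeF D C relF 796 1237356000 8656896 2048 = true := by decide +kernel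
theorem ck_4228 : chkURangeF D C relF 796 1237356000 8658944 2048 = true := by decide +kernel
theorem ck_4229 : chkURangeF D C relF 796 1237356000 8660992 2048 = true := by decide +kernel
theorem ck_4230 : chkURangeF D C relF 796 1237356000 8663040 2048 = true := by decide +kernel
theorem ck_4231 : chkURangeF D C relF 796 1237356000 8665088 2048 = true := by decide +kernel
theorem ck_4232 : chkURangeF D C relF 796 1237356000 8667136 2048 = true := by decide +kernel
theorem ck_4233 : chkURangeF D C relF 796 1237356000 8669184 2048 = true := by decide +kernel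
theorem ck_4234 : chkURangeF D C relF 796 1237356000 8671232 2048 = true := by decide +kernel
theorem ck_4235 : chkURangeF D C relF 796 1237356000 8673280 2048 = true := by decide +kernel
theorem ck_4236 : chkURangeF D C relF 796 1237356000 8675328 2048 = true := by decide +kernel
theorem ck_4237 : chkURangeF D C relF 796 1237356000 8677376 2048 = true := by decide +kernel
theorem ck_4238 : chkURangeF D C relF 796 1237356000 8679424 2048 = true := by decide +kernel
theorem ck_4239 : chkURangeF D C relF 796 1237356000 8681472 2048 = true := by decide +kernel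
theorem ck_4240 : chkURangeF D C relF 796 1237356000 8683520 2048 = true := by decide +kernel
theorem ck_4241 : chkURangeF D C relF 796 1237356000 8685568 2048 = true := by decide +kernel
theorem ck_4242 : chkURangeF D C relF 796 1237356000 8687616 2048 = true := by decide +kernel
theorem ck_4243 : chkURangeF D C relF 796 1237356000 8689664 2048 = true := by decide +kernel
theorem ck_4244 : chkURangeF D C relF 796 1237356000 8691712 2048 = true := by decide +kernel
theorem ck_4245 : chkURangeF D C relF 796 1237356000 8693760 2048 = true := by decide +kernel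
theorem ck_4246 : chkURangeF D C relF 796 1237356000 8695808 2048 = true := by decide +kernel
theorem ck_4247 : chkURangeF D C relF 796 1237356000 8697856 2048 = true := by decide +kernel
theorem chkU_176 (b : ℕ) (h1 : 8650752 ≤ b) (h2 : b < 8699904) : chkU D C b = true := by
  rcases Nat.lt_or_ge b 8652800 with g0 | g0
  · exact chkURangeF_spec C relF_hyp 1237356000 tc_eq 8650752 2048 ck_4224 b (by omega) (by omega)
  rcases Nat.lt_or_ge b 8654848 with g1 | g1
  · exact chkURangeF_spec C relF_hyp 1237356000 tc_eq 8652800 2048 ck_4225 b (by omega) (by omega)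
  rcases Nat.lt_or_ge b 8656896 with g2 | g2
  · exact chkURangeF_spec C relF_hyp 1237356000 tc_eq 8654848 2048 ck_4226 b (by omega) (by omega)
  rcases Nat.lt_or_ge b 8658944 with g3 | g3
  · exact chkURangeF_spec C relF_hyp 1237356000 tc_eq 8656896 2048 ck_4227 b (by omega) (by omega)
  rcases Nat.lt_or_ge b 8660992 with g4 | g4
  · exact chkURangeF_spec C relF_hyp 1237356000 tc_eq 8658944 2048 ck_4228 b (by omega) (by omega)
  rcases Nat.lt_or_ge b 8663040 with g5 | g5
  · exact chkURangeF_spec C relF_hyp 1237356000 tc_eq 8660992 2048 ck_4229 b (by omega) (by omega)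
  rcases Nat.lt_or_ge b 8665088 with g6 | g6
  · exact chkURangeF_spec C relF_hyp 1237356000 tc_eq 8663040 2048 ck_4230 b (by omega) (by omega)
  rcases Nat.lt_or_ge b 8667136 with g7 | g7
  · exact chkURangeF_spec C relF_hyp 1237356000 tc_eq 8665088 2048 ck_4231 b (by omega) (by omega)
  rcases Nat.lt_or_ge b 8669184 with g8 | g8
  · exact chkURangeF_spec C relF_hyp 1237356000 tc_eq 8667136 2048 ck_4232 b (by omega) (by omega)
  rcases Nat.lt_or_ge b 8671232 with g9 | g9
  · exact chkURangeF_spec C relF_hyp 1237356000 tc_eq 8669184 2048 ck_4233 b (by omega) (by omega)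
  rcases Nat.lt_or_ge b 8673280 with g10 | g10
  · exact chkURangeF_spec C relF_hyp 1237356000 tc_eq 8671232 2048 ck_4234 b (by omega) (by omega)
  rcases Nat.lt_or_ge b 8675328 with g11 | g11
  · exact chkURangeF_spec C relF_hyp 1237356000 tc_eq 8673280 2048 ck_4235 b (by omega) (by omega)
  rcases Nat.lt_or_ge b 8677376 with g12 | g12
  · exact chkURangeF_spec C relF_hyp 1237356000 tc_eq 8675328 2048 ck_4236 b (by omega) (by omega)
  rcases Nat.lt_or_ge b 8679424 with g13 | g13
  · exact chkURangeF_spec C relF_hyp 1237356000 tc_eq 8677376 2048 ck_4237 b (by omega) (by omega)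
  rcases Nat.lt_or_ge b 8681472 with g14 | g14
  · exact chkURangeF_spec C relF_hyp 1237356000 tc_eq 8679424 2048 ck_4238 b (by omega) (by omega)
  rcases Nat.lt_or_ge b 8683520 with g15 | g15
  · exact chkURangeF_spec C relF_hyp 1237356000 tc_eq 8681472 2048 ck_4239 b (by omega) (by omega)
  rcases Nat.lt_or_ge b 8685568 with g16 | g16
  · exact chkURangeF_spec C relF_hyp 1237356000 tc_eq 8683520 2048 ck_4240 b (by omega) (by omega)
  rcases Nat.lt_or_ge b 8687616 with g17 | g17
  · exact chkURangeF_spec C relF_hyp 1237356000 tc_eq 8685568 2048 ck_4241 b (by omega) (by omega)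
  rcases Nat.lt_or_ge b 8689664 with g18 | g18
  · exact chkURangeF_spec C relF_hyp 1237356000 tc_eq 8687616 2048 ck_4242 b (by omega) (by omega)
  rcases Nat.lt_or_ge b 8691712 with g19 | g19
  · exact chkURangeF_spec C relF_hyp 1237356000 tc_eq 8689664 2048 ck_4243 b (by omega) (by omega)
  rcases Nat.lt_or_ge b 8693760 with g20 | g20
  · exact chkURangeF_spec C relF_hyp 1237356000 tc_eq 8691712 2048 ck_4244 b (by omega) (by omega)
  rcases Nat.lt_or_ge b 8695808 with g21 | g21
  · exact chkURangeF_spec C relF_hyp 1237356000 tc_eq 8693760 2048 ck_4245 b (by omega) (by omega)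
  rcases Nat.lt_or_ge b 8697856 with g22 | g22
  · exact chkURangeF_spec C relF_hyp 1237356000 tc_eq 8695808 2048 ck_4246 b (by omega) (by omega)
  exact chkURangeF_spec C relF_hyp 1237356000 tc_eq 8697856 2048 ck_4247 b (by omega) (by omega)
end Cfsg.Agent.Lib.Helper2.HNMult.P5
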