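import Cfsg.Agent.Lib.Helper2.HNMult.P5.Cert
set_option autoImplicit false
set_option maxRecDepth 1000000
set_option Elab.async false
namespace Cfsg.Agent.Lib.Helper2.HNMult.P5
open Cfsg.Agent.Lib.Helper4.Sparse Cfsg.Agent.Lib.Helper2.SparseF
theorem ck_4248 : chkURangeF D C relF 796 1237356000 8699904 2048 = true := by decide +kernel
theorem ck_4249 : chkURangeF D C relF 796 1237356000 8701952 2048 = true := by decide +kernel
theorem ck_4250 : chkURangeF D C relF 796 1237356000 8704000 2048 = true := by decide +kernel
theorem ck_4251 : chkURangeF D C relF 796 1237356000 8706048 2048 = true := by decide +kernel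
theorem ck_4252 : chkURangeF D C relF 796 1237356000 8708096 2048 = true := by decide +kernel
theorem ck_4253 : chkURangeF D C relF 796 1237356000 8710144 2048 = true := by decide +kernel
theorem ck_4254 : chkURangeF D C relF 796 1237356000 8712192 2048 = true := by decide +kernel
theorem ck_4255 : chkURangeF D C relF 796 1237356000 8714240 2048 = true := by decide +kernel
theorem ck_4256 : chkURangeF D C relF 796 1237356000 8716288 2048 = true := by decide +kernel
theorem ck_4257 : chkURangeF D C relF 796 1237356000 8718336 2048 = true := by decide +kernel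
theorem ck_4258 : chkURangeF D C relF 796 1237356000 8720384 2048 = true := by decide +kernel
theorem ck_4259 : chkURangeF D C relF 796 1237356000 8722432 2048 = true := by decide +kernel
theorem ck_4260 : chkURangeF D C relF 796 1237356000 8724480 2048 = true := by decide +kernel
theorem ck_4261 : chkURangeF D C relF 796 1237356000 8726528 2048 = true := by decide +kernel
theorem ck_4262 : chkURangeF D C relF 796 1237356000 8728576 2048 = true := by decide +kernel
theorem ck_4263 : chkURangeF D C relF 796 1237356000 8730624 2048 = true := by decide +kernel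
theorem ck_4264 : chkURangeF D C relF 796 1237356000 8732672 2048 = true := by decide +kernel
theorem ck_4265 : chkURangeF D C relF 796 1237356000 8734720 2048 = true := by decide +kernel
theorem ck_4266 : chkURangeF D C relF 796 1237356000 8736768 2048 = true := by decide +kernel
theorem ck_4267 : chkURangeF D C relF 796 1237356000 8738816 2048 = true := by decide +kernel
theorem ck_4268 : chkURangeF D C relF 796 1237356000 8740864 2048 = true := by decide +kernel
theorem ck_4269 : chkURangeF D C relF 796 1237356000 8742912 2048 = true := by decide +kernel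
theorem ck_4270 : chkURangeF D C relF 796 1237356000 8744960 2048 = true := by decide +kernel
theorem ck_4271 : chkURangeF D C relF 796 1237356000 8747008 2048 = true := by decide +kernel
theorem chkU_177 (b : ℕ) (h1 : 8699904 ≤ b) (h2 : b < 8749056) : chkU D C b = true := by
  rcases Nat.lt_or_ge b 8701952 with g0 | g0
  · exact chkURangeF_spec C relF_hyp 1237356000 tc_eq 8699904 2048 ck_4248 b (by omega) (by omega)
  rcases Nat.lt_or_ge b 8704000 with g1 | g1
  · exact chkURangeF_spec C relF_hyp 1237356000 tc_eq 8701952 2048 ck_4249 b (by omega) (by omega)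
  rcases Nat.lt_or_ge b 8706048 with g2 | g2
  · exact chkURangeF_spec C relF_hyp 1237356000 tc_eq 8704000 2048 ck_4250 b (by omega) (by omega)
  rcases Nat.lt_or_ge b 8708096 with g3 | g3
  · exact chkURangeF_spec C relF_hyp 1237356000 tc_eq 8706048 2048 ck_4251 b (by omega) (by omega)
  rcases Nat.lt_or_ge b 8710144 with g4 | g4
  · exact chkURangeF_spec C relF_hyp 1237356000 tc_eq 8708096 2048 ck_4252 b (by omega) (by omega)
  rcases Nat.lt_or_ge b 8712192 with g5 | g5
  · exact chkURangeF_spec C relF_hyp 1237356000 tc_eq 8710144 2048 ck_4253 b (by omega) (by omega)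
  rcases Nat.lt_or_ge b 8714240 with g6 | g6
  · exact chkURangeF_spec C relF_hyp 1237356000 tc_eq 8712192 2048 ck_4254 b (by omega) (by omega)
  rcases Nat.lt_or_ge b 8716288 with g7 | g7
  · exact chkURangeF_spec C relF_hyp 1237356000 tc_eq 8714240 2048 ck_4255 b (by omega) (by omega)
  rcases Nat.lt_or_ge b 8718336 with g8 | g8
  · exact chkURangeF_spec C relF_hyp 1237356000 tc_eq 8716288 2048 ck_4256 b (by omega) (by omega)
  rcases Nat.lt_or_ge b 8720384 with g9 | g9
  · exact chkURangeF_spec C relF_hyp 1237356000 tc_eq 8718336 2048 ck_4257 b (by omega) (by omega)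
  rcases Nat.lt_or_ge b 8722432 with g10 | g10
  · exact chkURangeF_spec C relF_hyp 1237356000 tc_eq 8720384 2048 ck_4258 b (by omega) (by omega)
  rcases Nat.lt_or_ge b 8724480 with g11 | g11
  · exact chkURangeF_spec C relF_hyp 1237356000 tc_eq 8722432 2048 ck_4259 b (by omega) (by omega)
  rcases Nat.lt_or_ge b 8726528 with g12 | g12
  · exact chkURangeF_spec C relF_hyp 1237356000 tc_eq 8724480 2048 ck_4260 b (by omega) (by omega)
  rcases Nat.lt_or_ge b 8728576 with g13 | g13
  · exact chkURangeF_spec C relF_hyp 1237356000 tc_eq 8726528 2048 ck_4261 b (by omega) (by omega)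
  rcases Nat.lt_or_ge b 8730624 with g14 | g14
  · exact chkURangeF_spec C relF_hyp 1237356000 tc_eq 8728576 2048 ck_4262 b (by omega) (by omega)
  rcases Nat.lt_or_ge b 8732672 with g15 | g15
  · exact chkURangeF_spec C relF_hyp 1237356000 tc_eq 8730624 2048 ck_4263 b (by omega) (by omega)
  rcases Nat.lt_or_ge b 8734720 with g16 | g16
  · exact chkURangeF_spec C relF_hyp 1237356000 tc_eq 8732672 2048 ck_4264 b (by omega) (by omega)
  rcases Nat.lt_or_ge b 8736768 with g17 | g17
  · exact chkURangeF_spec C relF_hyp 1237356000 tc_eq 8734720 2048 ck_4265 b (by omega) (by omega)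
  rcases Nat.lt_or_ge b 8738816 with g18 | g18
  · exact chkURangeF_spec C relF_hyp 1237356000 tc_eq 8736768 2048 ck_4266 b (by omega) (by omega)
  rcases Nat.lt_or_ge b 8740864 with g19 | g19
  · exact chkURangeF_spec C relF_hyp 1237356000 tc_eq 8738816 2048 ck_4267 b (by omega) (by omega)
  rcases Nat.lt_or_ge b 8742912 with g20 | g20
  · exact chkURangeF_spec C relF_hyp 1237356000 tc_eq 8740864 2048 ck_4268 b (by omega) (by omega)
  rcases Nat.lt_or_ge b 8744960 with g21 | g21
  · exact chkURangeF_spec C relF_hyp 1237356000 tc_eq 8742912 2048 ck_4269 b (by omega) (by omega)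
  rcases Nat.lt_or_ge b 8747008 with g22 | g22
  · exact chkURangeF_spec C relF_hyp 1237356000 tc_eq 8744960 2048 ck_4270 b (by omega) (by omega)
  exact chkURangeF_spec C relF_hyp 1237356000 tc_eq 8747008 2048 ck_4271 b (by omega) (by omega)
end Cfsg.Agent.Lib.Helper2.HNMult.P5
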