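import Cfsg.Agent.Lib.Helper2.HNMult.P5.Cert
set_option autoImplicit false
set_option maxRecDepth 1000000
set_option Elab.async false
namespace Cfsg.Agent.Lib.Helper2.HNMult.P5
open Cfsg.Agent.Lib.Helper4.Sparse Cfsg.Agent.Lib.Helper2.SparseF
theorem ck_4344 : chkURangeF D C relF 796 1237356000 8896512 2048 = true := by decide +kernel
theorem ck_4345 : chkURangeF D C relF 796 1237356000 8898560 2048 = true := by decide +kernel
theorem ck_4346 : chkURangeF D C relF 796 1237356000 8900608 2048 = true := by decide +kernel
theorem ck_4347 : chkURangeF D C relF 796 1237356000 8902656 2048 = true := by decide +kernel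
theorem ck_4348 : chkURangeF D C relF 796 1237356000 8904704 2048 = true := by decide +kernel
theorem ck_4349 : chkURangeF D C relF 796 1237356000 8906752 2048 = true := by decide +kernel
theorem ck_4350 : chkURangeF D C relF 796 1237356000 8908800 2048 = true := by decide +kernel
theorem ck_4351 : chkURangeF D C relF 796 1237356000 8910848 2048 = true := by decide +kernel
theorem ck_4352 : chkURangeF D C relF 796 1237356000 8912896 2048 = true := by decide +kernel
theorem ck_4353 : chkURangeF D C relF 796 1237356000 8914944 2048 = true := by decide +kernel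
theorem ck_4354 : chkURangeF D C relF 796 1237356000 8916992 2048 = true := by decide +kernel
theorem ck_4355 : chkURangeF D C relF 796 1237356000 8919040 2048 = true := by decide +kernel
theorem ck_4356 : chkURangeF D C relF 796 1237356000 8921088 2048 = true := by decide +kernel
theorem ck_4357 : chkURangeF D C relF 796 1237356000 8923136 2048 = true := by decide +kernel
theorem ck_4358 : chkURangeF D C relF 796 1237356000 8925184 2048 = true := by decide +kernel
theorem ck_4359 : chkURangeF D C relF 796 1237356000 8927232 2048 = true := by decide +kernel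
theorem ck_4360 : chkURangeF D C relF 796 1237356000 8929280 2048 = true := by decide +kernel
theorem ck_4361 : chkURangeF D C relF 796 1237356000 8931328 2048 = true := by decide +kernel
theorem ck_4362 : chkURangeF D C relF 796 1237356000 8933376 2048 = true := by decide +kernel
theorem ck_4363 : chkURangeF D C relF 796 1237356000 8935424 2048 = true := by decide +kernel
theorem ck_4364 : chkURangeF D C relF 796 1237356000 8937472 2048 = true := by decide +kernel
theorem ck_4365 : chkURangeF D C relF 796 1237356000 8939520 2048 = true := by decide +kernel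
theorem ck_4366 : chkURangeF D C relF 796 1237356000 8941568 2048 = true := by decide +kernel
theorem ck_4367 : chkURangeF D C relF 796 1237356000 8943616 2048 = true := by decide +kernel
theorem chkU_181 (b : ℕ) (h1 : 8896512 ≤ b) (h2 : b < 8945664) : chkU D C b = true := by
  rcases Nat.lt_or_ge b 8898560 with g0 | g0
  · exact chkURangeF_spec C relF_hyp 1237356000 tc_eq 8896512 2048 ck_4344 b (by omega) (by omega)
  rcases Nat.lt_or_ge b 8900608 with g1 | g1
  · exact chkURangeF_spec C relF_hyp 1237356000 tc_eq 8898560 2048 ck_4345 b (by omega) (by omega)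
  rcases Nat.lt_or_ge b 8902656 with g2 | g2
  · exact chkURangeF_spec C relF_hyp 1237356000 tc_eq 8900608 2048 ck_4346 b (by omega) (by omega)
  rcases Nat.lt_or_ge b 8904704 with g3 | g3
  · exact chkURangeF_spec C relF_hyp 1237356000 tc_eq 8902656 2048 ck_4347 b (by omega) (by omega)
  rcases Nat.lt_or_ge b 8906752 with g4 | g4
  · exact chkURangeF_spec C relF_hyp 1237356000 tc_eq 8904704 2048 ck_4348 b (by omega) (by omega)
  rcases Nat.lt_or_ge b 8908800 with g5 | g5
  · exact chkURangeF_spec C relF_hyp 1237356000 tc_eq 8906752 2048 ck_4349 b (by omega) (by omega)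
  rcases Nat.lt_or_ge b 8910848 with g6 | g6
  · exact chkURangeF_spec C relF_hyp 1237356000 tc_eq 8908800 2048 ck_4350 b (by omega) (by omega)
  rcases Nat.lt_or_ge b 8912896 with g7 | g7
  · exact chkURangeF_spec C relF_hyp 1237356000 tc_eq 8910848 2048 ck_4351 b (by omega) (by omega)
  rcases Nat.lt_or_ge b 8914944 with g8 | g8
  · exact chkURangeF_spec C relF_hyp 1237356000 tc_eq 8912896 2048 ck_4352 b (by omega) (by omega)
  rcases Nat.lt_or_ge b 8916992 with g9 | g9
  · exact chkURangeF_spec C relF_hyp 1237356000 tc_eq 8914944 2048 ck_4353 b (by omega) (by omega)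
  rcases Nat.lt_or_ge b 8919040 with g10 | g10
  · exact chkURangeF_spec C relF_hyp 1237356000 tc_eq 8916992 2048 ck_4354 b (by omega) (by omega)
  rcases Nat.lt_or_ge b 8921088 with g11 | g11
  · exact chkURangeF_spec C relF_hyp 1237356000 tc_eq 8919040 2048 ck_4355 b (by omega) (by omega)
  rcases Nat.lt_or_ge b 8923136 with g12 | g12
  · exact chkURangeF_spec C relF_hyp 1237356000 tc_eq 8921088 2048 ck_4356 b (by omega) (by omega)
  rcases Nat.lt_or_ge b 8925184 with g13 | g13
  · exact chkURangeF_spec C relF_hyp 1237356000 tc_eq 8923136 2048 ck_4357 b (by omega) (by omega)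
  rcases Nat.lt_or_ge b 8927232 with g14 | g14
  · exact chkURangeF_spec C relF_hyp 1237356000 tc_eq 8925184 2048 ck_4358 b (by omega) (by omega)
  rcases Nat.lt_or_ge b 8929280 with g15 | g15
  · exact chkURangeF_spec C relF_hyp 1237356000 tc_eq 8927232 2048 ck_4359 b (by omega) (by omega)
  rcases Nat.lt_or_ge b 8931328 with g16 | g16
  · exact chkURangeF_spec C relF_hyp 1237356000 tc_eq 8929280 2048 ck_4360 b (by omega) (by omega)
  rcases Nat.lt_or_ge b 8933376 with g17 | g17
  · exact chkURangeF_spec C relF_hyp 1237356000 tc_eq 8931328 2048 ck_4361 b (by omega) (by omega)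
  rcases Nat.lt_or_ge b 8935424 with g18 | g18
  · exact chkURangeF_spec C relF_hyp 1237356000 tc_eq 8933376 2048 ck_4362 b (by omega) (by omega)
  rcases Nat.lt_or_ge b 8937472 with g19 | g19
  · exact chkURangeF_spec C relF_hyp 1237356000 tc_eq 8935424 2048 ck_4363 b (by omega) (by omega)
  rcases Nat.lt_or_ge b 8939520 with g20 | g20
  · exact chkURangeF_spec C relF_hyp 1237356000 tc_eq 8937472 2048 ck_4364 b (by omega) (by omega)
  rcases Nat.lt_or_ge b 8941568 with g21 | g21
  · exact chkURangeF_spec C relF_hyp 1237356000 tc_eq 8939520 2048 ck_4365 b (by omega) (by omega)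
  rcases Nat.lt_or_ge b 8943616 with g22 | g22
  · exact chkURangeF_spec C relF_hyp 1237356000 tc_eq 8941568 2048 ck_4366 b (by omega) (by omega)
  exact chkURangeF_spec C relF_hyp 1237356000 tc_eq 8943616 2048 ck_4367 b (by omega) (by omega)
end Cfsg.Agent.Lib.Helper2.HNMult.P5
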