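import Cfsg.Agent.Lib.Helper2.HNMult.P5.Cert
set_option autoImplicit false
set_option maxRecDepth 1000000
set_option Elab.async false
namespace Cfsg.Agent.Lib.Helper2.HNMult.P5
open Cfsg.Agent.Lib.Helper4.Sparse Cfsg.Agent.Lib.Helper2.SparseF
theorem ck_4536 : chkURangeF D C relF 796 1237356000 9289728 2048 = true := by decide +kernel
theorem ck_4537 : chkURangeF D C relF 796 1237356000 9291776 2048 = true := by decide +kernel
theorem ck_4538 : chkURangeF D C relF 796 1237356000 9293824 2048 = true := by decide +kernel
theorem ck_4539 : chkURangeF D C relF 796 1237356000 9295872 2048 = true := by decide +kernel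
theorem ck_4540 : chkURangeF D C relF 796 1237356000 9297920 2048 = true := by decide +kernel
theorem ck_4541 : chkURangeF D C relF 796 1237356000 9299968 2048 = true := by decide +kernel
theorem ck_4542 : chkURangeF D C relF 796 1237356000 9302016 2048 = true := by decide +kernel
theorem ck_4543 : chkURangeF D C relF 796 1237356000 9304064 2048 = true := by decide +kernel
theorem ck_4544 : chkURangeF D C relF 796 1237356000 9306112 2048 = true := by decide +kernel
theorem ck_4545 : chkURangeF D C relF 796 1237356000 9308160 2048 = true := by decide +kernel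
theorem ck_4546 : chkURangeF D C relF 796 1237356000 9310208 2048 = true := by decide +kernel
theorem ck_4547 : chkURangeF D C relF 796 1237356000 9312256 2048 = true := by decide +kernel
theorem ck_4548 : chkURangeF D C relF 796 1237356000 9314304 2048 = true := by decide +kernel
theorem ck_4549 : chkURangeF D C relF 796 1237356000 9316352 2048 = true := by decide +kernel
theorem ck_4550 : chkURangeF D C relF 796 1237356000 9318400 2048 = true := by decide +kernel
theorem ck_4551 : chkURangeF D C relF 796 1237356000 9320448 2048 = true := by decide +kernel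
theorem ck_4552 : chkURangeF D C relF 796 1237356000 9322496 2048 = true := by decide +kernel
theorem ck_4553 : chkURangeF D C relF 796 1237356000 9324544 2048 = true := by decide +kernel
theorem ck_4554 : chkURangeF D C relF 796 1237356000 9326592 2048 = true := by decide +kernel
theorem ck_4555 : chkURangeF D C relF 796 1237356000 9328640 2048 = true := by decide +kernel
theorem ck_4556 : chkURangeF D C relF 796 1237356000 9330688 2048 = true := by decide +kernel
theorem ck_4557 : chkURangeF D C relF 796 1237356000 9332736 2048 = true := by decide +kernel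
theorem ck_4558 : chkURangeF D C relF 796 1237356000 9334784 2048 = true := by decide +kernel
theorem ck_4559 : chkURangeF D C relF 796 1237356000 9336832 2048 = true := by decide +kernel
theorem chkU_189 (b : ℕ) (h1 : 9289728 ≤ b) (h2 : b < 9338880) : chkU D C b = true := by
  rcases Nat.lt_or_ge b 9291776 with g0 | g0
  · exact chkURangeF_spec C relF_hyp 1237356000 tc_eq 9289728 2048 ck_4536 b (by omega) (by omega)
  rcases Nat.lt_or_ge b 9293824 with g1 | g1
  · exact chkURangeF_spec C relF_hyp 1237356000 tc_eq 9291776 2048 ck_4537 b (by omega) (by omega)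
  rcases Nat.lt_or_ge b 9295872 with g2 | g2
  · exact chkURangeF_spec C relF_hyp 1237356000 tc_eq 9293824 2048 ck_4538 b (by omega) (by omega)
  rcases Nat.lt_or_ge b 9297920 with g3 | g3
  · exact chkURangeF_spec C relF_hyp 1237356000 tc_eq 9295872 2048 ck_4539 b (by omega) (by omega)
  rcases Nat.lt_or_ge b 9299968 with g4 | g4
  · exact chkURangeF_spec C relF_hyp 1237356000 tc_eq 9297920 2048 ck_4540 b (by omega) (by omega)
  rcases Nat.lt_or_ge b 9302016 with g5 | g5
  · exact chkURangeF_spec C relF_hyp 1237356000 tc_eq 9299968 2048 ck_4541 b (by omega) (by omega)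
  rcases Nat.lt_or_ge b 9304064 with g6 | g6
  · exact chkURangeF_spec C relF_hyp 1237356000 tc_eq 9302016 2048 ck_4542 b (by omega) (by omega)
  rcases Nat.lt_or_ge b 9306112 with g7 | g7
  · exact chkURangeF_spec C relF_hyp 1237356000 tc_eq 9304064 2048 ck_4543 b (by omega) (by omega)
  rcases Nat.lt_or_ge b 9308160 with g8 | g8
  · exact chkURangeF_spec C relF_hyp 1237356000 tc_eq 9306112 2048 ck_4544 b (by omega) (by omega)
  rcases Nat.lt_or_ge b 9310208 with g9 | g9
  · exact chkURangeF_spec C relF_hyp 1237356000 tc_eq 9308160 2048 ck_4545 b (by omega) (by omega)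
  rcases Nat.lt_or_ge b 9312256 with g10 | g10
  · exact chkURangeF_spec C relF_hyp 1237356000 tc_eq 9310208 2048 ck_4546 b (by omega) (by omega)
  rcases Nat.lt_or_ge b 9314304 with g11 | g11
  · exact chkURangeF_spec C relF_hyp 1237356000 tc_eq 9312256 2048 ck_4547 b (by omega) (by omega)
  rcases Nat.lt_or_ge b 9316352 with g12 | g12
  · exact chkURangeF_spec C relF_hyp 1237356000 tc_eq 9314304 2048 ck_4548 b (by omega) (by omega)
  rcases Nat.lt_or_ge b 9318400 with g13 | g13
  · exact chkURangeF_spec C relF_hyp 1237356000 tc_eq 9316352 2048 ck_4549 b (by omega) (by omega)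
  rcases Nat.lt_or_ge b 9320448 with g14 | g14
  · exact chkURangeF_spec C relF_hyp 1237356000 tc_eq 9318400 2048 ck_4550 b (by omega) (by omega)
  rcases Nat.lt_or_ge b 9322496 with g15 | g15
  · exact chkURangeF_spec C relF_hyp 1237356000 tc_eq 9320448 2048 ck_4551 b (by omega) (by omega)
  rcases Nat.lt_or_ge b 9324544 with g16 | g16
  · exact chkURangeF_spec C relF_hyp 1237356000 tc_eq 9322496 2048 ck_4552 b (by omega) (by omega)
  rcases Nat.lt_or_ge b 9326592 with g17 | g17
  · exact chkURangeF_spec C relF_hyp 1237356000 tc_eq 9324544 2048 ck_4553 b (by omega) (by omega)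
  rcases Nat.lt_or_ge b 9328640 with g18 | g18
  · exact chkURangeF_spec C relF_hyp 1237356000 tc_eq 9326592 2048 ck_4554 b (by omega) (by omega)
  rcases Nat.lt_or_ge b 9330688 with g19 | g19
  · exact chkURangeF_spec C relF_hyp 1237356000 tc_eq 9328640 2048 ck_4555 b (by omega) (by omega)
  rcases Nat.lt_or_ge b 9332736 with g20 | g20
  · exact chkURangeF_spec C relF_hyp 1237356000 tc_eq 9330688 2048 ck_4556 b (by omega) (by omega)
  rcases Nat.lt_or_ge b 9334784 with g21 | g21
  · exact chkURangeF_spec C relF_hyp 1237356000 tc_eq 9332736 2048 ck_4557 b (by omega) (by omega)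
  rcases Nat.lt_or_ge b 9336832 with g22 | g22
  · exact chkURangeF_spec C relF_hyp 1237356000 tc_eq 9334784 2048 ck_4558 b (by omega) (by omega)
  exact chkURangeF_spec C relF_hyp 1237356000 tc_eq 9336832 2048 ck_4559 b (by omega) (by omega)
end Cfsg.Agent.Lib.Helper2.HNMult.P5
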