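import Cfsg.Agent.Lib.Helper2.HNMult.P5.Cert
set_option autoImplicit false
set_option maxRecDepth 1000000
set_option Elab.async false
namespace Cfsg.Agent.Lib.Helper2.HNMult.P5
open Cfsg.Agent.Lib.Helper4.Sparse Cfsg.Agent.Lib.Helper2.SparseF
theorem ck_456 : chkURangeF D C relF 796 1237356000 933888 2048 = true := by decide +kernel
theorem ck_457 : chkURangeF D C relF 796 1237356000 935936 2048 = true := by decide +kernel
theorem ck_458 : chkURangeF D C relF 796 1237356000 937984 2048 = true := by decide +kernel
theorem ck_459 : chkURangeF D C relF 796 1237356000 940032 2048 = true := by decide +kernel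
theorem ck_460 : chkURangeF D C relF 796 1237356000 942080 2048 = true := by decide +kernel
theorem ck_461 : chkURangeF D C relF 796 1237356000 944128 2048 = true := by decide +kernel
theorem ck_462 : chkURangeF D C relF 796 1237356000 946176 2048 = true := by decide +kernel
theorem ck_463 : chkURangeF D C relF 796 1237356000 948224 2048 = true := by decide +kernel
theorem ck_464 : chkURangeF D C relF 796 1237356000 950272 2048 = true := by decide +kernel
theorem ck_465 : chkURangeF D C relF 796 1237356000 952320 2048 = true := by decide +kernel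
theorem ck_466 : chkURangeF D C relF 796 1237356000 954368 2048 = true := by decide +kernel
theorem ck_467 : chkURangeF D C relF 796 1237356000 956416 2048 = true := by decide +kernel
theorem ck_468 : chkURangeF D C relF 796 1237356000 958464 2048 = true := by decide +kernel
theorem ck_469 : chkURangeF D C relF 796 1237356000 960512 2048 = true := by decide +kernel
theorem ck_470 : chkURangeF D C relF 796 1237356000 962560 2048 = true := by decide +kernel
theorem ck_471 : chkURangeF D C relF 796 1237356000 964608 2048 = true := by decide +kernel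
theorem ck_472 : chkURangeF D C relF 796 1237356000 966656 2048 = true := by decide +kernel
theorem ck_473 : chkURangeF D C relF 796 1237356000 968704 2048 = true := by decide +kernel
theorem ck_474 : chkURangeF D C relF 796 1237356000 970752 2048 = true := by decide +kernel
theorem ck_475 : chkURangeF D C relF 796 1237356000 972800 2048 = true := by decide +kernel
theorem ck_476 : chkURangeF D C relF 796 1237356000 974848 2048 = true := by decide +kernel
theorem ck_477 : chkURangeF D C relF 796 1237356000 976896 2048 = true := by decide +kernel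
theorem ck_478 : chkURangeF D C relF 796 1237356000 978944 2048 = true := by decide +kernel
theorem ck_479 : chkURangeF D C relF 796 1237356000 980992 2048 = true := by decide +kernel
theorem chkU_19 (b : ℕ) (h1 : 933888 ≤ b) (h2 : b < 983040) : chkU D C b = true := by
  rcases Nat.lt_or_ge b 935936 with g0 | g0
  · exact chkURangeF_spec C relF_hyp 1237356000 tc_eq 933888 2048 ck_456 b (by omega) (by omega)
  rcases Nat.lt_or_ge b 937984 with g1 | g1
  · exact chkURangeF_spec C relF_hyp 1237356000 tc_eq 935936 2048 ck_457 b (by omega) (by omega)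
  rcases Nat.lt_or_ge b 940032 with g2 | g2
  · exact chkURangeF_spec C relF_hyp 1237356000 tc_eq 937984 2048 ck_458 b (by omega) (by omega)
  rcases Nat.lt_or_ge b 942080 with g3 | g3
  · exact chkURangeF_spec C relF_hyp 1237356000 tc_eq 940032 2048 ck_459 b (by omega) (by omega)
  rcases Nat.lt_or_ge b 944128 with g4 | g4
  · exact chkURangeF_spec C relF_hyp 1237356000 tc_eq 942080 2048 ck_460 b (by omega) (by omega)
  rcases Nat.lt_or_ge b 946176 with g5 | g5
  · exact chkURangeF_spec C relF_hyp 1237356000 tc_eq 944128 2048 ck_461 b (by omega) (by omega)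
  rcases Nat.lt_or_ge b 948224 with g6 | g6
  · exact chkURangeF_spec C relF_hyp 1237356000 tc_eq 946176 2048 ck_462 b (by omega) (by omega)
  rcases Nat.lt_or_ge b 950272 with g7 | g7
  · exact chkURangeF_spec C relF_hyp 1237356000 tc_eq 948224 2048 ck_463 b (by omega) (by omega)
  rcases Nat.lt_or_ge b 952320 with g8 | g8
  · exact chkURangeF_spec C relF_hyp 1237356000 tc_eq 950272 2048 ck_464 b (by omega) (by omega)
  rcases Nat.lt_or_ge b 954368 with g9 | g9
  · exact chkURangeF_spec C relF_hyp 1237356000 tc_eq 952320 2048 ck_465 b (by omega) (by omega)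
  rcases Nat.lt_or_ge b 956416 with g10 | g10
  · exact chkURangeF_spec C relF_hyp 1237356000 tc_eq 954368 2048 ck_466 b (by omega) (by omega)
  rcases Nat.lt_or_ge b 958464 with g11 | g11
  · exact chkURangeF_spec C relF_hyp 1237356000 tc_eq 956416 2048 ck_467 b (by omega) (by omega)
  rcases Nat.lt_or_ge b 960512 with g12 | g12
  · exact chkURangeF_spec C relF_hyp 1237356000 tc_eq 958464 2048 ck_468 b (by omega) (by omega)
  rcases Nat.lt_or_ge b 962560 with g13 | g13
  · exact chkURangeF_spec C relF_hyp 1237356000 tc_eq 960512 2048 ck_469 b (by omega) (by omega)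
  rcases Nat.lt_or_ge b 964608 with g14 | g14
  · exact chkURangeF_spec C relF_hyp 1237356000 tc_eq 962560 2048 ck_470 b (by omega) (by omega)
  rcases Nat.lt_or_ge b 966656 with g15 | g15
  · exact chkURangeF_spec C relF_hyp 1237356000 tc_eq 964608 2048 ck_471 b (by omega) (by omega)
  rcases Nat.lt_or_ge b 968704 with g16 | g16
  · exact chkURangeF_spec C relF_hyp 1237356000 tc_eq 966656 2048 ck_472 b (by omega) (by omega)
  rcases Nat.lt_or_ge b 970752 with g17 | g17
  · exact chkURangeF_spec C relF_hyp 1237356000 tc_eq 968704 2048 ck_473 b (by omega) (by omega)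
  rcases Nat.lt_or_ge b 972800 with g18 | g18
  · exact chkURangeF_spec C relF_hyp 1237356000 tc_eq 970752 2048 ck_474 b (by omega) (by omega)
  rcases Nat.lt_or_ge b 974848 with g19 | g19
  · exact chkURangeF_spec C relF_hyp 1237356000 tc_eq 972800 2048 ck_475 b (by omega) (by omega)
  rcases Nat.lt_or_ge b 976896 with g20 | g20
  · exact chkURangeF_spec C relF_hyp 1237356000 tc_eq 974848 2048 ck_476 b (by omega) (by omega)
  rcases Nat.lt_or_ge b 978944 with g21 | g21
  · exact chkURangeF_spec C relF_hyp 1237356000 tc_eq 976896 2048 ck_477 b (by omega) (by omega)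
  rcases Nat.lt_or_ge b 980992 with g22 | g22
  · exact chkURangeF_spec C relF_hyp 1237356000 tc_eq 978944 2048 ck_478 b (by omega) (by omega)
  exact chkURangeF_spec C relF_hyp 1237356000 tc_eq 980992 2048 ck_479 b (by omega) (by omega)
end Cfsg.Agent.Lib.Helper2.HNMult.P5
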