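import Cfsg.Agent.Lib.Helper2.HNMult.P5.Cert
set_option autoImplicit false
set_option maxRecDepth 1000000
set_option Elab.async false
namespace Cfsg.Agent.Lib.Helper2.HNMult.P5
open Cfsg.Agent.Lib.Helper4.Sparse Cfsg.Agent.Lib.Helper2.SparseF
theorem ck_4560 : chkURangeF D C relF 796 1237356000 9338880 2048 = true := by decide +kernel
theorem ck_4561 : chkURangeF D C relF 796 1237356000 9340928 2048 = true := by decide +kernel
theorem ck_4562 : chkURangeF D C relF 796 1237356000 9342976 2048 = true := by decide +kernel
theorem ck_4563 : chkURangeF D C relF 796 1237356000 9345024 2048 = true := by decide +kernel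
theorem ck_4564 : chkURangeF D C relF 796 1237356000 9347072 2048 = true := by decide +kernel
theorem ck_4565 : chkURangeF D C relF 796 1237356000 9349120 2048 = true := by decide +kernel
theorem ck_4566 : chkURangeF D C relF 796 1237356000 9351168 2048 = true := by decide +kernel
theorem ck_4567 : chkURangeF D C relF 796 1237356000 9353216 2048 = true := by decide +kernel
theorem ck_4568 : chkURangeF D C relF 796 1237356000 9355264 2048 = true := by decide +kernel
theorem ck_4569 : chkURangeF D C relF 796 1237356000 9357312 2048 = true := by decide +kernel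
theorem ck_4570 : chkURangeF D C relF 796 1237356000 9359360 2048 = true := by decide +kernel
theorem ck_4571 : chkURangeF D C relF 796 1237356000 9361408 2048 = true := by decide +kernel
theorem ck_4572 : chkURangeF D C relF 796 1237356000 9363456 2048 = true := by decide +kernel
theorem ck_4573 : chkURangeF D C relF 796 1237356000 9365504 2048 = true := by decide +kernel
theorem ck_4574 : chkURangeF D C relF 796 1237356000 9367552 2048 = true := by decide +kernel
theorem ck_4575 : chkURangeF D C relF 796 1237356000 9369600 2048 = true := by decide +kernel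
theorem ck_4576 : chkURangeF D C relF 796 1237356000 9371648 2048 = true := by decide +kernel
theorem ck_4577 : chkURangeF D C relF 796 1237356000 9373696 2048 = true := by decide +kernel
theorem ck_4578 : chkURangeF D C relF 796 1237356000 9375744 2048 = true := by decide +kernel
theorem ck_4579 : chkURangeF D C relF 796 1237356000 9377792 2048 = true := by decide +kernel
theorem ck_4580 : chkURangeF D C relF 796 1237356000 9379840 2048 = true := by decide +kernel
theorem ck_4581 : chkURangeF D C relF 796 1237356000 9381888 2048 = true := by decide +kernel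
theorem ck_4582 : chkURangeF D C relF 796 1237356000 9383936 2048 = true := by decide +kernel
theorem ck_4583 : chkURangeF D C relF 796 1237356000 9385984 2048 = true := by decide +kernel
theorem chkU_190 (b : ℕ) (h1 : 9338880 ≤ b) (h2 : b < 9388032) : chkU D C b = true := by
  rcases Nat.lt_or_ge b 9340928 with g0 | g0
  · exact chkURangeF_spec C relF_hyp 1237356000 tc_eq 9338880 2048 ck_4560 b (by omega) (by omega)
  rcases Nat.lt_or_ge b 9342976 with g1 | g1
  · exact chkURangeF_spec C relF_hyp 1237356000 tc_eq 9340928 2048 ck_4561 b (by omega) (by omega)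
  rcases Nat.lt_or_ge b 9345024 with g2 | g2
  · exact chkURangeF_spec C relF_hyp 1237356000 tc_eq 9342976 2048 ck_4562 b (by omega) (by omega)
  rcases Nat.lt_or_ge b 9347072 with g3 | g3
  · exact chkURangeF_spec C relF_hyp 1237356000 tc_eq 9345024 2048 ck_4563 b (by omega) (by omega)
  rcases Nat.lt_or_ge b 9349120 with g4 | g4
  · exact chkURangeF_spec C relF_hyp 1237356000 tc_eq 9347072 2048 ck_4564 b (by omega) (by omega)
  rcases Nat.lt_or_ge b 9351168 with g5 | g5
  · exact chkURangeF_spec C relF_hyp 1237356000 tc_eq 9349120 2048 ck_4565 b (by omega) (by omega)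
  rcases Nat.lt_or_ge b 9353216 with g6 | g6
  · exact chkURangeF_spec C relF_hyp 1237356000 tc_eq 9351168 2048 ck_4566 b (by omega) (by omega)
  rcases Nat.lt_or_ge b 9355264 with g7 | g7
  · exact chkURangeF_spec C relF_hyp 1237356000 tc_eq 9353216 2048 ck_4567 b (by omega) (by omega)
  rcases Nat.lt_or_ge b 9357312 with g8 | g8
  · exact chkURangeF_spec C relF_hyp 1237356000 tc_eq 9355264 2048 ck_4568 b (by omega) (by omega)
  rcases Nat.lt_or_ge b 9359360 with g9 | g9
  · exact chkURangeF_spec C relF_hyp 1237356000 tc_eq 9357312 2048 ck_4569 b (by omega) (by omega)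
  rcases Nat.lt_or_ge b 9361408 with g10 | g10
  · exact chkURangeF_spec C relF_hyp 1237356000 tc_eq 9359360 2048 ck_4570 b (by omega) (by omega)
  rcases Nat.lt_or_ge b 9363456 with g11 | g11
  · exact chkURangeF_spec C relF_hyp 1237356000 tc_eq 9361408 2048 ck_4571 b (by omega) (by omega)
  rcases Nat.lt_or_ge b 9365504 with g12 | g12
  · exact chkURangeF_spec C relF_hyp 1237356000 tc_eq 9363456 2048 ck_4572 b (by omega) (by omega)
  rcases Nat.lt_or_ge b 9367552 with g13 | g13
  · exact chkURangeF_spec C relF_hyp 1237356000 tc_eq 9365504 2048 ck_4573 b (by omega) (by omega)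
  rcases Nat.lt_or_ge b 9369600 with g14 | g14
  · exact chkURangeF_spec C relF_hyp 1237356000 tc_eq 9367552 2048 ck_4574 b (by omega) (by omega)
  rcases Nat.lt_or_ge b 9371648 with g15 | g15
  · exact chkURangeF_spec C relF_hyp 1237356000 tc_eq 9369600 2048 ck_4575 b (by omega) (by omega)
  rcases Nat.lt_or_ge b 9373696 with g16 | g16
  · exact chkURangeF_spec C relF_hyp 1237356000 tc_eq 9371648 2048 ck_4576 b (by omega) (by omega)
  rcases Nat.lt_or_ge b 9375744 with g17 | g17
  · exact chkURangeF_spec C relF_hyp 1237356000 tc_eq 9373696 2048 ck_4577 b (by omega) (by omega)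
  rcases Nat.lt_or_ge b 9377792 with g18 | g18
  · exact chkURangeF_spec C relF_hyp 1237356000 tc_eq 9375744 2048 ck_4578 b (by omega) (by omega)
  rcases Nat.lt_or_ge b 9379840 with g19 | g19
  · exact chkURangeF_spec C relF_hyp 1237356000 tc_eq 9377792 2048 ck_4579 b (by omega) (by omega)
  rcases Nat.lt_or_ge b 9381888 with g20 | g20
  · exact chkURangeF_spec C relF_hyp 1237356000 tc_eq 9379840 2048 ck_4580 b (by omega) (by omega)
  rcases Nat.lt_or_ge b 9383936 with g21 | g21
  · exact chkURangeF_spec C relF_hyp 1237356000 tc_eq 9381888 2048 ck_4581 b (by omega) (by omega)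
  rcases Nat.lt_or_ge b 9385984 with g22 | g22
  · exact chkURangeF_spec C relF_hyp 1237356000 tc_eq 9383936 2048 ck_4582 b (by omega) (by omega)
  exact chkURangeF_spec C relF_hyp 1237356000 tc_eq 9385984 2048 ck_4583 b (by omega) (by omega)
end Cfsg.Agent.Lib.Helper2.HNMult.P5
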