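import Cfsg.Agent.Lib.Helper2.HNMult.P5.Cert
set_option autoImplicit false
set_option maxRecDepth 1000000
set_option Elab.async false
namespace Cfsg.Agent.Lib.Helper2.HNMult.P5
open Cfsg.Agent.Lib.Helper4.Sparse Cfsg.Agent.Lib.Helper2.SparseF
theorem ck_4632 : chkURangeF D C relF 796 1237356000 9486336 2048 = true := by decide +kernel
theorem ck_4633 : chkURangeF D C relF 796 1237356000 9488384 2048 = true := by decide +kernel
theorem ck_4634 : chkURangeF D C relF 796 1237356000 9490432 2048 = true := by decide +kernel
theorem ck_4635 : chkURangeF D C relF 796 1237356000 9492480 2048 = true := by decide +kernel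
theorem ck_4636 : chkURangeF D C relF 796 1237356000 9494528 2048 = true := by decide +kernel
theorem ck_4637 : chkURangeF D C relF 796 1237356000 9496576 2048 = true := by decide +kernel
theorem ck_4638 : chkURangeF D C relF 796 1237356000 9498624 2048 = true := by decide +kernel
theorem ck_4639 : chkURangeF D C relF 796 1237356000 9500672 2048 = true := by decide +kernel
theorem ck_4640 : chkURangeF D C relF 796 1237356000 9502720 2048 = true := by decide +kernel
theorem ck_4641 : chkURangeF D C relF 796 1237356000 9504768 2048 = true := by decide +kernel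
theorem ck_4642 : chkURangeF D C relF 796 1237356000 9506816 2048 = true := by decide +kernel
theorem ck_4643 : chkURangeF D C relF 796 1237356000 9508864 2048 = true := by decide +kernel
theorem ck_4644 : chkURangeF D C relF 796 1237356000 9510912 2048 = true := by decide +kernel
theorem ck_4645 : chkURangeF D C relF 796 1237356000 9512960 2048 = true := by decide +kernel
theorem ck_4646 : chkURangeF D C relF 796 1237356000 9515008 2048 = true := by decide +kernel
theorem ck_4647 : chkURangeF D C relF 796 1237356000 9517056 2048 = true := by decide +kernel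
theorem ck_4648 : chkURangeF D C relF 796 1237356000 9519104 2048 = true := by decide +kernel
theorem ck_4649 : chkURangeF D C relF 796 1237356000 9521152 2048 = true := by decide +kernel
theorem ck_4650 : chkURangeF D C relF 796 1237356000 9523200 2048 = true := by decide +kernel
theorem ck_4651 : chkURangeF D C relF 796 1237356000 9525248 2048 = true := by decide +kernel
theorem ck_4652 : chkURangeF D C relF 796 1237356000 9527296 2048 = true := by decide +kernel
theorem ck_4653 : chkURangeF D C relF 796 1237356000 9529344 2048 = true := by decide +kernel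
theorem ck_4654 : chkURangeF D C relF 796 1237356000 9531392 2048 = true := by decide +kernel
theorem ck_4655 : chkURangeF D C relF 796 1237356000 9533440 2048 = true := by decide +kernel
theorem chkU_193 (b : ℕ) (h1 : 9486336 ≤ b) (h2 : b < 9535488) : chkU D C b = true := by
  rcases Nat.lt_or_ge b 9488384 with g0 | g0
  · exact chkURangeF_spec C relF_hyp 1237356000 tc_eq 9486336 2048 ck_4632 b (by omega) (by omega)
  rcases Nat.lt_or_ge b 9490432 with g1 | g1
  · exact chkURangeF_spec C relF_hyp 1237356000 tc_eq 9488384 2048 ck_4633 b (by omega) (by omega)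
  rcases Nat.lt_or_ge b 9492480 with g2 | g2
  · exact chkURangeF_spec C relF_hyp 1237356000 tc_eq 9490432 2048 ck_4634 b (by omega) (by omega)
  rcases Nat.lt_or_ge b 9494528 with g3 | g3
  · exact chkURangeF_spec C relF_hyp 1237356000 tc_eq 9492480 2048 ck_4635 b (by omega) (by omega)
  rcases Nat.lt_or_ge b 9496576 with g4 | g4
  · exact chkURangeF_spec C relF_hyp 1237356000 tc_eq 9494528 2048 ck_4636 b (by omega) (by omega)
  rcases Nat.lt_or_ge b 9498624 with g5 | g5
  · exact chkURangeF_spec C relF_hyp 1237356000 tc_eq 9496576 2048 ck_4637 b (by omega) (by omega)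
  rcases Nat.lt_or_ge b 9500672 with g6 | g6
  · exact chkURangeF_spec C relF_hyp 1237356000 tc_eq 9498624 2048 ck_4638 b (by omega) (by omega)
  rcases Nat.lt_or_ge b 9502720 with g7 | g7
  · exact chkURangeF_spec C relF_hyp 1237356000 tc_eq 9500672 2048 ck_4639 b (by omega) (by omega)
  rcases Nat.lt_or_ge b 9504768 with g8 | g8
  · exact chkURangeF_spec C relF_hyp 1237356000 tc_eq 9502720 2048 ck_4640 b (by omega) (by omega)
  rcases Nat.lt_or_ge b 9506816 with g9 | g9
  · exact chkURangeF_spec C relF_hyp 1237356000 tc_eq 9504768 2048 ck_4641 b (by omega) (by omega)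
  rcases Nat.lt_or_ge b 9508864 with g10 | g10
  · exact chkURangeF_spec C relF_hyp 1237356000 tc_eq 9506816 2048 ck_4642 b (by omega) (by omega)
  rcases Nat.lt_or_ge b 9510912 with g11 | g11
  · exact chkURangeF_spec C relF_hyp 1237356000 tc_eq 9508864 2048 ck_4643 b (by omega) (by omega)
  rcases Nat.lt_or_ge b 9512960 with g12 | g12
  · exact chkURangeF_spec C relF_hyp 1237356000 tc_eq 9510912 2048 ck_4644 b (by omega) (by omega)
  rcases Nat.lt_or_ge b 9515008 with g13 | g13
  · exact chkURangeF_spec C relF_hyp 1237356000 tc_eq 9512960 2048 ck_4645 b (by omega) (by omega)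
  rcases Nat.lt_or_ge b 9517056 with g14 | g14
  · exact chkURangeF_spec C relF_hyp 1237356000 tc_eq 9515008 2048 ck_4646 b (by omega) (by omega)
  rcases Nat.lt_or_ge b 9519104 with g15 | g15
  · exact chkURangeF_spec C relF_hyp 1237356000 tc_eq 9517056 2048 ck_4647 b (by omega) (by omega)
  rcases Nat.lt_or_ge b 9521152 with g16 | g16
  · exact chkURangeF_spec C relF_hyp 1237356000 tc_eq 9519104 2048 ck_4648 b (by omega) (by omega)
  rcases Nat.lt_or_ge b 9523200 with g17 | g17
  · exact chkURangeF_spec C relF_hyp 1237356000 tc_eq 9521152 2048 ck_4649 b (by omega) (by omega)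
  rcases Nat.lt_or_ge b 9525248 with g18 | g18
  · exact chkURangeF_spec C relF_hyp 1237356000 tc_eq 9523200 2048 ck_4650 b (by omega) (by omega)
  rcases Nat.lt_or_ge b 9527296 with g19 | g19
  · exact chkURangeF_spec C relF_hyp 1237356000 tc_eq 9525248 2048 ck_4651 b (by omega) (by omega)
  rcases Nat.lt_or_ge b 9529344 with g20 | g20
  · exact chkURangeF_spec C relF_hyp 1237356000 tc_eq 9527296 2048 ck_4652 b (by omega) (by omega)
  rcases Nat.lt_or_ge b 9531392 with g21 | g21
  · exact chkURangeF_spec C relF_hyp 1237356000 tc_eq 9529344 2048 ck_4653 b (by omega) (by omega)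
  rcases Nat.lt_or_ge b 9533440 with g22 | g22
  · exact chkURangeF_spec C relF_hyp 1237356000 tc_eq 9531392 2048 ck_4654 b (by omega) (by omega)
  exact chkURangeF_spec C relF_hyp 1237356000 tc_eq 9533440 2048 ck_4655 b (by omega) (by omega)
end Cfsg.Agent.Lib.Helper2.HNMult.P5
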