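import Cfsg.Agent.Lib.Helper2.HNMult.P5.Cert
set_option autoImplicit false
set_option maxRecDepth 1000000
set_option Elab.async false
namespace Cfsg.Agent.Lib.Helper2.HNMult.P5
open Cfsg.Agent.Lib.Helper4.Sparse Cfsg.Agent.Lib.Helper2.SparseF
theorem ck_4704 : chkURangeF D C relF 796 1237356000 9633792 2048 = true := by decide +kernel
theorem ck_4705 : chkURangeF D C relF 796 1237356000 9635840 2048 = true := by decide +kernel
theorem ck_4706 : chkURangeF D C relF 796 1237356000 9637888 2048 = true := by decide +kernel
theorem ck_4707 : chkURangeF D C relF 796 1237356000 9639936 2048 = true := by decide +kernel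
theorem ck_4708 : chkURangeF D C relF 796 1237356000 9641984 2048 = true := by decide +kernel
theorem ck_4709 : chkURangeF D C relF 796 1237356000 9644032 2048 = true := by decide +kernel
theorem ck_4710 : chkURangeF D C relF 796 1237356000 9646080 2048 = true := by decide +kernel
theorem ck_4711 : chkURangeF D C relF 796 1237356000 9648128 2048 = true := by decide +kernel
theorem ck_4712 : chkURangeF D C relF 796 1237356000 9650176 2048 = true := by decide +kernel
theorem ck_4713 : chkURangeF D C relF 796 1237356000 9652224 2048 = true := by decide +kernel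
theorem ck_4714 : chkURangeF D C relF 796 1237356000 9654272 2048 = true := by decide +kernel
theorem ck_4715 : chkURangeF D C relF 796 1237356000 9656320 2048 = true := by decide +kernel
theorem ck_4716 : chkURangeF D C relF 796 1237356000 9658368 2048 = true := by decide +kernel
theorem ck_4717 : chkURangeF D C relF 796 1237356000 9660416 2048 = true := by decide +kernel
theorem ck_4718 : chkURangeF D C relF 796 1237356000 9662464 2048 = true := by decide +kernel
theorem ck_4719 : chkURangeF D C relF 796 1237356000 9664512 2048 = true := by decide +kernel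
theorem ck_4720 : chkURangeF D C relF 796 1237356000 9666560 2048 = true := by decide +kernel
theorem ck_4721 : chkURangeF D C relF 796 1237356000 9668608 2048 = true := by decide +kernel
theorem ck_4722 : chkURangeF D C relF 796 1237356000 9670656 2048 = true := by decide +kernel
theorem ck_4723 : chkURangeF D C relF 796 1237356000 9672704 2048 = true := by decide +kernel
theorem ck_4724 : chkURangeF D C relF 796 1237356000 9674752 2048 = true := by decide +kernel
theorem ck_4725 : chkURangeF D C relF 796 1237356000 9676800 2048 = true := by decide +kernel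
theorem ck_4726 : chkURangeF D C relF 796 1237356000 9678848 2048 = true := by decide +kernel
theorem ck_4727 : chkURangeF D C relF 796 1237356000 9680896 2048 = true := by decide +kernel
theorem chkU_196 (b : ℕ) (h1 : 9633792 ≤ b) (h2 : b < 9682944) : chkU D C b = true := by
  rcases Nat.lt_or_ge b 9635840 with g0 | g0
  · exact chkURangeF_spec C relF_hyp 1237356000 tc_eq 9633792 2048 ck_4704 b (by omega) (by omega)
  rcases Nat.lt_or_ge b 9637888 with g1 | g1
  · exact chkURangeF_spec C relF_hyp 1237356000 tc_eq 9635840 2048 ck_4705 b (by omega) (by omega)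
  rcases Nat.lt_or_ge b 9639936 with g2 | g2
  · exact chkURangeF_spec C relF_hyp 1237356000 tc_eq 9637888 2048 ck_4706 b (by omega) (by omega)
  rcases Nat.lt_or_ge b 9641984 with g3 | g3
  · exact chkURangeF_spec C relF_hyp 1237356000 tc_eq 9639936 2048 ck_4707 b (by omega) (by omega)
  rcases Nat.lt_or_ge b 9644032 with g4 | g4
  · exact chkURangeF_spec C relF_hyp 1237356000 tc_eq 9641984 2048 ck_4708 b (by omega) (by omega)
  rcases Nat.lt_or_ge b 9646080 with g5 | g5
  · exact chkURangeF_spec C relF_hyp 1237356000 tc_eq 9644032 2048 ck_4709 b (by omega) (by omega)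
  rcases Nat.lt_or_ge b 9648128 with g6 | g6
  · exact chkURangeF_spec C relF_hyp 1237356000 tc_eq 9646080 2048 ck_4710 b (by omega) (by omega)
  rcases Nat.lt_or_ge b 9650176 with g7 | g7
  · exact chkURangeF_spec C relF_hyp 1237356000 tc_eq 9648128 2048 ck_4711 b (by omega) (by omega)
  rcases Nat.lt_or_ge b 9652224 with g8 | g8
  · exact chkURangeF_spec C relF_hyp 1237356000 tc_eq 9650176 2048 ck_4712 b (by omega) (by omega)
  rcases Nat.lt_or_ge b 9654272 with g9 | g9
  · exact chkURangeF_spec C relF_hyp 1237356000 tc_eq 9652224 2048 ck_4713 b (by omega) (by omega)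
  rcases Nat.lt_or_ge b 9656320 with g10 | g10
  · exact chkURangeF_spec C relF_hyp 1237356000 tc_eq 9654272 2048 ck_4714 b (by omega) (by omega)
  rcases Nat.lt_or_ge b 9658368 with g11 | g11
  · exact chkURangeF_spec C relF_hyp 1237356000 tc_eq 9656320 2048 ck_4715 b (by omega) (by omega)
  rcases Nat.lt_or_ge b 9660416 with g12 | g12
  · exact chkURangeF_spec C relF_hyp 1237356000 tc_eq 9658368 2048 ck_4716 b (by omega) (by omega)
  rcases Nat.lt_or_ge b 9662464 with g13 | g13
  · exact chkURangeF_spec C relF_hyp 1237356000 tc_eq 9660416 2048 ck_4717 b (by omega) (by omega)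
  rcases Nat.lt_or_ge b 9664512 with g14 | g14
  · exact chkURangeF_spec C relF_hyp 1237356000 tc_eq 9662464 2048 ck_4718 b (by omega) (by omega)
  rcases Nat.lt_or_ge b 9666560 with g15 | g15
  · exact chkURangeF_spec C relF_hyp 1237356000 tc_eq 9664512 2048 ck_4719 b (by omega) (by omega)
  rcases Nat.lt_or_ge b 9668608 with g16 | g16
  · exact chkURangeF_spec C relF_hyp 1237356000 tc_eq 9666560 2048 ck_4720 b (by omega) (by omega)
  rcases Nat.lt_or_ge b 9670656 with g17 | g17
  · exact chkURangeF_spec C relF_hyp 1237356000 tc_eq 9668608 2048 ck_4721 b (by omega) (by omega)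
  rcases Nat.lt_or_ge b 9672704 with g18 | g18
  · exact chkURangeF_spec C relF_hyp 1237356000 tc_eq 9670656 2048 ck_4722 b (by omega) (by omega)
  rcases Nat.lt_or_ge b 9674752 with g19 | g19
  · exact chkURangeF_spec C relF_hyp 1237356000 tc_eq 9672704 2048 ck_4723 b (by omega) (by omega)
  rcases Nat.lt_or_ge b 9676800 with g20 | g20
  · exact chkURangeF_spec C relF_hyp 1237356000 tc_eq 9674752 2048 ck_4724 b (by omega) (by omega)
  rcases Nat.lt_or_ge b 9678848 with g21 | g21
  · exact chkURangeF_spec C relF_hyp 1237356000 tc_eq 9676800 2048 ck_4725 b (by omega) (by omega)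
  rcases Nat.lt_or_ge b 9680896 with g22 | g22
  · exact chkURangeF_spec C relF_hyp 1237356000 tc_eq 9678848 2048 ck_4726 b (by omega) (by omega)
  exact chkURangeF_spec C relF_hyp 1237356000 tc_eq 9680896 2048 ck_4727 b (by omega) (by omega)
end Cfsg.Agent.Lib.Helper2.HNMult.P5
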