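import Cfsg.Agent.Lib.Helper2.HNMult.P5.Cert
set_option autoImplicit false
set_option maxRecDepth 1000000
set_option Elab.async false
namespace Cfsg.Agent.Lib.Helper2.HNMult.P5
open Cfsg.Agent.Lib.Helper4.Sparse Cfsg.Agent.Lib.Helper2.SparseF
theorem ck_4848 : chkURangeF D C relF 796 1237356000 9928704 2048 = true := by decide +kernel
theorem ck_4849 : chkURangeF D C relF 796 1237356000 9930752 2048 = true := by decide +kernel
theorem ck_4850 : chkURangeF D C relF 796 1237356000 9932800 2048 = true := by decide +kernel
theorem ck_4851 : chkURangeF D C relF 796 1237356000 9934848 2048 = true := by decide +kernel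
theorem ck_4852 : chkURangeF D C relF 796 1237356000 9936896 2048 = true := by decide +kernel
theorem ck_4853 : chkURangeF D C relF 796 1237356000 9938944 2048 = true := by decide +kernel
theorem ck_4854 : chkURangeF D C relF 796 1237356000 9940992 2048 = true := by decide +kernel
theorem ck_4855 : chkURangeF D C relF 796 1237356000 9943040 2048 = true := by decide +kernel
theorem ck_4856 : chkURangeF D C relF 796 1237356000 9945088 2048 = true := by decide +kernel
theorem ck_4857 : chkURangeF D C relF 796 1237356000 9947136 2048 = true := by decide +kernel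
theorem ck_4858 : chkURangeF D C relF 796 1237356000 9949184 2048 = true := by decide +kernel
theorem ck_4859 : chkURangeF D C relF 796 1237356000 9951232 2048 = true := by decide +kernel
theorem ck_4860 : chkURangeF D C relF 796 1237356000 9953280 2048 = true := by decide +kernel
theorem ck_4861 : chkURangeF D C relF 796 1237356000 9955328 2048 = true := by decide +kernel
theorem ck_4862 : chkURangeF D C relF 796 1237356000 9957376 2048 = true := by decide +kernel
theorem ck_4863 : chkURangeF D C relF 796 1237356000 9959424 2048 = true := by decide +kernel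
theorem ck_4864 : chkURangeF D C relF 796 1237356000 9961472 2048 = true := by decide +kernel
theorem ck_4865 : chkURangeF D C relF 796 1237356000 9963520 2048 = true := by decide +kernel
theorem ck_4866 : chkURangeF D C relF 796 1237356000 9965568 2048 = true := by decide +kernel
theorem ck_4867 : chkURangeF D C relF 796 1237356000 9967616 2048 = true := by decide +kernel
theorem ck_4868 : chkURangeF D C relF 796 1237356000 9969664 2048 = true := by decide +kernel
theorem ck_4869 : chkURangeF D C relF 796 1237356000 9971712 2048 = true := by decide +kernel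
theorem ck_4870 : chkURangeF D C relF 796 1237356000 9973760 2048 = true := by decide +kernel
theorem ck_4871 : chkURangeF D C relF 796 1237356000 9975808 2048 = true := by decide +kernel
theorem chkU_202 (b : ℕ) (h1 : 9928704 ≤ b) (h2 : b < 9977856) : chkU D C b = true := by
  rcases Nat.lt_or_ge b 9930752 with g0 | g0
  · exact chkURangeF_spec C relF_hyp 1237356000 tc_eq 9928704 2048 ck_4848 b (by omega) (by omega)
  rcases Nat.lt_or_ge b 9932800 with g1 | g1
  · exact chkURangeF_spec C relF_hyp 1237356000 tc_eq 9930752 2048 ck_4849 b (by omega) (by omega)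
  rcases Nat.lt_or_ge b 9934848 with g2 | g2
  · exact chkURangeF_spec C relF_hyp 1237356000 tc_eq 9932800 2048 ck_4850 b (by omega) (by omega)
  rcases Nat.lt_or_ge b 9936896 with g3 | g3
  · exact chkURangeF_spec C relF_hyp 1237356000 tc_eq 9934848 2048 ck_4851 b (by omega) (by omega)
  rcases Nat.lt_or_ge b 9938944 with g4 | g4
  · exact chkURangeF_spec C relF_hyp 1237356000 tc_eq 9936896 2048 ck_4852 b (by omega) (by omega)
  rcases Nat.lt_or_ge b 9940992 with g5 | g5
  · exact chkURangeF_spec C relF_hyp 1237356000 tc_eq 9938944 2048 ck_4853 b (by omega) (by omega)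
  rcases Nat.lt_or_ge b 9943040 with g6 | g6
  · exact chkURangeF_spec C relF_hyp 1237356000 tc_eq 9940992 2048 ck_4854 b (by omega) (by omega)
  rcases Nat.lt_or_ge b 9945088 with g7 | g7
  · exact chkURangeF_spec C relF_hyp 1237356000 tc_eq 9943040 2048 ck_4855 b (by omega) (by omega)
  rcases Nat.lt_or_ge b 9947136 with g8 | g8
  · exact chkURangeF_spec C relF_hyp 1237356000 tc_eq 9945088 2048 ck_4856 b (by omega) (by omega)
  rcases Nat.lt_or_ge b 9949184 with g9 | g9
  · exact chkURangeF_spec C relF_hyp 1237356000 tc_eq 9947136 2048 ck_4857 b (by omega) (by omega)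
  rcases Nat.lt_or_ge b 9951232 with g10 | g10
  · exact chkURangeF_spec C relF_hyp 1237356000 tc_eq 9949184 2048 ck_4858 b (by omega) (by omega)
  rcases Nat.lt_or_ge b 9953280 with g11 | g11
  · exact chkURangeF_spec C relF_hyp 1237356000 tc_eq 9951232 2048 ck_4859 b (by omega) (by omega)
  rcases Nat.lt_or_ge b 9955328 with g12 | g12
  · exact chkURangeF_spec C relF_hyp 1237356000 tc_eq 9953280 2048 ck_4860 b (by omega) (by omega)
  rcases Nat.lt_or_ge b 9957376 with g13 | g13
  · exact chkURangeF_spec C relF_hyp 1237356000 tc_eq 9955328 2048 ck_4861 b (by omega) (by omega)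
  rcases Nat.lt_or_ge b 9959424 with g14 | g14
  · exact chkURangeF_spec C relF_hyp 1237356000 tc_eq 9957376 2048 ck_4862 b (by omega) (by omega)
  rcases Nat.lt_or_ge b 9961472 with g15 | g15
  · exact chkURangeF_spec C relF_hyp 1237356000 tc_eq 9959424 2048 ck_4863 b (by omega) (by omega)
  rcases Nat.lt_or_ge b 9963520 with g16 | g16
  · exact chkURangeF_spec C relF_hyp 1237356000 tc_eq 9961472 2048 ck_4864 b (by omega) (by omega)
  rcases Nat.lt_or_ge b 9965568 with g17 | g17
  · exact chkURangeF_spec C relF_hyp 1237356000 tc_eq 9963520 2048 ck_4865 b (by omega) (by omega)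
  rcases Nat.lt_or_ge b 9967616 with g18 | g18
  · exact chkURangeF_spec C relF_hyp 1237356000 tc_eq 9965568 2048 ck_4866 b (by omega) (by omega)
  rcases Nat.lt_or_ge b 9969664 with g19 | g19
  · exact chkURangeF_spec C relF_hyp 1237356000 tc_eq 9967616 2048 ck_4867 b (by omega) (by omega)
  rcases Nat.lt_or_ge b 9971712 with g20 | g20
  · exact chkURangeF_spec C relF_hyp 1237356000 tc_eq 9969664 2048 ck_4868 b (by omega) (by omega)
  rcases Nat.lt_or_ge b 9973760 with g21 | g21
  · exact chkURangeF_spec C relF_hyp 1237356000 tc_eq 9971712 2048 ck_4869 b (by omega) (by omega)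
  rcases Nat.lt_or_ge b 9975808 with g22 | g22
  · exact chkURangeF_spec C relF_hyp 1237356000 tc_eq 9973760 2048 ck_4870 b (by omega) (by omega)
  exact chkURangeF_spec C relF_hyp 1237356000 tc_eq 9975808 2048 ck_4871 b (by omega) (by omega)
end Cfsg.Agent.Lib.Helper2.HNMult.P5
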