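import Cfsg.Agent.Lib.Helper2.HNMult.P5.Cert
set_option autoImplicit false
set_option maxRecDepth 1000000
set_option Elab.async false
namespace Cfsg.Agent.Lib.Helper2.HNMult.P5
open Cfsg.Agent.Lib.Helper4.Sparse Cfsg.Agent.Lib.Helper2.SparseF
theorem ck_5040 : chkURangeF D C relF 796 1237356000 10321920 2048 = true := by decide +kernel
theorem ck_5041 : chkURangeF D C relF 796 1237356000 10323968 2048 = true := by decide +kernel
theorem ck_5042 : chkURangeF D C relF 796 1237356000 10326016 2048 = true := by decide +kernel
theorem ck_5043 : chkURangeF D C relF 796 1237356000 10328064 2048 = true := by decide +kernel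
theorem ck_5044 : chkURangeF D C relF 796 1237356000 10330112 2048 = true := by decide +kernel
theorem ck_5045 : chkURangeF D C relF 796 1237356000 10332160 2048 = true := by decide +kernel
theorem ck_5046 : chkURangeF D C relF 796 1237356000 10334208 2048 = true := by decide +kernel
theorem ck_5047 : chkURangeF D C relF 796 1237356000 10336256 2048 = true := by decide +kernel
theorem ck_5048 : chkURangeF D C relF 796 1237356000 10338304 2048 = true := by decide +kernel
theorem ck_5049 : chkURangeF D C relF 796 1237356000 10340352 2048 = true := by decide +kernel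
theorem ck_5050 : chkURangeF D C relF 796 1237356000 10342400 2048 = true := by decide +kernel
theorem ck_5051 : chkURangeF D C relF 796 1237356000 10344448 2048 = true := by decide +kernel
theorem ck_5052 : chkURangeF D C relF 796 1237356000 10346496 2048 = true := by decide +kernel
theorem ck_5053 : chkURangeF D C relF 796 1237356000 10348544 2048 = true := by decide +kernel
theorem ck_5054 : chkURangeF D C relF 796 1237356000 10350592 2048 = true := by decide +kernel
theorem ck_5055 : chkURangeF D C relF 796 1237356000 10352640 2048 = true := by decide +kernel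
theorem ck_5056 : chkURangeF D C relF 796 1237356000 10354688 2048 = true := by decide +kernel
theorem ck_5057 : chkURangeF D C relF 796 1237356000 10356736 2048 = true := by decide +kernel
theorem ck_5058 : chkURangeF D C relF 796 1237356000 10358784 2048 = true := by decide +kernel
theorem ck_5059 : chkURangeF D C relF 796 1237356000 10360832 2048 = true := by decide +kernel
theorem ck_5060 : chkURangeF D C relF 796 1237356000 10362880 2048 = true := by decide +kernel
theorem ck_5061 : chkURangeF D C relF 796 1237356000 10364928 2048 = true := by decide +kernel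
theorem ck_5062 : chkURangeF D C relF 796 1237356000 10366976 2048 = true := by decide +kernel
theorem ck_5063 : chkURangeF D C relF 796 1237356000 10369024 2048 = true := by decide +kernel
theorem chkU_210 (b : ℕ) (h1 : 10321920 ≤ b) (h2 : b < 10371072) : chkU D C b = true := by
  rcases Nat.lt_or_ge b 10323968 with g0 | g0
  · exact chkURangeF_spec C relF_hyp 1237356000 tc_eq 10321920 2048 ck_5040 b (by omega) (by omega)
  rcases Nat.lt_or_ge b 10326016 with g1 | g1
  · exact chkURangeF_spec C relF_hyp 1237356000 tc_eq 10323968 2048 ck_5041 b (by omega) (by omega)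
  rcases Nat.lt_or_ge b 10328064 with g2 | g2
  · exact chkURangeF_spec C relF_hyp 1237356000 tc_eq 10326016 2048 ck_5042 b (by omega) (by omega)
  rcases Nat.lt_or_ge b 10330112 with g3 | g3
  · exact chkURangeF_spec C relF_hyp 1237356000 tc_eq 10328064 2048 ck_5043 b (by omega) (by omega)
  rcases Nat.lt_or_ge b 10332160 with g4 | g4
  · exact chkURangeF_spec C relF_hyp 1237356000 tc_eq 10330112 2048 ck_5044 b (by omega) (by omega)
  rcases Nat.lt_or_ge b 10334208 with g5 | g5
  · exact chkURangeF_spec C relF_hyp 1237356000 tc_eq 10332160 2048 ck_5045 b (by omega) (by omega)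
  rcases Nat.lt_or_ge b 10336256 with g6 | g6
  · exact chkURangeF_spec C relF_hyp 1237356000 tc_eq 10334208 2048 ck_5046 b (by omega) (by omega)
  rcases Nat.lt_or_ge b 10338304 with g7 | g7
  · exact chkURangeF_spec C relF_hyp 1237356000 tc_eq 10336256 2048 ck_5047 b (by omega) (by omega)
  rcases Nat.lt_or_ge b 10340352 with g8 | g8
  · exact chkURangeF_spec C relF_hyp 1237356000 tc_eq 10338304 2048 ck_5048 b (by omega) (by omega)
  rcases Nat.lt_or_ge b 10342400 with g9 | g9
  · exact chkURangeF_spec C relF_hyp 1237356000 tc_eq 10340352 2048 ck_5049 b (by omega) (by omega)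
  rcases Nat.lt_or_ge b 10344448 with g10 | g10
  · exact chkURangeF_spec C relF_hyp 1237356000 tc_eq 10342400 2048 ck_5050 b (by omega) (by omega)
  rcases Nat.lt_or_ge b 10346496 with g11 | g11
  · exact chkURangeF_spec C relF_hyp 1237356000 tc_eq 10344448 2048 ck_5051 b (by omega) (by omega)
  rcases Nat.lt_or_ge b 10348544 with g12 | g12
  · exact chkURangeF_spec C relF_hyp 1237356000 tc_eq 10346496 2048 ck_5052 b (by omega) (by omega)
  rcases Nat.lt_or_ge b 10350592 with g13 | g13
  · exact chkURangeF_spec C relF_hyp 1237356000 tc_eq 10348544 2048 ck_5053 b (by omega) (by omega)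
  rcases Nat.lt_or_ge b 10352640 with g14 | g14
  · exact chkURangeF_spec C relF_hyp 1237356000 tc_eq 10350592 2048 ck_5054 b (by omega) (by omega)
  rcases Nat.lt_or_ge b 10354688 with g15 | g15
  · exact chkURangeF_spec C relF_hyp 1237356000 tc_eq 10352640 2048 ck_5055 b (by omega) (by omega)
  rcases Nat.lt_or_ge b 10356736 with g16 | g16
  · exact chkURangeF_spec C relF_hyp 1237356000 tc_eq 10354688 2048 ck_5056 b (by omega) (by omega)
  rcases Nat.lt_or_ge b 10358784 with g17 | g17
  · exact chkURangeF_spec C relF_hyp 1237356000 tc_eq 10356736 2048 ck_5057 b (by omega) (by omega)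
  rcases Nat.lt_or_ge b 10360832 with g18 | g18
  · exact chkURangeF_spec C relF_hyp 1237356000 tc_eq 10358784 2048 ck_5058 b (by omega) (by omega)
  rcases Nat.lt_or_ge b 10362880 with g19 | g19
  · exact chkURangeF_spec C relF_hyp 1237356000 tc_eq 10360832 2048 ck_5059 b (by omega) (by omega)
  rcases Nat.lt_or_ge b 10364928 with g20 | g20
  · exact chkURangeF_spec C relF_hyp 1237356000 tc_eq 10362880 2048 ck_5060 b (by omega) (by omega)
  rcases Nat.lt_or_ge b 10366976 with g21 | g21
  · exact chkURangeF_spec C relF_hyp 1237356000 tc_eq 10364928 2048 ck_5061 b (by omega) (by omega)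
  rcases Nat.lt_or_ge b 10369024 with g22 | g22
  · exact chkURangeF_spec C relF_hyp 1237356000 tc_eq 10366976 2048 ck_5062 b (by omega) (by omega)
  exact chkURangeF_spec C relF_hyp 1237356000 tc_eq 10369024 2048 ck_5063 b (by omega) (by omega)
end Cfsg.Agent.Lib.Helper2.HNMult.P5
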