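import Cfsg.Agent.Lib.Helper2.HNMult.P5.Cert
set_option autoImplicit false
set_option maxRecDepth 1000000
set_option Elab.async false
namespace Cfsg.Agent.Lib.Helper2.HNMult.P5
open Cfsg.Agent.Lib.Helper4.Sparse Cfsg.Agent.Lib.Helper2.SparseF
theorem ck_5064 : chkURangeF D C relF 796 1237356000 10371072 2048 = true := by decide +kernel
theorem ck_5065 : chkURangeF D C relF 796 1237356000 10373120 2048 = true := by decide +kernel
theorem ck_5066 : chkURangeF D C relF 796 1237356000 10375168 2048 = true := by decide +kernel
theorem ck_5067 : chkURangeF D C relF 796 1237356000 10377216 2048 = true := by decide +kernel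
theorem ck_5068 : chkURangeF D C relF 796 1237356000 10379264 2048 = true := by decide +kernel
theorem ck_5069 : chkURangeF D C relF 796 1237356000 10381312 2048 = true := by decide +kernel
theorem ck_5070 : chkURangeF D C relF 796 1237356000 10383360 2048 = true := by decide +kernel
theorem ck_5071 : chkURangeF D C relF 796 1237356000 10385408 2048 = true := by decide +kernel
theorem ck_5072 : chkURangeF D C relF 796 1237356000 10387456 2048 = true := by decide +kernel
theorem ck_5073 : chkURangeF D C relF 796 1237356000 10389504 2048 = true := by decide +kernel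
theorem ck_5074 : chkURangeF D C relF 796 1237356000 10391552 2048 = true := by decide +kernel
theorem ck_5075 : chkURangeF D C relF 796 1237356000 10393600 2048 = true := by decide +kernel
theorem ck_5076 : chkURangeF D C relF 796 1237356000 10395648 2048 = true := by decide +kernel
theorem ck_5077 : chkURangeF D C relF 796 1237356000 10397696 2048 = true := by decide +kernel
theorem ck_5078 : chkURangeF D C relF 796 1237356000 10399744 2048 = true := by decide +kernel
theorem ck_5079 : chkURangeF D C relF 796 1237356000 10401792 2048 = true := by decide +kernel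
theorem ck_5080 : chkURangeF D C relF 796 1237356000 10403840 2048 = true := by decide +kernel
theorem ck_5081 : chkURangeF D C relF 796 1237356000 10405888 2048 = true := by decide +kernel
theorem ck_5082 : chkURangeF D C relF 796 1237356000 10407936 2048 = true := by decide +kernel
theorem ck_5083 : chkURangeF D C relF 796 1237356000 10409984 2048 = true := by decide +kernel
theorem ck_5084 : chkURangeF D C relF 796 1237356000 10412032 2048 = true := by decide +kernel
theorem ck_5085 : chkURangeF D C relF 796 1237356000 10414080 2048 = true := by decide +kernel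
theorem ck_5086 : chkURangeF D C relF 796 1237356000 10416128 2048 = true := by decide +kernel
theorem ck_5087 : chkURangeF D C relF 796 1237356000 10418176 2048 = true := by decide +kernel
theorem chkU_211 (b : ℕ) (h1 : 10371072 ≤ b) (h2 : b < 10420224) : chkU D C b = true := by
  rcases Nat.lt_or_ge b 10373120 with g0 | g0
  · exact chkURangeF_spec C relF_hyp 1237356000 tc_eq 10371072 2048 ck_5064 b (by omega) (by omega)
  rcases Nat.lt_or_ge b 10375168 with g1 | g1
  · exact chkURangeF_spec C relF_hyp 1237356000 tc_eq 10373120 2048 ck_5065 b (by omega) (by omega)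
  rcases Nat.lt_or_ge b 10377216 with g2 | g2
  · exact chkURangeF_spec C relF_hyp 1237356000 tc_eq 10375168 2048 ck_5066 b (by omega) (by omega)
  rcases Nat.lt_or_ge b 10379264 with g3 | g3
  · exact chkURangeF_spec C relF_hyp 1237356000 tc_eq 10377216 2048 ck_5067 b (by omega) (by omega)
  rcases Nat.lt_or_ge b 10381312 with g4 | g4
  · exact chkURangeF_spec C relF_hyp 1237356000 tc_eq 10379264 2048 ck_5068 b (by omega) (by omega)
  rcases Nat.lt_or_ge b 10383360 with g5 | g5
  · exact chkURangeF_spec C relF_hyp 1237356000 tc_eq 10381312 2048 ck_5069 b (by omega) (by omega)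
  rcases Nat.lt_or_ge b 10385408 with g6 | g6
  · exact chkURangeF_spec C relF_hyp 1237356000 tc_eq 10383360 2048 ck_5070 b (by omega) (by omega)
  rcases Nat.lt_or_ge b 10387456 with g7 | g7
  · exact chkURangeF_spec C relF_hyp 1237356000 tc_eq 10385408 2048 ck_5071 b (by omega) (by omega)
  rcases Nat.lt_or_ge b 10389504 with g8 | g8
  · exact chkURangeF_spec C relF_hyp 1237356000 tc_eq 10387456 2048 ck_5072 b (by omega) (by omega)
  rcases Nat.lt_or_ge b 10391552 with g9 | g9
  · exact chkURangeF_spec C relF_hyp 1237356000 tc_eq 10389504 2048 ck_5073 b (by omega) (by omega)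
  rcases Nat.lt_or_ge b 10393600 with g10 | g10
  · exact chkURangeF_spec C relF_hyp 1237356000 tc_eq 10391552 2048 ck_5074 b (by omega) (by omega)
  rcases Nat.lt_or_ge b 10395648 with g11 | g11
  · exact chkURangeF_spec C relF_hyp 1237356000 tc_eq 10393600 2048 ck_5075 b (by omega) (by omega)
  rcases Nat.lt_or_ge b 10397696 with g12 | g12
  · exact chkURangeF_spec C relF_hyp 1237356000 tc_eq 10395648 2048 ck_5076 b (by omega) (by omega)
  rcases Nat.lt_or_ge b 10399744 with g13 | g13
  · exact chkURangeF_spec C relF_hyp 1237356000 tc_eq 10397696 2048 ck_5077 b (by omega) (by omega)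
  rcases Nat.lt_or_ge b 10401792 with g14 | g14
  · exact chkURangeF_spec C relF_hyp 1237356000 tc_eq 10399744 2048 ck_5078 b (by omega) (by omega)
  rcases Nat.lt_or_ge b 10403840 with g15 | g15
  · exact chkURangeF_spec C relF_hyp 1237356000 tc_eq 10401792 2048 ck_5079 b (by omega) (by omega)
  rcases Nat.lt_or_ge b 10405888 with g16 | g16
  · exact chkURangeF_spec C relF_hyp 1237356000 tc_eq 10403840 2048 ck_5080 b (by omega) (by omega)
  rcases Nat.lt_or_ge b 10407936 with g17 | g17
  · exact chkURangeF_spec C relF_hyp 1237356000 tc_eq 10405888 2048 ck_5081 b (by omega) (by omega)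
  rcases Nat.lt_or_ge b 10409984 with g18 | g18
  · exact chkURangeF_spec C relF_hyp 1237356000 tc_eq 10407936 2048 ck_5082 b (by omega) (by omega)
  rcases Nat.lt_or_ge b 10412032 with g19 | g19
  · exact chkURangeF_spec C relF_hyp 1237356000 tc_eq 10409984 2048 ck_5083 b (by omega) (by omega)
  rcases Nat.lt_or_ge b 10414080 with g20 | g20
  · exact chkURangeF_spec C relF_hyp 1237356000 tc_eq 10412032 2048 ck_5084 b (by omega) (by omega)
  rcases Nat.lt_or_ge b 10416128 with g21 | g21
  · exact chkURangeF_spec C relF_hyp 1237356000 tc_eq 10414080 2048 ck_5085 b (by omega) (by omega)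
  rcases Nat.lt_or_ge b 10418176 with g22 | g22
  · exact chkURangeF_spec C relF_hyp 1237356000 tc_eq 10416128 2048 ck_5086 b (by omega) (by omega)
  exact chkURangeF_spec C relF_hyp 1237356000 tc_eq 10418176 2048 ck_5087 b (by omega) (by omega)
end Cfsg.Agent.Lib.Helper2.HNMult.P5
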