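import Cfsg.Agent.Lib.Helper2.HNMult.P5.Cert
set_option autoImplicit false
set_option maxRecDepth 1000000
set_option Elab.async false
namespace Cfsg.Agent.Lib.Helper2.HNMult.P5
open Cfsg.Agent.Lib.Helper4.Sparse Cfsg.Agent.Lib.Helper2.SparseF
theorem ck_5232 : chkURangeF D C relF 796 1237356000 10715136 2048 = true := by decide +kernel
theorem ck_5233 : chkURangeF D C relF 796 1237356000 10717184 2048 = true := by decide +kernel
theorem ck_5234 : chkURangeF D C relF 796 1237356000 10719232 2048 = true := by decide +kernel
theorem ck_5235 : chkURangeF D C relF 796 1237356000 10721280 2048 = true := by decide +kernel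
theorem ck_5236 : chkURangeF D C relF 796 1237356000 10723328 2048 = true := by decide +kernel
theorem ck_5237 : chkURangeF D C relF 796 1237356000 10725376 2048 = true := by decide +kernel
theorem ck_5238 : chkURangeF D C relF 796 1237356000 10727424 2048 = true := by decide +kernel
theorem ck_5239 : chkURangeF D C relF 796 1237356000 10729472 2048 = true := by decide +kernel
theorem ck_5240 : chkURangeF D C relF 796 1237356000 10731520 2048 = true := by decide +kernel
theorem ck_5241 : chkURangeF D C relF 796 1237356000 10733568 2048 = true := by decide +kernel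
theorem ck_5242 : chkURangeF D C relF 796 1237356000 10735616 2048 = true := by decide +kernel
theorem ck_5243 : chkURangeF D C relF 796 1237356000 10737664 2048 = true := by decide +kernel
theorem ck_5244 : chkURangeF D C relF 796 1237356000 10739712 2048 = true := by decide +kernel
theorem ck_5245 : chkURangeF D C relF 796 1237356000 10741760 2048 = true := by decide +kernel
theorem ck_5246 : chkURangeF D C relF 796 1237356000 10743808 2048 = true := by decide +kernel
theorem ck_5247 : chkURangeF D C relF 796 1237356000 10745856 2048 = true := by decide +kernel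
theorem ck_5248 : chkURangeF D C relF 796 1237356000 10747904 2048 = true := by decide +kernel
theorem ck_5249 : chkURangeF D C relF 796 1237356000 10749952 2048 = true := by decide +kernel
theorem ck_5250 : chkURangeF D C relF 796 1237356000 10752000 2048 = true := by decide +kernel
theorem ck_5251 : chkURangeF D C relF 796 1237356000 10754048 2048 = true := by decide +kernel
theorem ck_5252 : chkURangeF D C relF 796 1237356000 10756096 2048 = true := by decide +kernel
theorem ck_5253 : chkURangeF D C relF 796 1237356000 10758144 2048 = true := by decide +kernel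
theorem ck_5254 : chkURangeF D C relF 796 1237356000 10760192 2048 = true := by decide +kernel
theorem ck_5255 : chkURangeF D C relF 796 1237356000 10762240 2048 = true := by decide +kernel
theorem chkU_218 (b : ℕ) (h1 : 10715136 ≤ b) (h2 : b < 10764288) : chkU D C b = true := by
  rcases Nat.lt_or_ge b 10717184 with g0 | g0
  · exact chkURangeF_spec C relF_hyp 1237356000 tc_eq 10715136 2048 ck_5232 b (by omega) (by omega)
  rcases Nat.lt_or_ge b 10719232 with g1 | g1
  · exact chkURangeF_spec C relF_hyp 1237356000 tc_eq 10717184 2048 ck_5233 b (by omega) (by omega)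
  rcases Nat.lt_or_ge b 10721280 with g2 | g2
  · exact chkURangeF_spec C relF_hyp 1237356000 tc_eq 10719232 2048 ck_5234 b (by omega) (by omega)
  rcases Nat.lt_or_ge b 10723328 with g3 | g3
  · exact chkURangeF_spec C relF_hyp 1237356000 tc_eq 10721280 2048 ck_5235 b (by omega) (by omega)
  rcases Nat.lt_or_ge b 10725376 with g4 | g4
  · exact chkURangeF_spec C relF_hyp 1237356000 tc_eq 10723328 2048 ck_5236 b (by omega) (by omega)
  rcases Nat.lt_or_ge b 10727424 with g5 | g5
  · exact chkURangeF_spec C relF_hyp 1237356000 tc_eq 10725376 2048 ck_5237 b (by omega) (by omega)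
  rcases Nat.lt_or_ge b 10729472 with g6 | g6
  · exact chkURangeF_spec C relF_hyp 1237356000 tc_eq 10727424 2048 ck_5238 b (by omega) (by omega)
  rcases Nat.lt_or_ge b 10731520 with g7 | g7
  · exact chkURangeF_spec C relF_hyp 1237356000 tc_eq 10729472 2048 ck_5239 b (by omega) (by omega)
  rcases Nat.lt_or_ge b 10733568 with g8 | g8
  · exact chkURangeF_spec C relF_hyp 1237356000 tc_eq 10731520 2048 ck_5240 b (by omega) (by omega)
  rcases Nat.lt_or_ge b 10735616 with g9 | g9
  · exact chkURangeF_spec C relF_hyp 1237356000 tc_eq 10733568 2048 ck_5241 b (by omega) (by omega)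
  rcases Nat.lt_or_ge b 10737664 with g10 | g10
  · exact chkURangeF_spec C relF_hyp 1237356000 tc_eq 10735616 2048 ck_5242 b (by omega) (by omega)
  rcases Nat.lt_or_ge b 10739712 with g11 | g11
  · exact chkURangeF_spec C relF_hyp 1237356000 tc_eq 10737664 2048 ck_5243 b (by omega) (by omega)
  rcases Nat.lt_or_ge b 10741760 with g12 | g12
  · exact chkURangeF_spec C relF_hyp 1237356000 tc_eq 10739712 2048 ck_5244 b (by omega) (by omega)
  rcases Nat.lt_or_ge b 10743808 with g13 | g13
  · exact chkURangeF_spec C relF_hyp 1237356000 tc_eq 10741760 2048 ck_5245 b (by omega) (by omega)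
  rcases Nat.lt_or_ge b 10745856 with g14 | g14
  · exact chkURangeF_spec C relF_hyp 1237356000 tc_eq 10743808 2048 ck_5246 b (by omega) (by omega)
  rcases Nat.lt_or_ge b 10747904 with g15 | g15
  · exact chkURangeF_spec C relF_hyp 1237356000 tc_eq 10745856 2048 ck_5247 b (by omega) (by omega)
  rcases Nat.lt_or_ge b 10749952 with g16 | g16
  · exact chkURangeF_spec C relF_hyp 1237356000 tc_eq 10747904 2048 ck_5248 b (by omega) (by omega)
  rcases Nat.lt_or_ge b 10752000 with g17 | g17
  · exact chkURangeF_spec C relF_hyp 1237356000 tc_eq 10749952 2048 ck_5249 b (by omega) (by omega)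
  rcases Nat.lt_or_ge b 10754048 with g18 | g18
  · exact chkURangeF_spec C relF_hyp 1237356000 tc_eq 10752000 2048 ck_5250 b (by omega) (by omega)
  rcases Nat.lt_or_ge b 10756096 with g19 | g19
  · exact chkURangeF_spec C relF_hyp 1237356000 tc_eq 10754048 2048 ck_5251 b (by omega) (by omega)
  rcases Nat.lt_or_ge b 10758144 with g20 | g20
  · exact chkURangeF_spec C relF_hyp 1237356000 tc_eq 10756096 2048 ck_5252 b (by omega) (by omega)
  rcases Nat.lt_or_ge b 10760192 with g21 | g21
  · exact chkURangeF_spec C relF_hyp 1237356000 tc_eq 10758144 2048 ck_5253 b (by omega) (by omega)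
  rcases Nat.lt_or_ge b 10762240 with g22 | g22
  · exact chkURangeF_spec C relF_hyp 1237356000 tc_eq 10760192 2048 ck_5254 b (by omega) (by omega)
  exact chkURangeF_spec C relF_hyp 1237356000 tc_eq 10762240 2048 ck_5255 b (by omega) (by omega)
end Cfsg.Agent.Lib.Helper2.HNMult.P5
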