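import Cfsg.Agent.Lib.Helper2.HNMult.P5.Cert
set_option autoImplicit false
set_option maxRecDepth 1000000
set_option Elab.async false
namespace Cfsg.Agent.Lib.Helper2.HNMult.P5
open Cfsg.Agent.Lib.Helper4.Sparse Cfsg.Agent.Lib.Helper2.SparseF
theorem ck_528 : chkURangeF D C relF 796 1237356000 1081344 2048 = true := by decide +kernel
theorem ck_529 : chkURangeF D C relF 796 1237356000 1083392 2048 = true := by decide +kernel
theorem ck_530 : chkURangeF D C relF 796 1237356000 1085440 2048 = true := by decide +kernel
theorem ck_531 : chkURangeF D C relF 796 1237356000 1087488 2048 = true := by decide +kernel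
theorem ck_532 : chkURangeF D C relF 796 1237356000 1089536 2048 = true := by decide +kernel
theorem ck_533 : chkURangeF D C relF 796 1237356000 1091584 2048 = true := by decide +kernel
theorem ck_534 : chkURangeF D C relF 796 1237356000 1093632 2048 = true := by decide +kernel
theorem ck_535 : chkURangeF D C relF 796 1237356000 1095680 2048 = true := by decide +kernel
theorem ck_536 : chkURangeF D C relF 796 1237356000 1097728 2048 = true := by decide +kernel
theorem ck_537 : chkURangeF D C relF 796 1237356000 1099776 2048 = true := by decide +kernel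
theorem ck_538 : chkURangeF D C relF 796 1237356000 1101824 2048 = true := by decide +kernel
theorem ck_539 : chkURangeF D C relF 796 1237356000 1103872 2048 = true := by decide +kernel
theorem ck_540 : chkURangeF D C relF 796 1237356000 1105920 2048 = true := by decide +kernel
theorem ck_541 : chkURangeF D C relF 796 1237356000 1107968 2048 = true := by decide +kernel
theorem ck_542 : chkURangeF D C relF 796 1237356000 1110016 2048 = true := by decide +kernel
theorem ck_543 : chkURangeF D C relF 796 1237356000 1112064 2048 = true := by decide +kernel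
theorem ck_544 : chkURangeF D C relF 796 1237356000 1114112 2048 = true := by decide +kernel
theorem ck_545 : chkURangeF D C relF 796 1237356000 1116160 2048 = true := by decide +kernel
theorem ck_546 : chkURangeF D C relF 796 1237356000 1118208 2048 = true := by decide +kernel
theorem ck_547 : chkURangeF D C relF 796 1237356000 1120256 2048 = true := by decide +kernel
theorem ck_548 : chkURangeF D C relF 796 1237356000 1122304 2048 = true := by decide +kernel
theorem ck_549 : chkURangeF D C relF 796 1237356000 1124352 2048 = true := by decide +kernel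
theorem ck_550 : chkURangeF D C relF 796 1237356000 1126400 2048 = true := by decide +kernel
theorem ck_551 : chkURangeF D C relF 796 1237356000 1128448 2048 = true := by decide +kernel
theorem chkU_22 (b : ℕ) (h1 : 1081344 ≤ b) (h2 : b < 1130496) : chkU D C b = true := by
  rcases Nat.lt_or_ge b 1083392 with g0 | g0
  · exact chkURangeF_spec C relF_hyp 1237356000 tc_eq 1081344 2048 ck_528 b (by omega) (by omega)
  rcases Nat.lt_or_ge b 1085440 with g1 | g1
  · exact chkURangeF_spec C relF_hyp 1237356000 tc_eq 1083392 2048 ck_529 b (by omega) (by omega)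
  rcases Nat.lt_or_ge b 1087488 with g2 | g2
  · exact chkURangeF_spec C relF_hyp 1237356000 tc_eq 1085440 2048 ck_530 b (by omega) (by omega)
  rcases Nat.lt_or_ge b 1089536 with g3 | g3
  · exact chkURangeF_spec C relF_hyp 1237356000 tc_eq 1087488 2048 ck_531 b (by omega) (by omega)
  rcases Nat.lt_or_ge b 1091584 with g4 | g4
  · exact chkURangeF_spec C relF_hyp 1237356000 tc_eq 1089536 2048 ck_532 b (by omega) (by omega)
  rcases Nat.lt_or_ge b 1093632 with g5 | g5
  · exact chkURangeF_spec C relF_hyp 1237356000 tc_eq 1091584 2048 ck_533 b (by omega) (by omega)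
  rcases Nat.lt_or_ge b 1095680 with g6 | g6
  · exact chkURangeF_spec C relF_hyp 1237356000 tc_eq 1093632 2048 ck_534 b (by omega) (by omega)
  rcases Nat.lt_or_ge b 1097728 with g7 | g7
  · exact chkURangeF_spec C relF_hyp 1237356000 tc_eq 1095680 2048 ck_535 b (by omega) (by omega)
  rcases Nat.lt_or_ge b 1099776 with g8 | g8
  · exact chkURangeF_spec C relF_hyp 1237356000 tc_eq 1097728 2048 ck_536 b (by omega) (by omega)
  rcases Nat.lt_or_ge b 1101824 with g9 | g9
  · exact chkURangeF_spec C relF_hyp 1237356000 tc_eq 1099776 2048 ck_537 b (by omega) (by omega)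
  rcases Nat.lt_or_ge b 1103872 with g10 | g10
  · exact chkURangeF_spec C relF_hyp 1237356000 tc_eq 1101824 2048 ck_538 b (by omega) (by omega)
  rcases Nat.lt_or_ge b 1105920 with g11 | g11
  · exact chkURangeF_spec C relF_hyp 1237356000 tc_eq 1103872 2048 ck_539 b (by omega) (by omega)
  rcases Nat.lt_or_ge b 1107968 with g12 | g12
  · exact chkURangeF_spec C relF_hyp 1237356000 tc_eq 1105920 2048 ck_540 b (by omega) (by omega)
  rcases Nat.lt_or_ge b 1110016 with g13 | g13
  · exact chkURangeF_spec C relF_hyp 1237356000 tc_eq 1107968 2048 ck_541 b (by omega) (by omega)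
  rcases Nat.lt_or_ge b 1112064 with g14 | g14
  · exact chkURangeF_spec C relF_hyp 1237356000 tc_eq 1110016 2048 ck_542 b (by omega) (by omega)
  rcases Nat.lt_or_ge b 1114112 with g15 | g15
  · exact chkURangeF_spec C relF_hyp 1237356000 tc_eq 1112064 2048 ck_543 b (by omega) (by omega)
  rcases Nat.lt_or_ge b 1116160 with g16 | g16
  · exact chkURangeF_spec C relF_hyp 1237356000 tc_eq 1114112 2048 ck_544 b (by omega) (by omega)
  rcases Nat.lt_or_ge b 1118208 with g17 | g17
  · exact chkURangeF_spec C relF_hyp 1237356000 tc_eq 1116160 2048 ck_545 b (by omega) (by omega)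
  rcases Nat.lt_or_ge b 1120256 with g18 | g18
  · exact chkURangeF_spec C relF_hyp 1237356000 tc_eq 1118208 2048 ck_546 b (by omega) (by omega)
  rcases Nat.lt_or_ge b 1122304 with g19 | g19
  · exact chkURangeF_spec C relF_hyp 1237356000 tc_eq 1120256 2048 ck_547 b (by omega) (by omega)
  rcases Nat.lt_or_ge b 1124352 with g20 | g20
  · exact chkURangeF_spec C relF_hyp 1237356000 tc_eq 1122304 2048 ck_548 b (by omega) (by omega)
  rcases Nat.lt_or_ge b 1126400 with g21 | g21
  · exact chkURangeF_spec C relF_hyp 1237356000 tc_eq 1124352 2048 ck_549 b (by omega) (by omega)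
  rcases Nat.lt_or_ge b 1128448 with g22 | g22
  · exact chkURangeF_spec C relF_hyp 1237356000 tc_eq 1126400 2048 ck_550 b (by omega) (by omega)
  exact chkURangeF_spec C relF_hyp 1237356000 tc_eq 1128448 2048 ck_551 b (by omega) (by omega)
end Cfsg.Agent.Lib.Helper2.HNMult.P5
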