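import Cfsg.Agent.Lib.Helper2.HNMult.P5.Cert
set_option autoImplicit false
set_option maxRecDepth 1000000
set_option Elab.async false
namespace Cfsg.Agent.Lib.Helper2.HNMult.P5
open Cfsg.Agent.Lib.Helper4.Sparse Cfsg.Agent.Lib.Helper2.SparseF
theorem ck_576 : chkURangeF D C relF 796 1237356000 1179648 2048 = true := by decide +kernel
theorem ck_577 : chkURangeF D C relF 796 1237356000 1181696 2048 = true := by decide +kernel
theorem ck_578 : chkURangeF D C relF 796 1237356000 1183744 2048 = true := by decide +kernel
theorem ck_579 : chkURangeF D C relF 796 1237356000 1185792 2048 = true := by decide +kernel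
theorem ck_580 : chkURangeF D C relF 796 1237356000 1187840 2048 = true := by decide +kernel
theorem ck_581 : chkURangeF D C relF 796 1237356000 1189888 2048 = true := by decide +kernel
theorem ck_582 : chkURangeF D C relF 796 1237356000 1191936 2048 = true := by decide +kernel
theorem ck_583 : chkURangeF D C relF 796 1237356000 1193984 2048 = true := by decide +kernel
theorem ck_584 : chkURangeF D C relF 796 1237356000 1196032 2048 = true := by decide +kernel
theorem ck_585 : chkURangeF D C relF 796 1237356000 1198080 2048 = true := by decide +kernel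
theorem ck_586 : chkURangeF D C relF 796 1237356000 1200128 2048 = true := by decide +kernel
theorem ck_587 : chkURangeF D C relF 796 1237356000 1202176 2048 = true := by decide +kernel
theorem ck_588 : chkURangeF D C relF 796 1237356000 1204224 2048 = true := by decide +kernel
theorem ck_589 : chkURangeF D C relF 796 1237356000 1206272 2048 = true := by decide +kernel
theorem ck_590 : chkURangeF D C relF 796 1237356000 1208320 2048 = true := by decide +kernel
theorem ck_591 : chkURangeF D C relF 796 1237356000 1210368 2048 = true := by decide +kernel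
theorem ck_592 : chkURangeF D C relF 796 1237356000 1212416 2048 = true := by decide +kernel
theorem ck_593 : chkURangeF D C relF 796 1237356000 1214464 2048 = true := by decide +kernel
theorem ck_594 : chkURangeF D C relF 796 1237356000 1216512 2048 = true := by decide +kernel
theorem ck_595 : chkURangeF D C relF 796 1237356000 1218560 2048 = true := by decide +kernel
theorem ck_596 : chkURangeF D C relF 796 1237356000 1220608 2048 = true := by decide +kernel
theorem ck_597 : chkURangeF D C relF 796 1237356000 1222656 2048 = true := by decide +kernel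
theorem ck_598 : chkURangeF D C relF 796 1237356000 1224704 2048 = true := by decide +kernel
theorem ck_599 : chkURangeF D C relF 796 1237356000 1226752 2048 = true := by decide +kernel
theorem chkU_24 (b : ℕ) (h1 : 1179648 ≤ b) (h2 : b < 1228800) : chkU D C b = true := by
  rcases Nat.lt_or_ge b 1181696 with g0 | g0
  · exact chkURangeF_spec C relF_hyp 1237356000 tc_eq 1179648 2048 ck_576 b (by omega) (by omega)
  rcases Nat.lt_or_ge b 1183744 with g1 | g1
  · exact chkURangeF_spec C relF_hyp 1237356000 tc_eq 1181696 2048 ck_577 b (by omega) (by omega)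
  rcases Nat.lt_or_ge b 1185792 with g2 | g2
  · exact chkURangeF_spec C relF_hyp 1237356000 tc_eq 1183744 2048 ck_578 b (by omega) (by omega)
  rcases Nat.lt_or_ge b 1187840 with g3 | g3
  · exact chkURangeF_spec C relF_hyp 1237356000 tc_eq 1185792 2048 ck_579 b (by omega) (by omega)
  rcases Nat.lt_or_ge b 1189888 with g4 | g4
  · exact chkURangeF_spec C relF_hyp 1237356000 tc_eq 1187840 2048 ck_580 b (by omega) (by omega)
  rcases Nat.lt_or_ge b 1191936 with g5 | g5
  · exact chkURangeF_spec C relF_hyp 1237356000 tc_eq 1189888 2048 ck_581 b (by omega) (by omega)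
  rcases Nat.lt_or_ge b 1193984 with g6 | g6
  · exact chkURangeF_spec C relF_hyp 1237356000 tc_eq 1191936 2048 ck_582 b (by omega) (by omega)
  rcases Nat.lt_or_ge b 1196032 with g7 | g7
  · exact chkURangeF_spec C relF_hyp 1237356000 tc_eq 1193984 2048 ck_583 b (by omega) (by omega)
  rcases Nat.lt_or_ge b 1198080 with g8 | g8
  · exact chkURangeF_spec C relF_hyp 1237356000 tc_eq 1196032 2048 ck_584 b (by omega) (by omega)
  rcases Nat.lt_or_ge b 1200128 with g9 | g9
  · exact chkURangeF_spec C relF_hyp 1237356000 tc_eq 1198080 2048 ck_585 b (by omega) (by omega)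
  rcases Nat.lt_or_ge b 1202176 with g10 | g10
  · exact chkURangeF_spec C relF_hyp 1237356000 tc_eq 1200128 2048 ck_586 b (by omega) (by omega)
  rcases Nat.lt_or_ge b 1204224 with g11 | g11
  · exact chkURangeF_spec C relF_hyp 1237356000 tc_eq 1202176 2048 ck_587 b (by omega) (by omega)
  rcases Nat.lt_or_ge b 1206272 with g12 | g12
  · exact chkURangeF_spec C relF_hyp 1237356000 tc_eq 1204224 2048 ck_588 b (by omega) (by omega)
  rcases Nat.lt_or_ge b 1208320 with g13 | g13
  · exact chkURangeF_spec C relF_hyp 1237356000 tc_eq 1206272 2048 ck_589 b (by omega) (by omega)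
  rcases Nat.lt_or_ge b 1210368 with g14 | g14
  · exact chkURangeF_spec C relF_hyp 1237356000 tc_eq 1208320 2048 ck_590 b (by omega) (by omega)
  rcases Nat.lt_or_ge b 1212416 with g15 | g15
  · exact chkURangeF_spec C relF_hyp 1237356000 tc_eq 1210368 2048 ck_591 b (by omega) (by omega)
  rcases Nat.lt_or_ge b 1214464 with g16 | g16
  · exact chkURangeF_spec C relF_hyp 1237356000 tc_eq 1212416 2048 ck_592 b (by omega) (by omega)
  rcases Nat.lt_or_ge b 1216512 with g17 | g17
  · exact chkURangeF_spec C relF_hyp 1237356000 tc_eq 1214464 2048 ck_593 b (by omega) (by omega)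
  rcases Nat.lt_or_ge b 1218560 with g18 | g18
  · exact chkURangeF_spec C relF_hyp 1237356000 tc_eq 1216512 2048 ck_594 b (by omega) (by omega)
  rcases Nat.lt_or_ge b 1220608 with g19 | g19
  · exact chkURangeF_spec C relF_hyp 1237356000 tc_eq 1218560 2048 ck_595 b (by omega) (by omega)
  rcases Nat.lt_or_ge b 1222656 with g20 | g20
  · exact chkURangeF_spec C relF_hyp 1237356000 tc_eq 1220608 2048 ck_596 b (by omega) (by omega)
  rcases Nat.lt_or_ge b 1224704 with g21 | g21
  · exact chkURangeF_spec C relF_hyp 1237356000 tc_eq 1222656 2048 ck_597 b (by omega) (by omega)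
  rcases Nat.lt_or_ge b 1226752 with g22 | g22
  · exact chkURangeF_spec C relF_hyp 1237356000 tc_eq 1224704 2048 ck_598 b (by omega) (by omega)
  exact chkURangeF_spec C relF_hyp 1237356000 tc_eq 1226752 2048 ck_599 b (by omega) (by omega)
end Cfsg.Agent.Lib.Helper2.HNMult.P5
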