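import Cfsg.Agent.Lib.Helper2.HNMult.P5.Cert
set_option autoImplicit false
set_option maxRecDepth 1000000
set_option Elab.async false
namespace Cfsg.Agent.Lib.Helper2.HNMult.P5
open Cfsg.Agent.Lib.Helper4.Sparse Cfsg.Agent.Lib.Helper2.SparseF
theorem ck_624 : chkURangeF D C relF 796 1237356000 1277952 2048 = true := by decide +kernel
theorem ck_625 : chkURangeF D C relF 796 1237356000 1280000 2048 = true := by decide +kernel
theorem ck_626 : chkURangeF D C relF 796 1237356000 1282048 2048 = true := by decide +kernel
theorem ck_627 : chkURangeF D C relF 796 1237356000 1284096 2048 = true := by decide +kernel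
theorem ck_628 : chkURangeF D C relF 796 1237356000 1286144 2048 = true := by decide +kernel
theorem ck_629 : chkURangeF D C relF 796 1237356000 1288192 2048 = true := by decide +kernel
theorem ck_630 : chkURangeF D C relF 796 1237356000 1290240 2048 = true := by decide +kernel
theorem ck_631 : chkURangeF D C relF 796 1237356000 1292288 2048 = true := by decide +kernel
theorem ck_632 : chkURangeF D C relF 796 1237356000 1294336 2048 = true := by decide +kernel
theorem ck_633 : chkURangeF D C relF 796 1237356000 1296384 2048 = true := by decide +kernel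
theorem ck_634 : chkURangeF D C relF 796 1237356000 1298432 2048 = true := by decide +kernel
theorem ck_635 : chkURangeF D C relF 796 1237356000 1300480 2048 = true := by decide +kernel
theorem ck_636 : chkURangeF D C relF 796 1237356000 1302528 2048 = true := by decide +kernel
theorem ck_637 : chkURangeF D C relF 796 1237356000 1304576 2048 = true := by decide +kernel
theorem ck_638 : chkURangeF D C relF 796 1237356000 1306624 2048 = true := by decide +kernel
theorem ck_639 : chkURangeF D C relF 796 1237356000 1308672 2048 = true := by decide +kernel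
theorem ck_640 : chkURangeF D C relF 796 1237356000 1310720 2048 = true := by decide +kernel
theorem ck_641 : chkURangeF D C relF 796 1237356000 1312768 2048 = true := by decide +kernel
theorem ck_642 : chkURangeF D C relF 796 1237356000 1314816 2048 = true := by decide +kernel
theorem ck_643 : chkURangeF D C relF 796 1237356000 1316864 2048 = true := by decide +kernel
theorem ck_644 : chkURangeF D C relF 796 1237356000 1318912 2048 = true := by decide +kernel
theorem ck_645 : chkURangeF D C relF 796 1237356000 1320960 2048 = true := by decide +kernel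
theorem ck_646 : chkURangeF D C relF 796 1237356000 1323008 2048 = true := by decide +kernel
theorem ck_647 : chkURangeF D C relF 796 1237356000 1325056 2048 = true := by decide +kernel
theorem chkU_26 (b : ℕ) (h1 : 1277952 ≤ b) (h2 : b < 1327104) : chkU D C b = true := by
  rcases Nat.lt_or_ge b 1280000 with g0 | g0
  · exact chkURangeF_spec C relF_hyp 1237356000 tc_eq 1277952 2048 ck_624 b (by omega) (by omega)
  rcases Nat.lt_or_ge b 1282048 with g1 | g1
  · exact chkURangeF_spec C relF_hyp 1237356000 tc_eq 1280000 2048 ck_625 b (by omega) (by omega)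
  rcases Nat.lt_or_ge b 1284096 with g2 | g2
  · exact chkURangeF_spec C relF_hyp 1237356000 tc_eq 1282048 2048 ck_626 b (by omega) (by omega)
  rcases Nat.lt_or_ge b 1286144 with g3 | g3
  · exact chkURangeF_spec C relF_hyp 1237356000 tc_eq 1284096 2048 ck_627 b (by omega) (by omega)
  rcases Nat.lt_or_ge b 1288192 with g4 | g4
  · exact chkURangeF_spec C relF_hyp 1237356000 tc_eq 1286144 2048 ck_628 b (by omega) (by omega)
  rcases Nat.lt_or_ge b 1290240 with g5 | g5
  · exact chkURangeF_spec C relF_hyp 1237356000 tc_eq 1288192 2048 ck_629 b (by omega) (by omega)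
  rcases Nat.lt_or_ge b 1292288 with g6 | g6
  · exact chkURangeF_spec C relF_hyp 1237356000 tc_eq 1290240 2048 ck_630 b (by omega) (by omega)
  rcases Nat.lt_or_ge b 1294336 with g7 | g7
  · exact chkURangeF_spec C relF_hyp 1237356000 tc_eq 1292288 2048 ck_631 b (by omega) (by omega)
  rcases Nat.lt_or_ge b 1296384 with g8 | g8
  · exact chkURangeF_spec C relF_hyp 1237356000 tc_eq 1294336 2048 ck_632 b (by omega) (by omega)
  rcases Nat.lt_or_ge b 1298432 with g9 | g9
  · exact chkURangeF_spec C relF_hyp 1237356000 tc_eq 1296384 2048 ck_633 b (by omega) (by omega)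
  rcases Nat.lt_or_ge b 1300480 with g10 | g10
  · exact chkURangeF_spec C relF_hyp 1237356000 tc_eq 1298432 2048 ck_634 b (by omega) (by omega)
  rcases Nat.lt_or_ge b 1302528 with g11 | g11
  · exact chkURangeF_spec C relF_hyp 1237356000 tc_eq 1300480 2048 ck_635 b (by omega) (by omega)
  rcases Nat.lt_or_ge b 1304576 with g12 | g12
  · exact chkURangeF_spec C relF_hyp 1237356000 tc_eq 1302528 2048 ck_636 b (by omega) (by omega)
  rcases Nat.lt_or_ge b 1306624 with g13 | g13
  · exact chkURangeF_spec C relF_hyp 1237356000 tc_eq 1304576 2048 ck_637 b (by omega) (by omega)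
  rcases Nat.lt_or_ge b 1308672 with g14 | g14
  · exact chkURangeF_spec C relF_hyp 1237356000 tc_eq 1306624 2048 ck_638 b (by omega) (by omega)
  rcases Nat.lt_or_ge b 1310720 with g15 | g15
  · exact chkURangeF_spec C relF_hyp 1237356000 tc_eq 1308672 2048 ck_639 b (by omega) (by omega)
  rcases Nat.lt_or_ge b 1312768 with g16 | g16
  · exact chkURangeF_spec C relF_hyp 1237356000 tc_eq 1310720 2048 ck_640 b (by omega) (by omega)
  rcases Nat.lt_or_ge b 1314816 with g17 | g17
  · exact chkURangeF_spec C relF_hyp 1237356000 tc_eq 1312768 2048 ck_641 b (by omega) (by omega)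
  rcases Nat.lt_or_ge b 1316864 with g18 | g18
  · exact chkURangeF_spec C relF_hyp 1237356000 tc_eq 1314816 2048 ck_642 b (by omega) (by omega)
  rcases Nat.lt_or_ge b 1318912 with g19 | g19
  · exact chkURangeF_spec C relF_hyp 1237356000 tc_eq 1316864 2048 ck_643 b (by omega) (by omega)
  rcases Nat.lt_or_ge b 1320960 with g20 | g20
  · exact chkURangeF_spec C relF_hyp 1237356000 tc_eq 1318912 2048 ck_644 b (by omega) (by omega)
  rcases Nat.lt_or_ge b 1323008 with g21 | g21
  · exact chkURangeF_spec C relF_hyp 1237356000 tc_eq 1320960 2048 ck_645 b (by omega) (by omega)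
  rcases Nat.lt_or_ge b 1325056 with g22 | g22
  · exact chkURangeF_spec C relF_hyp 1237356000 tc_eq 1323008 2048 ck_646 b (by omega) (by omega)
  exact chkURangeF_spec C relF_hyp 1237356000 tc_eq 1325056 2048 ck_647 b (by omega) (by omega)
end Cfsg.Agent.Lib.Helper2.HNMult.P5
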