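import Cfsg.Agent.Lib.Helper2.HNMult.P5.Cert
set_option autoImplicit false
set_option maxRecDepth 1000000
set_option Elab.async false
namespace Cfsg.Agent.Lib.Helper2.HNMult.P5
open Cfsg.Agent.Lib.Helper4.Sparse Cfsg.Agent.Lib.Helper2.SparseF
theorem ck_648 : chkURangeF D C relF 796 1237356000 1327104 2048 = true := by decide +kernel
theorem ck_649 : chkURangeF D C relF 796 1237356000 1329152 2048 = true := by decide +kernel
theorem ck_650 : chkURangeF D C relF 796 1237356000 1331200 2048 = true := by decide +kernel
theorem ck_651 : chkURangeF D C relF 796 1237356000 1333248 2048 = true := by decide +kernel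
theorem ck_652 : chkURangeF D C relF 796 1237356000 1335296 2048 = true := by decide +kernel
theorem ck_653 : chkURangeF D C relF 796 1237356000 1337344 2048 = true := by decide +kernel
theorem ck_654 : chkURangeF D C relF 796 1237356000 1339392 2048 = true := by decide +kernel
theorem ck_655 : chkURangeF D C relF 796 1237356000 1341440 2048 = true := by decide +kernel
theorem ck_656 : chkURangeF D C relF 796 1237356000 1343488 2048 = true := by decide +kernel
theorem ck_657 : chkURangeF D C relF 796 1237356000 1345536 2048 = true := by decide +kernel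
theorem ck_658 : chkURangeF D C relF 796 1237356000 1347584 2048 = true := by decide +kernel
theorem ck_659 : chkURangeF D C relF 796 1237356000 1349632 2048 = true := by decide +kernel
theorem ck_660 : chkURangeF D C relF 796 1237356000 1351680 2048 = true := by decide +kernel
theorem ck_661 : chkURangeF D C relF 796 1237356000 1353728 2048 = true := by decide +kernel
theorem ck_662 : chkURangeF D C relF 796 1237356000 1355776 2048 = true := by decide +kernel
theorem ck_663 : chkURangeF D C relF 796 1237356000 1357824 2048 = true := by decide +kernel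
theorem ck_664 : chkURangeF D C relF 796 1237356000 1359872 2048 = true := by decide +kernel
theorem ck_665 : chkURangeF D C relF 796 1237356000 1361920 2048 = true := by decide +kernel
theorem ck_666 : chkURangeF D C relF 796 1237356000 1363968 2048 = true := by decide +kernel
theorem ck_667 : chkURangeF D C relF 796 1237356000 1366016 2048 = true := by decide +kernel
theorem ck_668 : chkURangeF D C relF 796 1237356000 1368064 2048 = true := by decide +kernel
theorem ck_669 : chkURangeF D C relF 796 1237356000 1370112 2048 = true := by decide +kernel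
theorem ck_670 : chkURangeF D C relF 796 1237356000 1372160 2048 = true := by decide +kernel
theorem ck_671 : chkURangeF D C relF 796 1237356000 1374208 2048 = true := by decide +kernel
theorem chkU_27 (b : ℕ) (h1 : 1327104 ≤ b) (h2 : b < 1376256) : chkU D C b = true := by
  rcases Nat.lt_or_ge b 1329152 with g0 | g0
  · exact chkURangeF_spec C relF_hyp 1237356000 tc_eq 1327104 2048 ck_648 b (by omega) (by omega)
  rcases Nat.lt_or_ge b 1331200 with g1 | g1
  · exact chkURangeF_spec C relF_hyp 1237356000 tc_eq 1329152 2048 ck_649 b (by omega) (by omega)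
  rcases Nat.lt_or_ge b 1333248 with g2 | g2
  · exact chkURangeF_spec C relF_hyp 1237356000 tc_eq 1331200 2048 ck_650 b (by omega) (by omega)
  rcases Nat.lt_or_ge b 1335296 with g3 | g3
  · exact chkURangeF_spec C relF_hyp 1237356000 tc_eq 1333248 2048 ck_651 b (by omega) (by omega)
  rcases Nat.lt_or_ge b 1337344 with g4 | g4
  · exact chkURangeF_spec C relF_hyp 1237356000 tc_eq 1335296 2048 ck_652 b (by omega) (by omega)
  rcases Nat.lt_or_ge b 1339392 with g5 | g5
  · exact chkURangeF_spec C relF_hyp 1237356000 tc_eq 1337344 2048 ck_653 b (by omega) (by omega)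
  rcases Nat.lt_or_ge b 1341440 with g6 | g6
  · exact chkURangeF_spec C relF_hyp 1237356000 tc_eq 1339392 2048 ck_654 b (by omega) (by omega)
  rcases Nat.lt_or_ge b 1343488 with g7 | g7
  · exact chkURangeF_spec C relF_hyp 1237356000 tc_eq 1341440 2048 ck_655 b (by omega) (by omega)
  rcases Nat.lt_or_ge b 1345536 with g8 | g8
  · exact chkURangeF_spec C relF_hyp 1237356000 tc_eq 1343488 2048 ck_656 b (by omega) (by omega)
  rcases Nat.lt_or_ge b 1347584 with g9 | g9
  · exact chkURangeF_spec C relF_hyp 1237356000 tc_eq 1345536 2048 ck_657 b (by omega) (by omega)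
  rcases Nat.lt_or_ge b 1349632 with g10 | g10
  · exact chkURangeF_spec C relF_hyp 1237356000 tc_eq 1347584 2048 ck_658 b (by omega) (by omega)
  rcases Nat.lt_or_ge b 1351680 with g11 | g11
  · exact chkURangeF_spec C relF_hyp 1237356000 tc_eq 1349632 2048 ck_659 b (by omega) (by omega)
  rcases Nat.lt_or_ge b 1353728 with g12 | g12
  · exact chkURangeF_spec C relF_hyp 1237356000 tc_eq 1351680 2048 ck_660 b (by omega) (by omega)
  rcases Nat.lt_or_ge b 1355776 with g13 | g13
  · exact chkURangeF_spec C relF_hyp 1237356000 tc_eq 1353728 2048 ck_661 b (by omega) (by omega)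
  rcases Nat.lt_or_ge b 1357824 with g14 | g14
  · exact chkURangeF_spec C relF_hyp 1237356000 tc_eq 1355776 2048 ck_662 b (by omega) (by omega)
  rcases Nat.lt_or_ge b 1359872 with g15 | g15
  · exact chkURangeF_spec C relF_hyp 1237356000 tc_eq 1357824 2048 ck_663 b (by omega) (by omega)
  rcases Nat.lt_or_ge b 1361920 with g16 | g16
  · exact chkURangeF_spec C relF_hyp 1237356000 tc_eq 1359872 2048 ck_664 b (by omega) (by omega)
  rcases Nat.lt_or_ge b 1363968 with g17 | g17
  · exact chkURangeF_spec C relF_hyp 1237356000 tc_eq 1361920 2048 ck_665 b (by omega) (by omega)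
  rcases Nat.lt_or_ge b 1366016 with g18 | g18
  · exact chkURangeF_spec C relF_hyp 1237356000 tc_eq 1363968 2048 ck_666 b (by omega) (by omega)
  rcases Nat.lt_or_ge b 1368064 with g19 | g19
  · exact chkURangeF_spec C relF_hyp 1237356000 tc_eq 1366016 2048 ck_667 b (by omega) (by omega)
  rcases Nat.lt_or_ge b 1370112 with g20 | g20
  · exact chkURangeF_spec C relF_hyp 1237356000 tc_eq 1368064 2048 ck_668 b (by omega) (by omega)
  rcases Nat.lt_or_ge b 1372160 with g21 | g21
  · exact chkURangeF_spec C relF_hyp 1237356000 tc_eq 1370112 2048 ck_669 b (by omega) (by omega)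
  rcases Nat.lt_or_ge b 1374208 with g22 | g22
  · exact chkURangeF_spec C relF_hyp 1237356000 tc_eq 1372160 2048 ck_670 b (by omega) (by omega)
  exact chkURangeF_spec C relF_hyp 1237356000 tc_eq 1374208 2048 ck_671 b (by omega) (by omega)
end Cfsg.Agent.Lib.Helper2.HNMult.P5
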