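import Cfsg.Agent.Lib.Helper2.HNMult.P5.Cert
set_option autoImplicit false
set_option maxRecDepth 1000000
set_option Elab.async false
namespace Cfsg.Agent.Lib.Helper2.HNMult.P5
open Cfsg.Agent.Lib.Helper4.Sparse Cfsg.Agent.Lib.Helper2.SparseF
theorem ck_696 : chkURangeF D C relF 796 1237356000 1425408 2048 = true := by decide +kernel
theorem ck_697 : chkURangeF D C relF 796 1237356000 1427456 2048 = true := by decide +kernel
theorem ck_698 : chkURangeF D C relF 796 1237356000 1429504 2048 = true := by decide +kernel
theorem ck_699 : chkURangeF D C relF 796 1237356000 1431552 2048 = true := by decide +kernel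
theorem ck_700 : chkURangeF D C relF 796 1237356000 1433600 2048 = true := by decide +kernel
theorem ck_701 : chkURangeF D C relF 796 1237356000 1435648 2048 = true := by decide +kernel
theorem ck_702 : chkURangeF D C relF 796 1237356000 1437696 2048 = true := by decide +kernel
theorem ck_703 : chkURangeF D C relF 796 1237356000 1439744 2048 = true := by decide +kernel
theorem ck_704 : chkURangeF D C relF 796 1237356000 1441792 2048 = true := by decide +kernel
theorem ck_705 : chkURangeF D C relF 796 1237356000 1443840 2048 = true := by decide +kernel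
theorem ck_706 : chkURangeF D C relF 796 1237356000 1445888 2048 = true := by decide +kernel
theorem ck_707 : chkURangeF D C relF 796 1237356000 1447936 2048 = true := by decide +kernel
theorem ck_708 : chkURangeF D C relF 796 1237356000 1449984 2048 = true := by decide +kernel
theorem ck_709 : chkURangeF D C relF 796 1237356000 1452032 2048 = true := by decide +kernel
theorem ck_710 : chkURangeF D C relF 796 1237356000 1454080 2048 = true := by decide +kernel
theorem ck_711 : chkURangeF D C relF 796 1237356000 1456128 2048 = true := by decide +kernel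
theorem ck_712 : chkURangeF D C relF 796 1237356000 1458176 2048 = true := by decide +kernel
theorem ck_713 : chkURangeF D C relF 796 1237356000 1460224 2048 = true := by decide +kernel
theorem ck_714 : chkURangeF D C relF 796 1237356000 1462272 2048 = true := by decide +kernel
theorem ck_715 : chkURangeF D C relF 796 1237356000 1464320 2048 = true := by decide +kernel
theorem ck_716 : chkURangeF D C relF 796 1237356000 1466368 2048 = true := by decide +kernel
theorem ck_717 : chkURangeF D C relF 796 1237356000 1468416 2048 = true := by decide +kernel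
theorem ck_718 : chkURangeF D C relF 796 1237356000 1470464 2048 = true := by decide +kernel
theorem ck_719 : chkURangeF D C relF 796 1237356000 1472512 2048 = true := by decide +kernel
theorem chkU_29 (b : ℕ) (h1 : 1425408 ≤ b) (h2 : b < 1474560) : chkU D C b = true := by
  rcases Nat.lt_or_ge b 1427456 with g0 | g0
  · exact chkURangeF_spec C relF_hyp 1237356000 tc_eq 1425408 2048 ck_696 b (by omega) (by omega)
  rcases Nat.lt_or_ge b 1429504 with g1 | g1
  · exact chkURangeF_spec C relF_hyp 1237356000 tc_eq 1427456 2048 ck_697 b (by omega) (by omega)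
  rcases Nat.lt_or_ge b 1431552 with g2 | g2
  · exact chkURangeF_spec C relF_hyp 1237356000 tc_eq 1429504 2048 ck_698 b (by omega) (by omega)
  rcases Nat.lt_or_ge b 1433600 with g3 | g3
  · exact chkURangeF_spec C relF_hyp 1237356000 tc_eq 1431552 2048 ck_699 b (by omega) (by omega)
  rcases Nat.lt_or_ge b 1435648 with g4 | g4
  · exact chkURangeF_spec C relF_hyp 1237356000 tc_eq 1433600 2048 ck_700 b (by omega) (by omega)
  rcases Nat.lt_or_ge b 1437696 with g5 | g5
  · exact chkURangeF_spec C relF_hyp 1237356000 tc_eq 1435648 2048 ck_701 b (by omega) (by omega)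
  rcases Nat.lt_or_ge b 1439744 with g6 | g6
  · exact chkURangeF_spec C relF_hyp 1237356000 tc_eq 1437696 2048 ck_702 b (by omega) (by omega)
  rcases Nat.lt_or_ge b 1441792 with g7 | g7
  · exact chkURangeF_spec C relF_hyp 1237356000 tc_eq 1439744 2048 ck_703 b (by omega) (by omega)
  rcases Nat.lt_or_ge b 1443840 with g8 | g8
  · exact chkURangeF_spec C relF_hyp 1237356000 tc_eq 1441792 2048 ck_704 b (by omega) (by omega)
  rcases Nat.lt_or_ge b 1445888 with g9 | g9
  · exact chkURangeF_spec C relF_hyp 1237356000 tc_eq 1443840 2048 ck_705 b (by omega) (by omega)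
  rcases Nat.lt_or_ge b 1447936 with g10 | g10
  · exact chkURangeF_spec C relF_hyp 1237356000 tc_eq 1445888 2048 ck_706 b (by omega) (by omega)
  rcases Nat.lt_or_ge b 1449984 with g11 | g11
  · exact chkURangeF_spec C relF_hyp 1237356000 tc_eq 1447936 2048 ck_707 b (by omega) (by omega)
  rcases Nat.lt_or_ge b 1452032 with g12 | g12
  · exact chkURangeF_spec C relF_hyp 1237356000 tc_eq 1449984 2048 ck_708 b (by omega) (by omega)
  rcases Nat.lt_or_ge b 1454080 with g13 | g13
  · exact chkURangeF_spec C relF_hyp 1237356000 tc_eq 1452032 2048 ck_709 b (by omega) (by omega)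
  rcases Nat.lt_or_ge b 1456128 with g14 | g14
  · exact chkURangeF_spec C relF_hyp 1237356000 tc_eq 1454080 2048 ck_710 b (by omega) (by omega)
  rcases Nat.lt_or_ge b 1458176 with g15 | g15
  · exact chkURangeF_spec C relF_hyp 1237356000 tc_eq 1456128 2048 ck_711 b (by omega) (by omega)
  rcases Nat.lt_or_ge b 1460224 with g16 | g16
  · exact chkURangeF_spec C relF_hyp 1237356000 tc_eq 1458176 2048 ck_712 b (by omega) (by omega)
  rcases Nat.lt_or_ge b 1462272 with g17 | g17
  · exact chkURangeF_spec C relF_hyp 1237356000 tc_eq 1460224 2048 ck_713 b (by omega) (by omega)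
  rcases Nat.lt_or_ge b 1464320 with g18 | g18
  · exact chkURangeF_spec C relF_hyp 1237356000 tc_eq 1462272 2048 ck_714 b (by omega) (by omega)
  rcases Nat.lt_or_ge b 1466368 with g19 | g19
  · exact chkURangeF_spec C relF_hyp 1237356000 tc_eq 1464320 2048 ck_715 b (by omega) (by omega)
  rcases Nat.lt_or_ge b 1468416 with g20 | g20
  · exact chkURangeF_spec C relF_hyp 1237356000 tc_eq 1466368 2048 ck_716 b (by omega) (by omega)
  rcases Nat.lt_or_ge b 1470464 with g21 | g21
  · exact chkURangeF_spec C relF_hyp 1237356000 tc_eq 1468416 2048 ck_717 b (by omega) (by omega)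
  rcases Nat.lt_or_ge b 1472512 with g22 | g22
  · exact chkURangeF_spec C relF_hyp 1237356000 tc_eq 1470464 2048 ck_718 b (by omega) (by omega)
  exact chkURangeF_spec C relF_hyp 1237356000 tc_eq 1472512 2048 ck_719 b (by omega) (by omega)
end Cfsg.Agent.Lib.Helper2.HNMult.P5
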