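import Cfsg.Agent.Lib.Helper2.HNMult.P5.Cert
set_option autoImplicit false
set_option maxRecDepth 1000000
set_option Elab.async false
namespace Cfsg.Agent.Lib.Helper2.HNMult.P5
open Cfsg.Agent.Lib.Helper4.Sparse Cfsg.Agent.Lib.Helper2.SparseF
theorem ck_72 : chkURangeF D C relF 796 1237356000 147456 2048 = true := by decide +kernel
theorem ck_73 : chkURangeF D C relF 796 1237356000 149504 2048 = true := by decide +kernel
theorem ck_74 : chkURangeF D C relF 796 1237356000 151552 2048 = true := by decide +kernel
theorem ck_75 : chkURangeF D C relF 796 1237356000 153600 2048 = true := by decide +kernel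
theorem ck_76 : chkURangeF D C relF 796 1237356000 155648 2048 = true := by decide +kernel
theorem ck_77 : chkURangeF D C relF 796 1237356000 157696 2048 = true := by decide +kernel
theorem ck_78 : chkURangeF D C relF 796 1237356000 159744 2048 = true := by decide +kernel
theorem ck_79 : chkURangeF D C relF 796 1237356000 161792 2048 = true := by decide +kernel
theorem ck_80 : chkURangeF D C relF 796 1237356000 163840 2048 = true := by decide +kernel
theorem ck_81 : chkURangeF D C relF 796 1237356000 165888 2048 = true := by decide +kernel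
theorem ck_82 : chkURangeF D C relF 796 1237356000 167936 2048 = true := by decide +kernel
theorem ck_83 : chkURangeF D C relF 796 1237356000 169984 2048 = true := by decide +kernel
theorem ck_84 : chkURangeF D C relF 796 1237356000 172032 2048 = true := by decide +kernel
theorem ck_85 : chkURangeF D C relF 796 1237356000 174080 2048 = true := by decide +kernel
theorem ck_86 : chkURangeF D C relF 796 1237356000 176128 2048 = true := by decide +kernel
theorem ck_87 : chkURangeF D C relF 796 1237356000 178176 2048 = true := by decide +kernel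
theorem ck_88 : chkURangeF D C relF 796 1237356000 180224 2048 = true := by decide +kernel
theorem ck_89 : chkURangeF D C relF 796 1237356000 182272 2048 = true := by decide +kernel
theorem ck_90 : chkURangeF D C relF 796 1237356000 184320 2048 = true := by decide +kernel
theorem ck_91 : chkURangeF D C relF 796 1237356000 186368 2048 = true := by decide +kernel
theorem ck_92 : chkURangeF D C relF 796 1237356000 188416 2048 = true := by decide +kernel
theorem ck_93 : chkURangeF D C relF 796 1237356000 190464 2048 = true := by decide +kernel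
theorem ck_94 : chkURangeF D C relF 796 1237356000 192512 2048 = true := by decide +kernel
theorem ck_95 : chkURangeF D C relF 796 1237356000 194560 2048 = true := by decide +kernel
theorem chkU_3 (b : ℕ) (h1 : 147456 ≤ b) (h2 : b < 196608) : chkU D C b = true := by
  rcases Nat.lt_or_ge b 149504 with g0 | g0
  · exact chkURangeF_spec C relF_hyp 1237356000 tc_eq 147456 2048 ck_72 b (by omega) (by omega)
  rcases Nat.lt_or_ge b 151552 with g1 | g1
  · exact chkURangeF_spec C relF_hyp 1237356000 tc_eq 149504 2048 ck_73 b (by omega) (by omega)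
  rcases Nat.lt_or_ge b 153600 with g2 | g2
  · exact chkURangeF_spec C relF_hyp 1237356000 tc_eq 151552 2048 ck_74 b (by omega) (by omega)
  rcases Nat.lt_or_ge b 155648 with g3 | g3
  · exact chkURangeF_spec C relF_hyp 1237356000 tc_eq 153600 2048 ck_75 b (by omega) (by omega)
  rcases Nat.lt_or_ge b 157696 with g4 | g4
  · exact chkURangeF_spec C relF_hyp 1237356000 tc_eq 155648 2048 ck_76 b (by omega) (by omega)
  rcases Nat.lt_or_ge b 159744 with g5 | g5
  · exact chkURangeF_spec C relF_hyp 1237356000 tc_eq 157696 2048 ck_77 b (by omega) (by omega)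
  rcases Nat.lt_or_ge b 161792 with g6 | g6
  · exact chkURangeF_spec C relF_hyp 1237356000 tc_eq 159744 2048 ck_78 b (by omega) (by omega)
  rcases Nat.lt_or_ge b 163840 with g7 | g7
  · exact chkURangeF_spec C relF_hyp 1237356000 tc_eq 161792 2048 ck_79 b (by omega) (by omega)
  rcases Nat.lt_or_ge b 165888 with g8 | g8
  · exact chkURangeF_spec C relF_hyp 1237356000 tc_eq 163840 2048 ck_80 b (by omega) (by omega)
  rcases Nat.lt_or_ge b 167936 with g9 | g9
  · exact chkURangeF_spec C relF_hyp 1237356000 tc_eq 165888 2048 ck_81 b (by omega) (by omega)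
  rcases Nat.lt_or_ge b 169984 with g10 | g10
  · exact chkURangeF_spec C relF_hyp 1237356000 tc_eq 167936 2048 ck_82 b (by omega) (by omega)
  rcases Nat.lt_or_ge b 172032 with g11 | g11
  · exact chkURangeF_spec C relF_hyp 1237356000 tc_eq 169984 2048 ck_83 b (by omega) (by omega)
  rcases Nat.lt_or_ge b 174080 with g12 | g12
  · exact chkURangeF_spec C relF_hyp 1237356000 tc_eq 172032 2048 ck_84 b (by omega) (by omega)
  rcases Nat.lt_or_ge b 176128 with g13 | g13
  · exact chkURangeF_spec C relF_hyp 1237356000 tc_eq 174080 2048 ck_85 b (by omega) (by omega)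
  rcases Nat.lt_or_ge b 178176 with g14 | g14
  · exact chkURangeF_spec C relF_hyp 1237356000 tc_eq 176128 2048 ck_86 b (by omega) (by omega)
  rcases Nat.lt_or_ge b 180224 with g15 | g15
  · exact chkURangeF_spec C relF_hyp 1237356000 tc_eq 178176 2048 ck_87 b (by omega) (by omega)
  rcases Nat.lt_or_ge b 182272 with g16 | g16
  · exact chkURangeF_spec C relF_hyp 1237356000 tc_eq 180224 2048 ck_88 b (by omega) (by omega)
  rcases Nat.lt_or_ge b 184320 with g17 | g17
  · exact chkURangeF_spec C relF_hyp 1237356000 tc_eq 182272 2048 ck_89 b (by omega) (by omega)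
  rcases Nat.lt_or_ge b 186368 with g18 | g18
  · exact chkURangeF_spec C relF_hyp 1237356000 tc_eq 184320 2048 ck_90 b (by omega) (by omega)
  rcases Nat.lt_or_ge b 188416 with g19 | g19
  · exact chkURangeF_spec C relF_hyp 1237356000 tc_eq 186368 2048 ck_91 b (by omega) (by omega)
  rcases Nat.lt_or_ge b 190464 with g20 | g20
  · exact chkURangeF_spec C relF_hyp 1237356000 tc_eq 188416 2048 ck_92 b (by omega) (by omega)
  rcases Nat.lt_or_ge b 192512 with g21 | g21
  · exact chkURangeF_spec C relF_hyp 1237356000 tc_eq 190464 2048 ck_93 b (by omega) (by omega)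
  rcases Nat.lt_or_ge b 194560 with g22 | g22
  · exact chkURangeF_spec C relF_hyp 1237356000 tc_eq 192512 2048 ck_94 b (by omega) (by omega)
  exact chkURangeF_spec C relF_hyp 1237356000 tc_eq 194560 2048 ck_95 b (by omega) (by omega)
end Cfsg.Agent.Lib.Helper2.HNMult.P5
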