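import Cfsg.Agent.Lib.Helper2.HNMult.P5.Cert
set_option autoImplicit false
set_option maxRecDepth 1000000
set_option Elab.async false
namespace Cfsg.Agent.Lib.Helper2.HNMult.P5
open Cfsg.Agent.Lib.Helper4.Sparse Cfsg.Agent.Lib.Helper2.SparseF
theorem ck_816 : chkURangeF D C relF 796 1237356000 1671168 2048 = true := by decide +kernel
theorem ck_817 : chkURangeF D C relF 796 1237356000 1673216 2048 = true := by decide +kernel
theorem ck_818 : chkURangeF D C relF 796 1237356000 1675264 2048 = true := by decide +kernel
theorem ck_819 : chkURangeF D C relF 796 1237356000 1677312 2048 = true := by decide +kernel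
theorem ck_820 : chkURangeF D C relF 796 1237356000 1679360 2048 = true := by decide +kernel
theorem ck_821 : chkURangeF D C relF 796 1237356000 1681408 2048 = true := by decide +kernel
theorem ck_822 : chkURangeF D C relF 796 1237356000 1683456 2048 = true := by decide +kernel
theorem ck_823 : chkURangeF D C relF 796 1237356000 1685504 2048 = true := by decide +kernel
theorem ck_824 : chkURangeF D C relF 796 1237356000 1687552 2048 = true := by decide +kernel
theorem ck_825 : chkURangeF D C relF 796 1237356000 1689600 2048 = true := by decide +kernel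
theorem ck_826 : chkURangeF D C relF 796 1237356000 1691648 2048 = true := by decide +kernel
theorem ck_827 : chkURangeF D C relF 796 1237356000 1693696 2048 = true := by decide +kernel
theorem ck_828 : chkURangeF D C relF 796 1237356000 1695744 2048 = true := by decide +kernel
theorem ck_829 : chkURangeF D C relF 796 1237356000 1697792 2048 = true := by decide +kernel
theorem ck_830 : chkURangeF D C relF 796 1237356000 1699840 2048 = true := by decide +kernel
theorem ck_831 : chkURangeF D C relF 796 1237356000 1701888 2048 = true := by decide +kernel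
theorem ck_832 : chkURangeF D C relF 796 1237356000 1703936 2048 = true := by decide +kernel
theorem ck_833 : chkURangeF D C relF 796 1237356000 1705984 2048 = true := by decide +kernel
theorem ck_834 : chkURangeF D C relF 796 1237356000 1708032 2048 = true := by decide +kernel
theorem ck_835 : chkURangeF D C relF 796 1237356000 1710080 2048 = true := by decide +kernel
theorem ck_836 : chkURangeF D C relF 796 1237356000 1712128 2048 = true := by decide +kernel
theorem ck_837 : chkURangeF D C relF 796 1237356000 1714176 2048 = true := by decide +kernel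
theorem ck_838 : chkURangeF D C relF 796 1237356000 1716224 2048 = true := by decide +kernel
theorem ck_839 : chkURangeF D C relF 796 1237356000 1718272 2048 = true := by decide +kernel
theorem chkU_34 (b : ℕ) (h1 : 1671168 ≤ b) (h2 : b < 1720320) : chkU D C b = true := by
  rcases Nat.lt_or_ge b 1673216 with g0 | g0
  · exact chkURangeF_spec C relF_hyp 1237356000 tc_eq 1671168 2048 ck_816 b (by omega) (by omega)
  rcases Nat.lt_or_ge b 1675264 with g1 | g1
  · exact chkURangeF_spec C relF_hyp 1237356000 tc_eq 1673216 2048 ck_817 b (by omega) (by omega)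
  rcases Nat.lt_or_ge b 1677312 with g2 | g2
  · exact chkURangeF_spec C relF_hyp 1237356000 tc_eq 1675264 2048 ck_818 b (by omega) (by omega)
  rcases Nat.lt_or_ge b 1679360 with g3 | g3
  · exact chkURangeF_spec C relF_hyp 1237356000 tc_eq 1677312 2048 ck_819 b (by omega) (by omega)
  rcases Nat.lt_or_ge b 1681408 with g4 | g4
  · exact chkURangeF_spec C relF_hyp 1237356000 tc_eq 1679360 2048 ck_820 b (by omega) (by omega)
  rcases Nat.lt_or_ge b 1683456 with g5 | g5
  · exact chkURangeF_spec C relF_hyp 1237356000 tc_eq 1681408 2048 ck_821 b (by omega) (by omega)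
  rcases Nat.lt_or_ge b 1685504 with g6 | g6
  · exact chkURangeF_spec C relF_hyp 1237356000 tc_eq 1683456 2048 ck_822 b (by omega) (by omega)
  rcases Nat.lt_or_ge b 1687552 with g7 | g7
  · exact chkURangeF_spec C relF_hyp 1237356000 tc_eq 1685504 2048 ck_823 b (by omega) (by omega)
  rcases Nat.lt_or_ge b 1689600 with g8 | g8
  · exact chkURangeF_spec C relF_hyp 1237356000 tc_eq 1687552 2048 ck_824 b (by omega) (by omega)
  rcases Nat.lt_or_ge b 1691648 with g9 | g9
  · exact chkURangeF_spec C relF_hyp 1237356000 tc_eq 1689600 2048 ck_825 b (by omega) (by omega)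
  rcases Nat.lt_or_ge b 1693696 with g10 | g10
  · exact chkURangeF_spec C relF_hyp 1237356000 tc_eq 1691648 2048 ck_826 b (by omega) (by omega)
  rcases Nat.lt_or_ge b 1695744 with g11 | g11
  · exact chkURangeF_spec C relF_hyp 1237356000 tc_eq 1693696 2048 ck_827 b (by omega) (by omega)
  rcases Nat.lt_or_ge b 1697792 with g12 | g12
  · exact chkURangeF_spec C relF_hyp 1237356000 tc_eq 1695744 2048 ck_828 b (by omega) (by omega)
  rcases Nat.lt_or_ge b 1699840 with g13 | g13
  · exact chkURangeF_spec C relF_hyp 1237356000 tc_eq 1697792 2048 ck_829 b (by omega) (by omega)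
  rcases Nat.lt_or_ge b 1701888 with g14 | g14
  · exact chkURangeF_spec C relF_hyp 1237356000 tc_eq 1699840 2048 ck_830 b (by omega) (by omega)
  rcases Nat.lt_or_ge b 1703936 with g15 | g15
  · exact chkURangeF_spec C relF_hyp 1237356000 tc_eq 1701888 2048 ck_831 b (by omega) (by omega)
  rcases Nat.lt_or_ge b 1705984 with g16 | g16
  · exact chkURangeF_spec C relF_hyp 1237356000 tc_eq 1703936 2048 ck_832 b (by omega) (by omega)
  rcases Nat.lt_or_ge b 1708032 with g17 | g17
  · exact chkURangeF_spec C relF_hyp 1237356000 tc_eq 1705984 2048 ck_833 b (by omega) (by omega)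
  rcases Nat.lt_or_ge b 1710080 with g18 | g18
  · exact chkURangeF_spec C relF_hyp 1237356000 tc_eq 1708032 2048 ck_834 b (by omega) (by omega)
  rcases Nat.lt_or_ge b 1712128 with g19 | g19
  · exact chkURangeF_spec C relF_hyp 1237356000 tc_eq 1710080 2048 ck_835 b (by omega) (by omega)
  rcases Nat.lt_or_ge b 1714176 with g20 | g20
  · exact chkURangeF_spec C relF_hyp 1237356000 tc_eq 1712128 2048 ck_836 b (by omega) (by omega)
  rcases Nat.lt_or_ge b 1716224 with g21 | g21
  · exact chkURangeF_spec C relF_hyp 1237356000 tc_eq 1714176 2048 ck_837 b (by omega) (by omega)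
  rcases Nat.lt_or_ge b 1718272 with g22 | g22
  · exact chkURangeF_spec C relF_hyp 1237356000 tc_eq 1716224 2048 ck_838 b (by omega) (by omega)
  exact chkURangeF_spec C relF_hyp 1237356000 tc_eq 1718272 2048 ck_839 b (by omega) (by omega)
end Cfsg.Agent.Lib.Helper2.HNMult.P5
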