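import Cfsg.Agent.Lib.Helper2.HNMult.P5.Cert
set_option autoImplicit false
set_option maxRecDepth 1000000
set_option Elab.async false
namespace Cfsg.Agent.Lib.Helper2.HNMult.P5
open Cfsg.Agent.Lib.Helper4.Sparse Cfsg.Agent.Lib.Helper2.SparseF
theorem ck_912 : chkURangeF D C relF 796 1237356000 1867776 2048 = true := by decide +kernel
theorem ck_913 : chkURangeF D C relF 796 1237356000 1869824 2048 = true := by decide +kernel
theorem ck_914 : chkURangeF D C relF 796 1237356000 1871872 2048 = true := by decide +kernel
theorem ck_915 : chkURangeF D C relF 796 1237356000 1873920 2048 = true := by decide +kernel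
theorem ck_916 : chkURangeF D C relF 796 1237356000 1875968 2048 = true := by decide +kernel
theorem ck_917 : chkURangeF D C relF 796 1237356000 1878016 2048 = true := by decide +kernel
theorem ck_918 : chkURangeF D C relF 796 1237356000 1880064 2048 = true := by decide +kernel
theorem ck_919 : chkURangeF D C relF 796 1237356000 1882112 2048 = true := by decide +kernel
theorem ck_920 : chkURangeF D C relF 796 1237356000 1884160 2048 = true := by decide +kernel
theorem ck_921 : chkURangeF D C relF 796 1237356000 1886208 2048 = true := by decide +kernel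
theorem ck_922 : chkURangeF D C relF 796 1237356000 1888256 2048 = true := by decide +kernel
theorem ck_923 : chkURangeF D C relF 796 1237356000 1890304 2048 = true := by decide +kernel
theorem ck_924 : chkURangeF D C relF 796 1237356000 1892352 2048 = true := by decide +kernel
theorem ck_925 : chkURangeF D C relF 796 1237356000 1894400 2048 = true := by decide +kernel
theorem ck_926 : chkURangeF D C relF 796 1237356000 1896448 2048 = true := by decide +kernel
theorem ck_927 : chkURangeF D C relF 796 1237356000 1898496 2048 = true := by decide +kernel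
theorem ck_928 : chkURangeF D C relF 796 1237356000 1900544 2048 = true := by decide +kernel
theorem ck_929 : chkURangeF D C relF 796 1237356000 1902592 2048 = true := by decide +kernel
theorem ck_930 : chkURangeF D C relF 796 1237356000 1904640 2048 = true := by decide +kernel
theorem ck_931 : chkURangeF D C relF 796 1237356000 1906688 2048 = true := by decide +kernel
theorem ck_932 : chkURangeF D C relF 796 1237356000 1908736 2048 = true := by decide +kernel
theorem ck_933 : chkURangeF D C relF 796 1237356000 1910784 2048 = true := by decide +kernel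
theorem ck_934 : chkURangeF D C relF 796 1237356000 1912832 2048 = true := by decide +kernel
theorem ck_935 : chkURangeF D C relF 796 1237356000 1914880 2048 = true := by decide +kernel
theorem chkU_38 (b : ℕ) (h1 : 1867776 ≤ b) (h2 : b < 1916928) : chkU D C b = true := by
  rcases Nat.lt_or_ge b 1869824 with g0 | g0
  · exact chkURangeF_spec C relF_hyp 1237356000 tc_eq 1867776 2048 ck_912 b (by omega) (by omega)
  rcases Nat.lt_or_ge b 1871872 with g1 | g1
  · exact chkURangeF_spec C relF_hyp 1237356000 tc_eq 1869824 2048 ck_913 b (by omega) (by omega)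
  rcases Nat.lt_or_ge b 1873920 with g2 | g2
  · exact chkURangeF_spec C relF_hyp 1237356000 tc_eq 1871872 2048 ck_914 b (by omega) (by omega)
  rcases Nat.lt_or_ge b 1875968 with g3 | g3
  · exact chkURangeF_spec C relF_hyp 1237356000 tc_eq 1873920 2048 ck_915 b (by omega) (by omega)
  rcases Nat.lt_or_ge b 1878016 with g4 | g4
  · exact chkURangeF_spec C relF_hyp 1237356000 tc_eq 1875968 2048 ck_916 b (by omega) (by omega)
  rcases Nat.lt_or_ge b 1880064 with g5 | g5
  · exact chkURangeF_spec C relF_hyp 1237356000 tc_eq 1878016 2048 ck_917 b (by omega) (by omega)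
  rcases Nat.lt_or_ge b 1882112 with g6 | g6
  · exact chkURangeF_spec C relF_hyp 1237356000 tc_eq 1880064 2048 ck_918 b (by omega) (by omega)
  rcases Nat.lt_or_ge b 1884160 with g7 | g7
  · exact chkURangeF_spec C relF_hyp 1237356000 tc_eq 1882112 2048 ck_919 b (by omega) (by omega)
  rcases Nat.lt_or_ge b 1886208 with g8 | g8
  · exact chkURangeF_spec C relF_hyp 1237356000 tc_eq 1884160 2048 ck_920 b (by omega) (by omega)
  rcases Nat.lt_or_ge b 1888256 with g9 | g9
  · exact chkURangeF_spec C relF_hyp 1237356000 tc_eq 1886208 2048 ck_921 b (by omega) (by omega)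
  rcases Nat.lt_or_ge b 1890304 with g10 | g10
  · exact chkURangeF_spec C relF_hyp 1237356000 tc_eq 1888256 2048 ck_922 b (by omega) (by omega)
  rcases Nat.lt_or_ge b 1892352 with g11 | g11
  · exact chkURangeF_spec C relF_hyp 1237356000 tc_eq 1890304 2048 ck_923 b (by omega) (by omega)
  rcases Nat.lt_or_ge b 1894400 with g12 | g12
  · exact chkURangeF_spec C relF_hyp 1237356000 tc_eq 1892352 2048 ck_924 b (by omega) (by omega)
  rcases Nat.lt_or_ge b 1896448 with g13 | g13
  · exact chkURangeF_spec C relF_hyp 1237356000 tc_eq 1894400 2048 ck_925 b (by omega) (by omega)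
  rcases Nat.lt_or_ge b 1898496 with g14 | g14
  · exact chkURangeF_spec C relF_hyp 1237356000 tc_eq 1896448 2048 ck_926 b (by omega) (by omega)
  rcases Nat.lt_or_ge b 1900544 with g15 | g15
  · exact chkURangeF_spec C relF_hyp 1237356000 tc_eq 1898496 2048 ck_927 b (by omega) (by omega)
  rcases Nat.lt_or_ge b 1902592 with g16 | g16
  · exact chkURangeF_spec C relF_hyp 1237356000 tc_eq 1900544 2048 ck_928 b (by omega) (by omega)
  rcases Nat.lt_or_ge b 1904640 with g17 | g17
  · exact chkURangeF_spec C relF_hyp 1237356000 tc_eq 1902592 2048 ck_929 b (by omega) (by omega)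
  rcases Nat.lt_or_ge b 1906688 with g18 | g18
  · exact chkURangeF_spec C relF_hyp 1237356000 tc_eq 1904640 2048 ck_930 b (by omega) (by omega)
  rcases Nat.lt_or_ge b 1908736 with g19 | g19
  · exact chkURangeF_spec C relF_hyp 1237356000 tc_eq 1906688 2048 ck_931 b (by omega) (by omega)
  rcases Nat.lt_or_ge b 1910784 with g20 | g20
  · exact chkURangeF_spec C relF_hyp 1237356000 tc_eq 1908736 2048 ck_932 b (by omega) (by omega)
  rcases Nat.lt_or_ge b 1912832 with g21 | g21
  · exact chkURangeF_spec C relF_hyp 1237356000 tc_eq 1910784 2048 ck_933 b (by omega) (by omega)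
  rcases Nat.lt_or_ge b 1914880 with g22 | g22
  · exact chkURangeF_spec C relF_hyp 1237356000 tc_eq 1912832 2048 ck_934 b (by omega) (by omega)
  exact chkURangeF_spec C relF_hyp 1237356000 tc_eq 1914880 2048 ck_935 b (by omega) (by omega)
end Cfsg.Agent.Lib.Helper2.HNMult.P5
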