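import Cfsg.Agent.Lib.Helper2.HNMult.P5.Cert
set_option autoImplicit false
set_option maxRecDepth 1000000
set_option Elab.async false
namespace Cfsg.Agent.Lib.Helper2.HNMult.P5
open Cfsg.Agent.Lib.Helper4.Sparse Cfsg.Agent.Lib.Helper2.SparseF
theorem ck_96 : chkURangeF D C relF 796 1237356000 196608 2048 = true := by decide +kernel
theorem ck_97 : chkURangeF D C relF 796 1237356000 198656 2048 = true := by decide +kernel
theorem ck_98 : chkURangeF D C relF 796 1237356000 200704 2048 = true := by decide +kernel
theorem ck_99 : chkURangeF D C relF 796 1237356000 202752 2048 = true := by decide +kernel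
theorem ck_100 : chkURangeF D C relF 796 1237356000 204800 2048 = true := by decide +kernel
theorem ck_101 : chkURangeF D C relF 796 1237356000 206848 2048 = true := by decide +kernel
theorem ck_102 : chkURangeF D C relF 796 1237356000 208896 2048 = true := by decide +kernel
theorem ck_103 : chkURangeF D C relF 796 1237356000 210944 2048 = true := by decide +kernel
theorem ck_104 : chkURangeF D C relF 796 1237356000 212992 2048 = true := by decide +kernel
theorem ck_105 : chkURangeF D C relF 796 1237356000 215040 2048 = true := by decide +kernel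
theorem ck_106 : chkURangeF D C relF 796 1237356000 217088 2048 = true := by decide +kernel
theorem ck_107 : chkURangeF D C relF 796 1237356000 219136 2048 = true := by decide +kernel
theorem ck_108 : chkURangeF D C relF 796 1237356000 221184 2048 = true := by decide +kernel
theorem ck_109 : chkURangeF D C relF 796 1237356000 223232 2048 = true := by decide +kernel
theorem ck_110 : chkURangeF D C relF 796 1237356000 225280 2048 = true := by decide +kernel
theorem ck_111 : chkURangeF D C relF 796 1237356000 227328 2048 = true := by decide +kernel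
theorem ck_112 : chkURangeF D C relF 796 1237356000 229376 2048 = true := by decide +kernel
theorem ck_113 : chkURangeF D C relF 796 1237356000 231424 2048 = true := by decide +kernel
theorem ck_114 : chkURangeF D C relF 796 1237356000 233472 2048 = true := by decide +kernel
theorem ck_115 : chkURangeF D C relF 796 1237356000 235520 2048 = true := by decide +kernel
theorem ck_116 : chkURangeF D C relF 796 1237356000 237568 2048 = true := by decide +kernel
theorem ck_117 : chkURangeF D C relF 796 1237356000 239616 2048 = true := by decide +kernel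
theorem ck_118 : chkURangeF D C relF 796 1237356000 241664 2048 = true := by decide +kernel
theorem ck_119 : chkURangeF D C relF 796 1237356000 243712 2048 = true := by decide +kernel
theorem chkU_4 (b : ℕ) (h1 : 196608 ≤ b) (h2 : b < 245760) : chkU D C b = true := by
  rcases Nat.lt_or_ge b 198656 with g0 | g0
  · exact chkURangeF_spec C relF_hyp 1237356000 tc_eq 196608 2048 ck_96 b (by omega) (by omega)
  rcases Nat.lt_or_ge b 200704 with g1 | g1
  · exact chkURangeF_spec C relF_hyp 1237356000 tc_eq 198656 2048 ck_97 b (by omega) (by omega)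
  rcases Nat.lt_or_ge b 202752 with g2 | g2
  · exact chkURangeF_spec C relF_hyp 1237356000 tc_eq 200704 2048 ck_98 b (by omega) (by omega)
  rcases Nat.lt_or_ge b 204800 with g3 | g3
  · exact chkURangeF_spec C relF_hyp 1237356000 tc_eq 202752 2048 ck_99 b (by omega) (by omega)
  rcases Nat.lt_or_ge b 206848 with g4 | g4
  · exact chkURangeF_spec C relF_hyp 1237356000 tc_eq 204800 2048 ck_100 b (by omega) (by omega)
  rcases Nat.lt_or_ge b 208896 with g5 | g5
  · exact chkURangeF_spec C relF_hyp 1237356000 tc_eq 206848 2048 ck_101 b (by omega) (by omega)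
  rcases Nat.lt_or_ge b 210944 with g6 | g6
  · exact chkURangeF_spec C relF_hyp 1237356000 tc_eq 208896 2048 ck_102 b (by omega) (by omega)
  rcases Nat.lt_or_ge b 212992 with g7 | g7
  · exact chkURangeF_spec C relF_hyp 1237356000 tc_eq 210944 2048 ck_103 b (by omega) (by omega)
  rcases Nat.lt_or_ge b 215040 with g8 | g8
  · exact chkURangeF_spec C relF_hyp 1237356000 tc_eq 212992 2048 ck_104 b (by omega) (by omega)
  rcases Nat.lt_or_ge b 217088 with g9 | g9
  · exact chkURangeF_spec C relF_hyp 1237356000 tc_eq 215040 2048 ck_105 b (by omega) (by omega)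
  rcases Nat.lt_or_ge b 219136 with g10 | g10
  · exact chkURangeF_spec C relF_hyp 1237356000 tc_eq 217088 2048 ck_106 b (by omega) (by omega)
  rcases Nat.lt_or_ge b 221184 with g11 | g11
  · exact chkURangeF_spec C relF_hyp 1237356000 tc_eq 219136 2048 ck_107 b (by omega) (by omega)
  rcases Nat.lt_or_ge b 223232 with g12 | g12
  · exact chkURangeF_spec C relF_hyp 1237356000 tc_eq 221184 2048 ck_108 b (by omega) (by omega)
  rcases Nat.lt_or_ge b 225280 with g13 | g13
  · exact chkURangeF_spec C relF_hyp 1237356000 tc_eq 223232 2048 ck_109 b (by omega) (by omega)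
  rcases Nat.lt_or_ge b 227328 with g14 | g14
  · exact chkURangeF_spec C relF_hyp 1237356000 tc_eq 225280 2048 ck_110 b (by omega) (by omega)
  rcases Nat.lt_or_ge b 229376 with g15 | g15
  · exact chkURangeF_spec C relF_hyp 1237356000 tc_eq 227328 2048 ck_111 b (by omega) (by omega)
  rcases Nat.lt_or_ge b 231424 with g16 | g16
  · exact chkURangeF_spec C relF_hyp 1237356000 tc_eq 229376 2048 ck_112 b (by omega) (by omega)
  rcases Nat.lt_or_ge b 233472 with g17 | g17
  · exact chkURangeF_spec C relF_hyp 1237356000 tc_eq 231424 2048 ck_113 b (by omega) (by omega)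
  rcases Nat.lt_or_ge b 235520 with g18 | g18
  · exact chkURangeF_spec C relF_hyp 1237356000 tc_eq 233472 2048 ck_114 b (by omega) (by omega)
  rcases Nat.lt_or_ge b 237568 with g19 | g19
  · exact chkURangeF_spec C relF_hyp 1237356000 tc_eq 235520 2048 ck_115 b (by omega) (by omega)
  rcases Nat.lt_or_ge b 239616 with g20 | g20
  · exact chkURangeF_spec C relF_hyp 1237356000 tc_eq 237568 2048 ck_116 b (by omega) (by omega)
  rcases Nat.lt_or_ge b 241664 with g21 | g21
  · exact chkURangeF_spec C relF_hyp 1237356000 tc_eq 239616 2048 ck_117 b (by omega) (by omega)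
  rcases Nat.lt_or_ge b 243712 with g22 | g22
  · exact chkURangeF_spec C relF_hyp 1237356000 tc_eq 241664 2048 ck_118 b (by omega) (by omega)
  exact chkURangeF_spec C relF_hyp 1237356000 tc_eq 243712 2048 ck_119 b (by omega) (by omega)
end Cfsg.Agent.Lib.Helper2.HNMult.P5
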