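import Cfsg.Agent.Lib.Helper2.HNMult.P5.Cert
set_option autoImplicit false
set_option maxRecDepth 1000000
set_option Elab.async false
namespace Cfsg.Agent.Lib.Helper2.HNMult.P5
open Cfsg.Agent.Lib.Helper4.Sparse Cfsg.Agent.Lib.Helper2.SparseF
theorem ck_1008 : chkURangeF D C relF 796 1237356000 2064384 2048 = true := by decide +kernel
theorem ck_1009 : chkURangeF D C relF 796 1237356000 2066432 2048 = true := by decide +kernel
theorem ck_1010 : chkURangeF D C relF 796 1237356000 2068480 2048 = true := by decide +kernel
theorem ck_1011 : chkURangeF D C relF 796 1237356000 2070528 2048 = true := by decide +kernel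
theorem ck_1012 : chkURangeF D C relF 796 1237356000 2072576 2048 = true := by decide +kernel
theorem ck_1013 : chkURangeF D C relF 796 1237356000 2074624 2048 = true := by decide +kernel
theorem ck_1014 : chkURangeF D C relF 796 1237356000 2076672 2048 = true := by decide +kernel
theorem ck_1015 : chkURangeF D C relF 796 1237356000 2078720 2048 = true := by decide +kernel
theorem ck_1016 : chkURangeF D C relF 796 1237356000 2080768 2048 = true := by decide +kernel
theorem ck_1017 : chkURangeF D C relF 796 1237356000 2082816 2048 = true := by decide +kernel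
theorem ck_1018 : chkURangeF D C relF 796 1237356000 2084864 2048 = true := by decide +kernel
theorem ck_1019 : chkURangeF D C relF 796 1237356000 2086912 2048 = true := by decide +kernel
theorem ck_1020 : chkURangeF D C relF 796 1237356000 2088960 2048 = true := by decide +kernel
theorem ck_1021 : chkURangeF D C relF 796 1237356000 2091008 2048 = true := by decide +kernel
theorem ck_1022 : chkURangeF D C relF 796 1237356000 2093056 2048 = true := by decide +kernel
theorem ck_1023 : chkURangeF D C relF 796 1237356000 2095104 2048 = true := by decide +kernel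
theorem ck_1024 : chkURangeF D C relF 796 1237356000 2097152 2048 = true := by decide +kernel
theorem ck_1025 : chkURangeF D C relF 796 1237356000 2099200 2048 = true := by decide +kernel
theorem ck_1026 : chkURangeF D C relF 796 1237356000 2101248 2048 = true := by decide +kernel
theorem ck_1027 : chkURangeF D C relF 796 1237356000 2103296 2048 = true := by decide +kernel
theorem ck_1028 : chkURangeF D C relF 796 1237356000 2105344 2048 = true := by decide +kernel
theorem ck_1029 : chkURangeF D C relF 796 1237356000 2107392 2048 = true := by decide +kernel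
theorem ck_1030 : chkURangeF D C relF 796 1237356000 2109440 2048 = true := by decide +kernel
theorem ck_1031 : chkURangeF D C relF 796 1237356000 2111488 2048 = true := by decide +kernel
theorem chkU_42 (b : ℕ) (h1 : 2064384 ≤ b) (h2 : b < 2113536) : chkU D C b = true := by
  rcases Nat.lt_or_ge b 2066432 with g0 | g0
  · exact chkURangeF_spec C relF_hyp 1237356000 tc_eq 2064384 2048 ck_1008 b (by omega) (by omega)
  rcases Nat.lt_or_ge b 2068480 with g1 | g1
  · exact chkURangeF_spec C relF_hyp 1237356000 tc_eq 2066432 2048 ck_1009 b (by omega) (by omega)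
  rcases Nat.lt_or_ge b 2070528 with g2 | g2
  · exact chkURangeF_spec C relF_hyp 1237356000 tc_eq 2068480 2048 ck_1010 b (by omega) (by omega)
  rcases Nat.lt_or_ge b 2072576 with g3 | g3
  · exact chkURangeF_spec C relF_hyp 1237356000 tc_eq 2070528 2048 ck_1011 b (by omega) (by omega)
  rcases Nat.lt_or_ge b 2074624 with g4 | g4
  · exact chkURangeF_spec C relF_hyp 1237356000 tc_eq 2072576 2048 ck_1012 b (by omega) (by omega)
  rcases Nat.lt_or_ge b 2076672 with g5 | g5
  · exact chkURangeF_spec C relF_hyp 1237356000 tc_eq 2074624 2048 ck_1013 b (by omega) (by omega)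
  rcases Nat.lt_or_ge b 2078720 with g6 | g6
  · exact chkURangeF_spec C relF_hyp 1237356000 tc_eq 2076672 2048 ck_1014 b (by omega) (by omega)
  rcases Nat.lt_or_ge b 2080768 with g7 | g7
  · exact chkURangeF_spec C relF_hyp 1237356000 tc_eq 2078720 2048 ck_1015 b (by omega) (by omega)
  rcases Nat.lt_or_ge b 2082816 with g8 | g8
  · exact chkURangeF_spec C relF_hyp 1237356000 tc_eq 2080768 2048 ck_1016 b (by omega) (by omega)
  rcases Nat.lt_or_ge b 2084864 with g9 | g9
  · exact chkURangeF_spec C relF_hyp 1237356000 tc_eq 2082816 2048 ck_1017 b (by omega) (by omega)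
  rcases Nat.lt_or_ge b 2086912 with g10 | g10
  · exact chkURangeF_spec C relF_hyp 1237356000 tc_eq 2084864 2048 ck_1018 b (by omega) (by omega)
  rcases Nat.lt_or_ge b 2088960 with g11 | g11
  · exact chkURangeF_spec C relF_hyp 1237356000 tc_eq 2086912 2048 ck_1019 b (by omega) (by omega)
  rcases Nat.lt_or_ge b 2091008 with g12 | g12
  · exact chkURangeF_spec C relF_hyp 1237356000 tc_eq 2088960 2048 ck_1020 b (by omega) (by omega)
  rcases Nat.lt_or_ge b 2093056 with g13 | g13
  · exact chkURangeF_spec C relF_hyp 1237356000 tc_eq 2091008 2048 ck_1021 b (by omega) (by omega)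
  rcases Nat.lt_or_ge b 2095104 with g14 | g14
  · exact chkURangeF_spec C relF_hyp 1237356000 tc_eq 2093056 2048 ck_1022 b (by omega) (by omega)
  rcases Nat.lt_or_ge b 2097152 with g15 | g15
  · exact chkURangeF_spec C relF_hyp 1237356000 tc_eq 2095104 2048 ck_1023 b (by omega) (by omega)
  rcases Nat.lt_or_ge b 2099200 with g16 | g16
  · exact chkURangeF_spec C relF_hyp 1237356000 tc_eq 2097152 2048 ck_1024 b (by omega) (by omega)
  rcases Nat.lt_or_ge b 2101248 with g17 | g17
  · exact chkURangeF_spec C relF_hyp 1237356000 tc_eq 2099200 2048 ck_1025 b (by omega) (by omega)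
  rcases Nat.lt_or_ge b 2103296 with g18 | g18
  · exact chkURangeF_spec C relF_hyp 1237356000 tc_eq 2101248 2048 ck_1026 b (by omega) (by omega)
  rcases Nat.lt_or_ge b 2105344 with g19 | g19
  · exact chkURangeF_spec C relF_hyp 1237356000 tc_eq 2103296 2048 ck_1027 b (by omega) (by omega)
  rcases Nat.lt_or_ge b 2107392 with g20 | g20
  · exact chkURangeF_spec C relF_hyp 1237356000 tc_eq 2105344 2048 ck_1028 b (by omega) (by omega)
  rcases Nat.lt_or_ge b 2109440 with g21 | g21
  · exact chkURangeF_spec C relF_hyp 1237356000 tc_eq 2107392 2048 ck_1029 b (by omega) (by omega)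
  rcases Nat.lt_or_ge b 2111488 with g22 | g22
  · exact chkURangeF_spec C relF_hyp 1237356000 tc_eq 2109440 2048 ck_1030 b (by omega) (by omega)
  exact chkURangeF_spec C relF_hyp 1237356000 tc_eq 2111488 2048 ck_1031 b (by omega) (by omega)
end Cfsg.Agent.Lib.Helper2.HNMult.P5
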