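import Cfsg.Agent.Lib.Helper2.HNMult.P5.Cert
set_option autoImplicit false
set_option maxRecDepth 1000000
set_option Elab.async false
namespace Cfsg.Agent.Lib.Helper2.HNMult.P5
open Cfsg.Agent.Lib.Helper4.Sparse Cfsg.Agent.Lib.Helper2.SparseF
theorem ck_120 : chkURangeF D C relF 796 1237356000 245760 2048 = true := by decide +kernel
theorem ck_121 : chkURangeF D C relF 796 1237356000 247808 2048 = true := by decide +kernel
theorem ck_122 : chkURangeF D C relF 796 1237356000 249856 2048 = true := by decide +kernel
theorem ck_123 : chkURangeF D C relF 796 1237356000 251904 2048 = true := by decide +kernel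
theorem ck_124 : chkURangeF D C relF 796 1237356000 253952 2048 = true := by decide +kernel
theorem ck_125 : chkURangeF D C relF 796 1237356000 256000 2048 = true := by decide +kernel
theorem ck_126 : chkURangeF D C relF 796 1237356000 258048 2048 = true := by decide +kernel
theorem ck_127 : chkURangeF D C relF 796 1237356000 260096 2048 = true := by decide +kernel
theorem ck_128 : chkURangeF D C relF 796 1237356000 262144 2048 = true := by decide +kernel
theorem ck_129 : chkURangeF D C relF 796 1237356000 264192 2048 = true := by decide +kernel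
theorem ck_130 : chkURangeF D C relF 796 1237356000 266240 2048 = true := by decide +kernel
theorem ck_131 : chkURangeF D C relF 796 1237356000 268288 2048 = true := by decide +kernel
theorem ck_132 : chkURangeF D C relF 796 1237356000 270336 2048 = true := by decide +kernel
theorem ck_133 : chkURangeF D C relF 796 1237356000 272384 2048 = true := by decide +kernel
theorem ck_134 : chkURangeF D C relF 796 1237356000 274432 2048 = true := by decide +kernel
theorem ck_135 : chkURangeF D C relF 796 1237356000 276480 2048 = true := by decide +kernel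
theorem ck_136 : chkURangeF D C relF 796 1237356000 278528 2048 = true := by decide +kernel
theorem ck_137 : chkURangeF D C relF 796 1237356000 280576 2048 = true := by decide +kernel
theorem ck_138 : chkURangeF D C relF 796 1237356000 282624 2048 = true := by decide +kernel
theorem ck_139 : chkURangeF D C relF 796 1237356000 284672 2048 = true := by decide +kernel
theorem ck_140 : chkURangeF D C relF 796 1237356000 286720 2048 = true := by decide +kernel
theorem ck_141 : chkURangeF D C relF 796 1237356000 288768 2048 = true := by decide +kernel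
theorem ck_142 : chkURangeF D C relF 796 1237356000 290816 2048 = true := by decide +kernel
theorem ck_143 : chkURangeF D C relF 796 1237356000 292864 2048 = true := by decide +kernel
theorem chkU_5 (b : ℕ) (h1 : 245760 ≤ b) (h2 : b < 294912) : chkU D C b = true := by
  rcases Nat.lt_or_ge b 247808 with g0 | g0
  · exact chkURangeF_spec C relF_hyp 1237356000 tc_eq 245760 2048 ck_120 b (by omega) (by omega)
  rcases Nat.lt_or_ge b 249856 with g1 | g1
  · exact chkURangeF_spec C relF_hyp 1237356000 tc_eq 247808 2048 ck_121 b (by omega) (by omega)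
  rcases Nat.lt_or_ge b 251904 with g2 | g2
  · exact chkURangeF_spec C relF_hyp 1237356000 tc_eq 249856 2048 ck_122 b (by omega) (by omega)
  rcases Nat.lt_or_ge b 253952 with g3 | g3
  · exact chkURangeF_spec C relF_hyp 1237356000 tc_eq 251904 2048 ck_123 b (by omega) (by omega)
  rcases Nat.lt_or_ge b 256000 with g4 | g4
  · exact chkURangeF_spec C relF_hyp 1237356000 tc_eq 253952 2048 ck_124 b (by omega) (by omega)
  rcases Nat.lt_or_ge b 258048 with g5 | g5
  · exact chkURangeF_spec C relF_hyp 1237356000 tc_eq 256000 2048 ck_125 b (by omega) (by omega)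
  rcases Nat.lt_or_ge b 260096 with g6 | g6
  · exact chkURangeF_spec C relF_hyp 1237356000 tc_eq 258048 2048 ck_126 b (by omega) (by omega)
  rcases Nat.lt_or_ge b 262144 with g7 | g7
  · exact chkURangeF_spec C relF_hyp 1237356000 tc_eq 260096 2048 ck_127 b (by omega) (by omega)
  rcases Nat.lt_or_ge b 264192 with g8 | g8
  · exact chkURangeF_spec C relF_hyp 1237356000 tc_eq 262144 2048 ck_128 b (by omega) (by omega)
  rcases Nat.lt_or_ge b 266240 with g9 | g9
  · exact chkURangeF_spec C relF_hyp 1237356000 tc_eq 264192 2048 ck_129 b (by omega) (by omega)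
  rcases Nat.lt_or_ge b 268288 with g10 | g10
  · exact chkURangeF_spec C relF_hyp 1237356000 tc_eq 266240 2048 ck_130 b (by omega) (by omega)
  rcases Nat.lt_or_ge b 270336 with g11 | g11
  · exact chkURangeF_spec C relF_hyp 1237356000 tc_eq 268288 2048 ck_131 b (by omega) (by omega)
  rcases Nat.lt_or_ge b 272384 with g12 | g12
  · exact chkURangeF_spec C relF_hyp 1237356000 tc_eq 270336 2048 ck_132 b (by omega) (by omega)
  rcases Nat.lt_or_ge b 274432 with g13 | g13
  · exact chkURangeF_spec C relF_hyp 1237356000 tc_eq 272384 2048 ck_133 b (by omega) (by omega)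
  rcases Nat.lt_or_ge b 276480 with g14 | g14
  · exact chkURangeF_spec C relF_hyp 1237356000 tc_eq 274432 2048 ck_134 b (by omega) (by omega)
  rcases Nat.lt_or_ge b 278528 with g15 | g15
  · exact chkURangeF_spec C relF_hyp 1237356000 tc_eq 276480 2048 ck_135 b (by omega) (by omega)
  rcases Nat.lt_or_ge b 280576 with g16 | g16
  · exact chkURangeF_spec C relF_hyp 1237356000 tc_eq 278528 2048 ck_136 b (by omega) (by omega)
  rcases Nat.lt_or_ge b 282624 with g17 | g17
  · exact chkURangeF_spec C relF_hyp 1237356000 tc_eq 280576 2048 ck_137 b (by omega) (by omega)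
  rcases Nat.lt_or_ge b 284672 with g18 | g18
  · exact chkURangeF_spec C relF_hyp 1237356000 tc_eq 282624 2048 ck_138 b (by omega) (by omega)
  rcases Nat.lt_or_ge b 286720 with g19 | g19
  · exact chkURangeF_spec C relF_hyp 1237356000 tc_eq 284672 2048 ck_139 b (by omega) (by omega)
  rcases Nat.lt_or_ge b 288768 with g20 | g20
  · exact chkURangeF_spec C relF_hyp 1237356000 tc_eq 286720 2048 ck_140 b (by omega) (by omega)
  rcases Nat.lt_or_ge b 290816 with g21 | g21
  · exact chkURangeF_spec C relF_hyp 1237356000 tc_eq 288768 2048 ck_141 b (by omega) (by omega)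
  rcases Nat.lt_or_ge b 292864 with g22 | g22
  · exact chkURangeF_spec C relF_hyp 1237356000 tc_eq 290816 2048 ck_142 b (by omega) (by omega)
  exact chkURangeF_spec C relF_hyp 1237356000 tc_eq 292864 2048 ck_143 b (by omega) (by omega)
end Cfsg.Agent.Lib.Helper2.HNMult.P5
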