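import Cfsg.Agent.Lib.Helper2.HNMult.P5.Cert
set_option autoImplicit false
set_option maxRecDepth 1000000
set_option Elab.async false
namespace Cfsg.Agent.Lib.Helper2.HNMult.P5
open Cfsg.Agent.Lib.Helper4.Sparse Cfsg.Agent.Lib.Helper2.SparseF
theorem ck_1248 : chkURangeF D C relF 796 1237356000 2555904 2048 = true := by decide +kernel
theorem ck_1249 : chkURangeF D C relF 796 1237356000 2557952 2048 = true := by decide +kernel
theorem ck_1250 : chkURangeF D C relF 796 1237356000 2560000 2048 = true := by decide +kernel
theorem ck_1251 : chkURangeF D C relF 796 1237356000 2562048 2048 = true := by decide +kernel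
theorem ck_1252 : chkURangeF D C relF 796 1237356000 2564096 2048 = true := by decide +kernel
theorem ck_1253 : chkURangeF D C relF 796 1237356000 2566144 2048 = true := by decide +kernel
theorem ck_1254 : chkURangeF D C relF 796 1237356000 2568192 2048 = true := by decide +kernel
theorem ck_1255 : chkURangeF D C relF 796 1237356000 2570240 2048 = true := by decide +kernel
theorem ck_1256 : chkURangeF D C relF 796 1237356000 2572288 2048 = true := by decide +kernel
theorem ck_1257 : chkURangeF D C relF 796 1237356000 2574336 2048 = true := by decide +kernel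
theorem ck_1258 : chkURangeF D C relF 796 1237356000 2576384 2048 = true := by decide +kernel
theorem ck_1259 : chkURangeF D C relF 796 1237356000 2578432 2048 = true := by decide +kernel
theorem ck_1260 : chkURangeF D C relF 796 1237356000 2580480 2048 = true := by decide +kernel
theorem ck_1261 : chkURangeF D C relF 796 1237356000 2582528 2048 = true := by decide +kernel
theorem ck_1262 : chkURangeF D C relF 796 1237356000 2584576 2048 = true := by decide +kernel
theorem ck_1263 : chkURangeF D C relF 796 1237356000 2586624 2048 = true := by decide +kernel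
theorem ck_1264 : chkURangeF D C relF 796 1237356000 2588672 2048 = true := by decide +kernel
theorem ck_1265 : chkURangeF D C relF 796 1237356000 2590720 2048 = true := by decide +kernel
theorem ck_1266 : chkURangeF D C relF 796 1237356000 2592768 2048 = true := by decide +kernel
theorem ck_1267 : chkURangeF D C relF 796 1237356000 2594816 2048 = true := by decide +kernel
theorem ck_1268 : chkURangeF D C relF 796 1237356000 2596864 2048 = true := by decide +kernel
theorem ck_1269 : chkURangeF D C relF 796 1237356000 2598912 2048 = true := by decide +kernel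
theorem ck_1270 : chkURangeF D C relF 796 1237356000 2600960 2048 = true := by decide +kernel
theorem ck_1271 : chkURangeF D C relF 796 1237356000 2603008 2048 = true := by decide +kernel
theorem chkU_52 (b : ℕ) (h1 : 2555904 ≤ b) (h2 : b < 2605056) : chkU D C b = true := by
  rcases Nat.lt_or_ge b 2557952 with g0 | g0
  · exact chkURangeF_spec C relF_hyp 1237356000 tc_eq 2555904 2048 ck_1248 b (by omega) (by omega)
  rcases Nat.lt_or_ge b 2560000 with g1 | g1
  · exact chkURangeF_spec C relF_hyp 1237356000 tc_eq 2557952 2048 ck_1249 b (by omega) (by omega)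
  rcases Nat.lt_or_ge b 2562048 with g2 | g2
  · exact chkURangeF_spec C relF_hyp 1237356000 tc_eq 2560000 2048 ck_1250 b (by omega) (by omega)
  rcases Nat.lt_or_ge b 2564096 with g3 | g3
  · exact chkURangeF_spec C relF_hyp 1237356000 tc_eq 2562048 2048 ck_1251 b (by omega) (by omega)
  rcases Nat.lt_or_ge b 2566144 with g4 | g4
  · exact chkURangeF_spec C relF_hyp 1237356000 tc_eq 2564096 2048 ck_1252 b (by omega) (by omega)
  rcases Nat.lt_or_ge b 2568192 with g5 | g5
  · exact chkURangeF_spec C relF_hyp 1237356000 tc_eq 2566144 2048 ck_1253 b (by omega) (by omega)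
  rcases Nat.lt_or_ge b 2570240 with g6 | g6
  · exact chkURangeF_spec C relF_hyp 1237356000 tc_eq 2568192 2048 ck_1254 b (by omega) (by omega)
  rcases Nat.lt_or_ge b 2572288 with g7 | g7
  · exact chkURangeF_spec C relF_hyp 1237356000 tc_eq 2570240 2048 ck_1255 b (by omega) (by omega)
  rcases Nat.lt_or_ge b 2574336 with g8 | g8
  · exact chkURangeF_spec C relF_hyp 1237356000 tc_eq 2572288 2048 ck_1256 b (by omega) (by omega)
  rcases Nat.lt_or_ge b 2576384 with g9 | g9
  · exact chkURangeF_spec C relF_hyp 1237356000 tc_eq 2574336 2048 ck_1257 b (by omega) (by omega)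
  rcases Nat.lt_or_ge b 2578432 with g10 | g10
  · exact chkURangeF_spec C relF_hyp 1237356000 tc_eq 2576384 2048 ck_1258 b (by omega) (by omega)
  rcases Nat.lt_or_ge b 2580480 with g11 | g11
  · exact chkURangeF_spec C relF_hyp 1237356000 tc_eq 2578432 2048 ck_1259 b (by omega) (by omega)
  rcases Nat.lt_or_ge b 2582528 with g12 | g12
  · exact chkURangeF_spec C relF_hyp 1237356000 tc_eq 2580480 2048 ck_1260 b (by omega) (by omega)
  rcases Nat.lt_or_ge b 2584576 with g13 | g13
  · exact chkURangeF_spec C relF_hyp 1237356000 tc_eq 2582528 2048 ck_1261 b (by omega) (by omega)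
  rcases Nat.lt_or_ge b 2586624 with g14 | g14
  · exact chkURangeF_spec C relF_hyp 1237356000 tc_eq 2584576 2048 ck_1262 b (by omega) (by omega)
  rcases Nat.lt_or_ge b 2588672 with g15 | g15
  · exact chkURangeF_spec C relF_hyp 1237356000 tc_eq 2586624 2048 ck_1263 b (by omega) (by omega)
  rcases Nat.lt_or_ge b 2590720 with g16 | g16
  · exact chkURangeF_spec C relF_hyp 1237356000 tc_eq 2588672 2048 ck_1264 b (by omega) (by omega)
  rcases Nat.lt_or_ge b 2592768 with g17 | g17
  · exact chkURangeF_spec C relF_hyp 1237356000 tc_eq 2590720 2048 ck_1265 b (by omega) (by omega)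
  rcases Nat.lt_or_ge b 2594816 with g18 | g18
  · exact chkURangeF_spec C relF_hyp 1237356000 tc_eq 2592768 2048 ck_1266 b (by omega) (by omega)
  rcases Nat.lt_or_ge b 2596864 with g19 | g19
  · exact chkURangeF_spec C relF_hyp 1237356000 tc_eq 2594816 2048 ck_1267 b (by omega) (by omega)
  rcases Nat.lt_or_ge b 2598912 with g20 | g20
  · exact chkURangeF_spec C relF_hyp 1237356000 tc_eq 2596864 2048 ck_1268 b (by omega) (by omega)
  rcases Nat.lt_or_ge b 2600960 with g21 | g21
  · exact chkURangeF_spec C relF_hyp 1237356000 tc_eq 2598912 2048 ck_1269 b (by omega) (by omega)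
  rcases Nat.lt_or_ge b 2603008 with g22 | g22
  · exact chkURangeF_spec C relF_hyp 1237356000 tc_eq 2600960 2048 ck_1270 b (by omega) (by omega)
  exact chkURangeF_spec C relF_hyp 1237356000 tc_eq 2603008 2048 ck_1271 b (by omega) (by omega)
end Cfsg.Agent.Lib.Helper2.HNMult.P5
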