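import Cfsg.Agent.Lib.Helper2.HNMult.P5.Cert
set_option autoImplicit false
set_option maxRecDepth 1000000
set_option Elab.async false
namespace Cfsg.Agent.Lib.Helper2.HNMult.P5
open Cfsg.Agent.Lib.Helper4.Sparse Cfsg.Agent.Lib.Helper2.SparseF
theorem ck_1344 : chkURangeF D C relF 796 1237356000 2752512 2048 = true := by decide +kernel
theorem ck_1345 : chkURangeF D C relF 796 1237356000 2754560 2048 = true := by decide +kernel
theorem ck_1346 : chkURangeF D C relF 796 1237356000 2756608 2048 = true := by decide +kernel
theorem ck_1347 : chkURangeF D C relF 796 1237356000 2758656 2048 = true := by decide +kernel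
theorem ck_1348 : chkURangeF D C relF 796 1237356000 2760704 2048 = true := by decide +kernel
theorem ck_1349 : chkURangeF D C relF 796 1237356000 2762752 2048 = true := by decide +kernel
theorem ck_1350 : chkURangeF D C relF 796 1237356000 2764800 2048 = true := by decide +kernel
theorem ck_1351 : chkURangeF D C relF 796 1237356000 2766848 2048 = true := by decide +kernel
theorem ck_1352 : chkURangeF D C relF 796 1237356000 2768896 2048 = true := by decide +kernel
theorem ck_1353 : chkURangeF D C relF 796 1237356000 2770944 2048 = true := by decide +kernel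
theorem ck_1354 : chkURangeF D C relF 796 1237356000 2772992 2048 = true := by decide +kernel
theorem ck_1355 : chkURangeF D C relF 796 1237356000 2775040 2048 = true := by decide +kernel
theorem ck_1356 : chkURangeF D C relF 796 1237356000 2777088 2048 = true := by decide +kernel
theorem ck_1357 : chkURangeF D C relF 796 1237356000 2779136 2048 = true := by decide +kernel
theorem ck_1358 : chkURangeF D C relF 796 1237356000 2781184 2048 = true := by decide +kernel
theorem ck_1359 : chkURangeF D C relF 796 1237356000 2783232 2048 = true := by decide +kernel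
theorem ck_1360 : chkURangeF D C relF 796 1237356000 2785280 2048 = true := by decide +kernel
theorem ck_1361 : chkURangeF D C relF 796 1237356000 2787328 2048 = true := by decide +kernel
theorem ck_1362 : chkURangeF D C relF 796 1237356000 2789376 2048 = true := by decide +kernel
theorem ck_1363 : chkURangeF D C relF 796 1237356000 2791424 2048 = true := by decide +kernel
theorem ck_1364 : chkURangeF D C relF 796 1237356000 2793472 2048 = true := by decide +kernel
theorem ck_1365 : chkURangeF D C relF 796 1237356000 2795520 2048 = true := by decide +kernel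
theorem ck_1366 : chkURangeF D C relF 796 1237356000 2797568 2048 = true := by decide +kernel
theorem ck_1367 : chkURangeF D C relF 796 1237356000 2799616 2048 = true := by decide +kernel
theorem chkU_56 (b : ℕ) (h1 : 2752512 ≤ b) (h2 : b < 2801664) : chkU D C b = true := by
  rcases Nat.lt_or_ge b 2754560 with g0 | g0
  · exact chkURangeF_spec C relF_hyp 1237356000 tc_eq 2752512 2048 ck_1344 b (by omega) (by omega)
  rcases Nat.lt_or_ge b 2756608 with g1 | g1
  · exact chkURangeF_spec C relF_hyp 1237356000 tc_eq 2754560 2048 ck_1345 b (by omega) (by omega)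
  rcases Nat.lt_or_ge b 2758656 with g2 | g2
  · exact chkURangeF_spec C relF_hyp 1237356000 tc_eq 2756608 2048 ck_1346 b (by omega) (by omega)
  rcases Nat.lt_or_ge b 2760704 with g3 | g3
  · exact chkURangeF_spec C relF_hyp 1237356000 tc_eq 2758656 2048 ck_1347 b (by omega) (by omega)
  rcases Nat.lt_or_ge b 2762752 with g4 | g4
  · exact chkURangeF_spec C relF_hyp 1237356000 tc_eq 2760704 2048 ck_1348 b (by omega) (by omega)
  rcases Nat.lt_or_ge b 2764800 with g5 | g5
  · exact chkURangeF_spec C relF_hyp 1237356000 tc_eq 2762752 2048 ck_1349 b (by omega) (by omega)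
  rcases Nat.lt_or_ge b 2766848 with g6 | g6
  · exact chkURangeF_spec C relF_hyp 1237356000 tc_eq 2764800 2048 ck_1350 b (by omega) (by omega)
  rcases Nat.lt_or_ge b 2768896 with g7 | g7
  · exact chkURangeF_spec C relF_hyp 1237356000 tc_eq 2766848 2048 ck_1351 b (by omega) (by omega)
  rcases Nat.lt_or_ge b 2770944 with g8 | g8
  · exact chkURangeF_spec C relF_hyp 1237356000 tc_eq 2768896 2048 ck_1352 b (by omega) (by omega)
  rcases Nat.lt_or_ge b 2772992 with g9 | g9
  · exact chkURangeF_spec C relF_hyp 1237356000 tc_eq 2770944 2048 ck_1353 b (by omega) (by omega)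
  rcases Nat.lt_or_ge b 2775040 with g10 | g10
  · exact chkURangeF_spec C relF_hyp 1237356000 tc_eq 2772992 2048 ck_1354 b (by omega) (by omega)
  rcases Nat.lt_or_ge b 2777088 with g11 | g11
  · exact chkURangeF_spec C relF_hyp 1237356000 tc_eq 2775040 2048 ck_1355 b (by omega) (by omega)
  rcases Nat.lt_or_ge b 2779136 with g12 | g12
  · exact chkURangeF_spec C relF_hyp 1237356000 tc_eq 2777088 2048 ck_1356 b (by omega) (by omega)
  rcases Nat.lt_or_ge b 2781184 with g13 | g13
  · exact chkURangeF_spec C relF_hyp 1237356000 tc_eq 2779136 2048 ck_1357 b (by omega) (by omega)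
  rcases Nat.lt_or_ge b 2783232 with g14 | g14
  · exact chkURangeF_spec C relF_hyp 1237356000 tc_eq 2781184 2048 ck_1358 b (by omega) (by omega)
  rcases Nat.lt_or_ge b 2785280 with g15 | g15
  · exact chkURangeF_spec C relF_hyp 1237356000 tc_eq 2783232 2048 ck_1359 b (by omega) (by omega)
  rcases Nat.lt_or_ge b 2787328 with g16 | g16
  · exact chkURangeF_spec C relF_hyp 1237356000 tc_eq 2785280 2048 ck_1360 b (by omega) (by omega)
  rcases Nat.lt_or_ge b 2789376 with g17 | g17
  · exact chkURangeF_spec C relF_hyp 1237356000 tc_eq 2787328 2048 ck_1361 b (by omega) (by omega)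
  rcases Nat.lt_or_ge b 2791424 with g18 | g18
  · exact chkURangeF_spec C relF_hyp 1237356000 tc_eq 2789376 2048 ck_1362 b (by omega) (by omega)
  rcases Nat.lt_or_ge b 2793472 with g19 | g19
  · exact chkURangeF_spec C relF_hyp 1237356000 tc_eq 2791424 2048 ck_1363 b (by omega) (by omega)
  rcases Nat.lt_or_ge b 2795520 with g20 | g20
  · exact chkURangeF_spec C relF_hyp 1237356000 tc_eq 2793472 2048 ck_1364 b (by omega) (by omega)
  rcases Nat.lt_or_ge b 2797568 with g21 | g21
  · exact chkURangeF_spec C relF_hyp 1237356000 tc_eq 2795520 2048 ck_1365 b (by omega) (by omega)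
  rcases Nat.lt_or_ge b 2799616 with g22 | g22
  · exact chkURangeF_spec C relF_hyp 1237356000 tc_eq 2797568 2048 ck_1366 b (by omega) (by omega)
  exact chkURangeF_spec C relF_hyp 1237356000 tc_eq 2799616 2048 ck_1367 b (by omega) (by omega)
end Cfsg.Agent.Lib.Helper2.HNMult.P5
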