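import Cfsg.Agent.Lib.Helper2.HNMult.P5.Cert
set_option autoImplicit false
set_option maxRecDepth 1000000
set_option Elab.async false
namespace Cfsg.Agent.Lib.Helper2.HNMult.P5
open Cfsg.Agent.Lib.Helper4.Sparse Cfsg.Agent.Lib.Helper2.SparseF
theorem ck_1512 : chkURangeF D C relF 796 1237356000 3096576 2048 = true := by decide +kernel
theorem ck_1513 : chkURangeF D C relF 796 1237356000 3098624 2048 = true := by decide +kernel
theorem ck_1514 : chkURangeF D C relF 796 1237356000 3100672 2048 = true := by decide +kernel
theorem ck_1515 : chkURangeF D C relF 796 1237356000 3102720 2048 = true := by decide +kernel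
theorem ck_1516 : chkURangeF D C relF 796 1237356000 3104768 2048 = true := by decide +kernel
theorem ck_1517 : chkURangeF D C relF 796 1237356000 3106816 2048 = true := by decide +kernel
theorem ck_1518 : chkURangeF D C relF 796 1237356000 3108864 2048 = true := by decide +kernel
theorem ck_1519 : chkURangeF D C relF 796 1237356000 3110912 2048 = true := by decide +kernel
theorem ck_1520 : chkURangeF D C relF 796 1237356000 3112960 2048 = true := by decide +kernel
theorem ck_1521 : chkURangeF D C relF 796 1237356000 3115008 2048 = true := by decide +kernel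
theorem ck_1522 : chkURangeF D C relF 796 1237356000 3117056 2048 = true := by decide +kernel
theorem ck_1523 : chkURangeF D C relF 796 1237356000 3119104 2048 = true := by decide +kernel
theorem ck_1524 : chkURangeF D C relF 796 1237356000 3121152 2048 = true := by decide +kernel
theorem ck_1525 : chkURangeF D C relF 796 1237356000 3123200 2048 = true := by decide +kernel
theorem ck_1526 : chkURangeF D C relF 796 1237356000 3125248 2048 = true := by decide +kernel
theorem ck_1527 : chkURangeF D C relF 796 1237356000 3127296 2048 = true := by decide +kernel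
theorem ck_1528 : chkURangeF D C relF 796 1237356000 3129344 2048 = true := by decide +kernel
theorem ck_1529 : chkURangeF D C relF 796 1237356000 3131392 2048 = true := by decide +kernel
theorem ck_1530 : chkURangeF D C relF 796 1237356000 3133440 2048 = true := by decide +kernel
theorem ck_1531 : chkURangeF D C relF 796 1237356000 3135488 2048 = true := by decide +kernel
theorem ck_1532 : chkURangeF D C relF 796 1237356000 3137536 2048 = true := by decide +kernel
theorem ck_1533 : chkURangeF D C relF 796 1237356000 3139584 2048 = true := by decide +kernel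
theorem ck_1534 : chkURangeF D C relF 796 1237356000 3141632 2048 = true := by decide +kernel
theorem ck_1535 : chkURangeF D C relF 796 1237356000 3143680 2048 = true := by decide +kernel
theorem chkU_63 (b : ℕ) (h1 : 3096576 ≤ b) (h2 : b < 3145728) : chkU D C b = true := by
  rcases Nat.lt_or_ge b 3098624 with g0 | g0
  · exact chkURangeF_spec C relF_hyp 1237356000 tc_eq 3096576 2048 ck_1512 b (by omega) (by omega)
  rcases Nat.lt_or_ge b 3100672 with g1 | g1
  · exact chkURangeF_spec C relF_hyp 1237356000 tc_eq 3098624 2048 ck_1513 b (by omega) (by omega)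
  rcases Nat.lt_or_ge b 3102720 with g2 | g2
  · exact chkURangeF_spec C relF_hyp 1237356000 tc_eq 3100672 2048 ck_1514 b (by omega) (by omega)
  rcases Nat.lt_or_ge b 3104768 with g3 | g3
  · exact chkURangeF_spec C relF_hyp 1237356000 tc_eq 3102720 2048 ck_1515 b (by omega) (by omega)
  rcases Nat.lt_or_ge b 3106816 with g4 | g4
  · exact chkURangeF_spec C relF_hyp 1237356000 tc_eq 3104768 2048 ck_1516 b (by omega) (by omega)
  rcases Nat.lt_or_ge b 3108864 with g5 | g5
  · exact chkURangeF_spec C relF_hyp 1237356000 tc_eq 3106816 2048 ck_1517 b (by omega) (by omega)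
  rcases Nat.lt_or_ge b 3110912 with g6 | g6
  · exact chkURangeF_spec C relF_hyp 1237356000 tc_eq 3108864 2048 ck_1518 b (by omega) (by omega)
  rcases Nat.lt_or_ge b 3112960 with g7 | g7
  · exact chkURangeF_spec C relF_hyp 1237356000 tc_eq 3110912 2048 ck_1519 b (by omega) (by omega)
  rcases Nat.lt_or_ge b 3115008 with g8 | g8
  · exact chkURangeF_spec C relF_hyp 1237356000 tc_eq 3112960 2048 ck_1520 b (by omega) (by omega)
  rcases Nat.lt_or_ge b 3117056 with g9 | g9
  · exact chkURangeF_spec C relF_hyp 1237356000 tc_eq 3115008 2048 ck_1521 b (by omega) (by omega)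
  rcases Nat.lt_or_ge b 3119104 with g10 | g10
  · exact chkURangeF_spec C relF_hyp 1237356000 tc_eq 3117056 2048 ck_1522 b (by omega) (by omega)
  rcases Nat.lt_or_ge b 3121152 with g11 | g11
  · exact chkURangeF_spec C relF_hyp 1237356000 tc_eq 3119104 2048 ck_1523 b (by omega) (by omega)
  rcases Nat.lt_or_ge b 3123200 with g12 | g12
  · exact chkURangeF_spec C relF_hyp 1237356000 tc_eq 3121152 2048 ck_1524 b (by omega) (by omega)
  rcases Nat.lt_or_ge b 3125248 with g13 | g13
  · exact chkURangeF_spec C relF_hyp 1237356000 tc_eq 3123200 2048 ck_1525 b (by omega) (by omega)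
  rcases Nat.lt_or_ge b 3127296 with g14 | g14
  · exact chkURangeF_spec C relF_hyp 1237356000 tc_eq 3125248 2048 ck_1526 b (by omega) (by omega)
  rcases Nat.lt_or_ge b 3129344 with g15 | g15
  · exact chkURangeF_spec C relF_hyp 1237356000 tc_eq 3127296 2048 ck_1527 b (by omega) (by omega)
  rcases Nat.lt_or_ge b 3131392 with g16 | g16
  · exact chkURangeF_spec C relF_hyp 1237356000 tc_eq 3129344 2048 ck_1528 b (by omega) (by omega)
  rcases Nat.lt_or_ge b 3133440 with g17 | g17
  · exact chkURangeF_spec C relF_hyp 1237356000 tc_eq 3131392 2048 ck_1529 b (by omega) (by omega)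
  rcases Nat.lt_or_ge b 3135488 with g18 | g18
  · exact chkURangeF_spec C relF_hyp 1237356000 tc_eq 3133440 2048 ck_1530 b (by omega) (by omega)
  rcases Nat.lt_or_ge b 3137536 with g19 | g19
  · exact chkURangeF_spec C relF_hyp 1237356000 tc_eq 3135488 2048 ck_1531 b (by omega) (by omega)
  rcases Nat.lt_or_ge b 3139584 with g20 | g20
  · exact chkURangeF_spec C relF_hyp 1237356000 tc_eq 3137536 2048 ck_1532 b (by omega) (by omega)
  rcases Nat.lt_or_ge b 3141632 with g21 | g21
  · exact chkURangeF_spec C relF_hyp 1237356000 tc_eq 3139584 2048 ck_1533 b (by omega) (by omega)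
  rcases Nat.lt_or_ge b 3143680 with g22 | g22
  · exact chkURangeF_spec C relF_hyp 1237356000 tc_eq 3141632 2048 ck_1534 b (by omega) (by omega)
  exact chkURangeF_spec C relF_hyp 1237356000 tc_eq 3143680 2048 ck_1535 b (by omega) (by omega)
end Cfsg.Agent.Lib.Helper2.HNMult.P5
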