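import Cfsg.Agent.Lib.Helper2.HNMult.P5.Cert
set_option autoImplicit false
set_option maxRecDepth 1000000
set_option Elab.async false
namespace Cfsg.Agent.Lib.Helper2.HNMult.P5
open Cfsg.Agent.Lib.Helper4.Sparse Cfsg.Agent.Lib.Helper2.SparseF
theorem ck_1536 : chkURangeF D C relF 796 1237356000 3145728 2048 = true := by decide +kernel
theorem ck_1537 : chkURangeF D C relF 796 1237356000 3147776 2048 = true := by decide +kernel
theorem ck_1538 : chkURangeF D C relF 796 1237356000 3149824 2048 = true := by decide +kernel
theorem ck_1539 : chkURangeF D C relF 796 1237356000 3151872 2048 = true := by decide +kernel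
theorem ck_1540 : chkURangeF D C relF 796 1237356000 3153920 2048 = true := by decide +kernel
theorem ck_1541 : chkURangeF D C relF 796 1237356000 3155968 2048 = true := by decide +kernel
theorem ck_1542 : chkURangeF D C relF 796 1237356000 3158016 2048 = true := by decide +kernel
theorem ck_1543 : chkURangeF D C relF 796 1237356000 3160064 2048 = true := by decide +kernel
theorem ck_1544 : chkURangeF D C relF 796 1237356000 3162112 2048 = true := by decide +kernel
theorem ck_1545 : chkURangeF D C relF 796 1237356000 3164160 2048 = true := by decide +kernel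
theorem ck_1546 : chkURangeF D C relF 796 1237356000 3166208 2048 = true := by decide +kernel
theorem ck_1547 : chkURangeF D C relF 796 1237356000 3168256 2048 = true := by decide +kernel
theorem ck_1548 : chkURangeF D C relF 796 1237356000 3170304 2048 = true := by decide +kernel
theorem ck_1549 : chkURangeF D C relF 796 1237356000 3172352 2048 = true := by decide +kernel
theorem ck_1550 : chkURangeF D C relF 796 1237356000 3174400 2048 = true := by decide +kernel
theorem ck_1551 : chkURangeF D C relF 796 1237356000 3176448 2048 = true := by decide +kernel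
theorem ck_1552 : chkURangeF D C relF 796 1237356000 3178496 2048 = true := by decide +kernel
theorem ck_1553 : chkURangeF D C relF 796 1237356000 3180544 2048 = true := by decide +kernel
theorem ck_1554 : chkURangeF D C relF 796 1237356000 3182592 2048 = true := by decide +kernel
theorem ck_1555 : chkURangeF D C relF 796 1237356000 3184640 2048 = true := by decide +kernel
theorem ck_1556 : chkURangeF D C relF 796 1237356000 3186688 2048 = true := by decide +kernel
theorem ck_1557 : chkURangeF D C relF 796 1237356000 3188736 2048 = true := by decide +kernel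
theorem ck_1558 : chkURangeF D C relF 796 1237356000 3190784 2048 = true := by decide +kernel
theorem ck_1559 : chkURangeF D C relF 796 1237356000 3192832 2048 = true := by decide +kernel
theorem chkU_64 (b : ℕ) (h1 : 3145728 ≤ b) (h2 : b < 3194880) : chkU D C b = true := by
  rcases Nat.lt_or_ge b 3147776 with g0 | g0
  · exact chkURangeF_spec C relF_hyp 1237356000 tc_eq 3145728 2048 ck_1536 b (by omega) (by omega)
  rcases Nat.lt_or_ge b 3149824 with g1 | g1
  · exact chkURangeF_spec C relF_hyp 1237356000 tc_eq 3147776 2048 ck_1537 b (by omega) (by omega)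
  rcases Nat.lt_or_ge b 3151872 with g2 | g2
  · exact chkURangeF_spec C relF_hyp 1237356000 tc_eq 3149824 2048 ck_1538 b (by omega) (by omega)
  rcases Nat.lt_or_ge b 3153920 with g3 | g3
  · exact chkURangeF_spec C relF_hyp 1237356000 tc_eq 3151872 2048 ck_1539 b (by omega) (by omega)
  rcases Nat.lt_or_ge b 3155968 with g4 | g4
  · exact chkURangeF_spec C relF_hyp 1237356000 tc_eq 3153920 2048 ck_1540 b (by omega) (by omega)
  rcases Nat.lt_or_ge b 3158016 with g5 | g5
  · exact chkURangeF_spec C relF_hyp 1237356000 tc_eq 3155968 2048 ck_1541 b (by omega) (by omega)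
  rcases Nat.lt_or_ge b 3160064 with g6 | g6
  · exact chkURangeF_spec C relF_hyp 1237356000 tc_eq 3158016 2048 ck_1542 b (by omega) (by omega)
  rcases Nat.lt_or_ge b 3162112 with g7 | g7
  · exact chkURangeF_spec C relF_hyp 1237356000 tc_eq 3160064 2048 ck_1543 b (by omega) (by omega)
  rcases Nat.lt_or_ge b 3164160 with g8 | g8
  · exact chkURangeF_spec C relF_hyp 1237356000 tc_eq 3162112 2048 ck_1544 b (by omega) (by omega)
  rcases Nat.lt_or_ge b 3166208 with g9 | g9
  · exact chkURangeF_spec C relF_hyp 1237356000 tc_eq 3164160 2048 ck_1545 b (by omega) (by omega)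
  rcases Nat.lt_or_ge b 3168256 with g10 | g10
  · exact chkURangeF_spec C relF_hyp 1237356000 tc_eq 3166208 2048 ck_1546 b (by omega) (by omega)
  rcases Nat.lt_or_ge b 3170304 with g11 | g11
  · exact chkURangeF_spec C relF_hyp 1237356000 tc_eq 3168256 2048 ck_1547 b (by omega) (by omega)
  rcases Nat.lt_or_ge b 3172352 with g12 | g12
  · exact chkURangeF_spec C relF_hyp 1237356000 tc_eq 3170304 2048 ck_1548 b (by omega) (by omega)
  rcases Nat.lt_or_ge b 3174400 with g13 | g13
  · exact chkURangeF_spec C relF_hyp 1237356000 tc_eq 3172352 2048 ck_1549 b (by omega) (by omega)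
  rcases Nat.lt_or_ge b 3176448 with g14 | g14
  · exact chkURangeF_spec C relF_hyp 1237356000 tc_eq 3174400 2048 ck_1550 b (by omega) (by omega)
  rcases Nat.lt_or_ge b 3178496 with g15 | g15
  · exact chkURangeF_spec C relF_hyp 1237356000 tc_eq 3176448 2048 ck_1551 b (by omega) (by omega)
  rcases Nat.lt_or_ge b 3180544 with g16 | g16
  · exact chkURangeF_spec C relF_hyp 1237356000 tc_eq 3178496 2048 ck_1552 b (by omega) (by omega)
  rcases Nat.lt_or_ge b 3182592 with g17 | g17
  · exact chkURangeF_spec C relF_hyp 1237356000 tc_eq 3180544 2048 ck_1553 b (by omega) (by omega)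
  rcases Nat.lt_or_ge b 3184640 with g18 | g18
  · exact chkURangeF_spec C relF_hyp 1237356000 tc_eq 3182592 2048 ck_1554 b (by omega) (by omega)
  rcases Nat.lt_or_ge b 3186688 with g19 | g19
  · exact chkURangeF_spec C relF_hyp 1237356000 tc_eq 3184640 2048 ck_1555 b (by omega) (by omega)
  rcases Nat.lt_or_ge b 3188736 with g20 | g20
  · exact chkURangeF_spec C relF_hyp 1237356000 tc_eq 3186688 2048 ck_1556 b (by omega) (by omega)
  rcases Nat.lt_or_ge b 3190784 with g21 | g21
  · exact chkURangeF_spec C relF_hyp 1237356000 tc_eq 3188736 2048 ck_1557 b (by omega) (by omega)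
  rcases Nat.lt_or_ge b 3192832 with g22 | g22
  · exact chkURangeF_spec C relF_hyp 1237356000 tc_eq 3190784 2048 ck_1558 b (by omega) (by omega)
  exact chkURangeF_spec C relF_hyp 1237356000 tc_eq 3192832 2048 ck_1559 b (by omega) (by omega)
end Cfsg.Agent.Lib.Helper2.HNMult.P5
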