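import Cfsg.Agent.Lib.Helper2.HNMult.P5.Cert
set_option autoImplicit false
set_option maxRecDepth 1000000
set_option Elab.async false
namespace Cfsg.Agent.Lib.Helper2.HNMult.P5
open Cfsg.Agent.Lib.Helper4.Sparse Cfsg.Agent.Lib.Helper2.SparseF
theorem ck_1608 : chkURangeF D C relF 796 1237356000 3293184 2048 = true := by decide +kernel
theorem ck_1609 : chkURangeF D C relF 796 1237356000 3295232 2048 = true := by decide +kernel
theorem ck_1610 : chkURangeF D C relF 796 1237356000 3297280 2048 = true := by decide +kernel
theorem ck_1611 : chkURangeF D C relF 796 1237356000 3299328 2048 = true := by decide +kernel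
theorem ck_1612 : chkURangeF D C relF 796 1237356000 3301376 2048 = true := by decide +kernel
theorem ck_1613 : chkURangeF D C relF 796 1237356000 3303424 2048 = true := by decide +kernel
theorem ck_1614 : chkURangeF D C relF 796 1237356000 3305472 2048 = true := by decide +kernel
theorem ck_1615 : chkURangeF D C relF 796 1237356000 3307520 2048 = true := by decide +kernel
theorem ck_1616 : chkURangeF D C relF 796 1237356000 3309568 2048 = true := by decide +kernel
theorem ck_1617 : chkURangeF D C relF 796 1237356000 3311616 2048 = true := by decide +kernel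
theorem ck_1618 : chkURangeF D C relF 796 1237356000 3313664 2048 = true := by decide +kernel
theorem ck_1619 : chkURangeF D C relF 796 1237356000 3315712 2048 = true := by decide +kernel
theorem ck_1620 : chkURangeF D C relF 796 1237356000 3317760 2048 = true := by decide +kernel
theorem ck_1621 : chkURangeF D C relF 796 1237356000 3319808 2048 = true := by decide +kernel
theorem ck_1622 : chkURangeF D C relF 796 1237356000 3321856 2048 = true := by decide +kernel
theorem ck_1623 : chkURangeF D C relF 796 1237356000 3323904 2048 = true := by decide +kernel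
theorem ck_1624 : chkURangeF D C relF 796 1237356000 3325952 2048 = true := by decide +kernel
theorem ck_1625 : chkURangeF D C relF 796 1237356000 3328000 2048 = true := by decide +kernel
theorem ck_1626 : chkURangeF D C relF 796 1237356000 3330048 2048 = true := by decide +kernel
theorem ck_1627 : chkURangeF D C relF 796 1237356000 3332096 2048 = true := by decide +kernel
theorem ck_1628 : chkURangeF D C relF 796 1237356000 3334144 2048 = true := by decide +kernel
theorem ck_1629 : chkURangeF D C relF 796 1237356000 3336192 2048 = true := by decide +kernel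
theorem ck_1630 : chkURangeF D C relF 796 1237356000 3338240 2048 = true := by decide +kernel
theorem ck_1631 : chkURangeF D C relF 796 1237356000 3340288 2048 = true := by decide +kernel
theorem chkU_67 (b : ℕ) (h1 : 3293184 ≤ b) (h2 : b < 3342336) : chkU D C b = true := by
  rcases Nat.lt_or_ge b 3295232 with g0 | g0
  · exact chkURangeF_spec C relF_hyp 1237356000 tc_eq 3293184 2048 ck_1608 b (by omega) (by omega)
  rcases Nat.lt_or_ge b 3297280 with g1 | g1
  · exact chkURangeF_spec C relF_hyp 1237356000 tc_eq 3295232 2048 ck_1609 b (by omega) (by omega)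
  rcases Nat.lt_or_ge b 3299328 with g2 | g2
  · exact chkURangeF_spec C relF_hyp 1237356000 tc_eq 3297280 2048 ck_1610 b (by omega) (by omega)
  rcases Nat.lt_or_ge b 3301376 with g3 | g3
  · exact chkURangeF_spec C relF_hyp 1237356000 tc_eq 3299328 2048 ck_1611 b (by omega) (by omega)
  rcases Nat.lt_or_ge b 3303424 with g4 | g4
  · exact chkURangeF_spec C relF_hyp 1237356000 tc_eq 3301376 2048 ck_1612 b (by omega) (by omega)
  rcases Nat.lt_or_ge b 3305472 with g5 | g5
  · exact chkURangeF_spec C relF_hyp 1237356000 tc_eq 3303424 2048 ck_1613 b (by omega) (by omega)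
  rcases Nat.lt_or_ge b 3307520 with g6 | g6
  · exact chkURangeF_spec C relF_hyp 1237356000 tc_eq 3305472 2048 ck_1614 b (by omega) (by omega)
  rcases Nat.lt_or_ge b 3309568 with g7 | g7
  · exact chkURangeF_spec C relF_hyp 1237356000 tc_eq 3307520 2048 ck_1615 b (by omega) (by omega)
  rcases Nat.lt_or_ge b 3311616 with g8 | g8
  · exact chkURangeF_spec C relF_hyp 1237356000 tc_eq 3309568 2048 ck_1616 b (by omega) (by omega)
  rcases Nat.lt_or_ge b 3313664 with g9 | g9
  · exact chkURangeF_spec C relF_hyp 1237356000 tc_eq 3311616 2048 ck_1617 b (by omega) (by omega)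
  rcases Nat.lt_or_ge b 3315712 with g10 | g10
  · exact chkURangeF_spec C relF_hyp 1237356000 tc_eq 3313664 2048 ck_1618 b (by omega) (by omega)
  rcases Nat.lt_or_ge b 3317760 with g11 | g11
  · exact chkURangeF_spec C relF_hyp 1237356000 tc_eq 3315712 2048 ck_1619 b (by omega) (by omega)
  rcases Nat.lt_or_ge b 3319808 with g12 | g12
  · exact chkURangeF_spec C relF_hyp 1237356000 tc_eq 3317760 2048 ck_1620 b (by omega) (by omega)
  rcases Nat.lt_or_ge b 3321856 with g13 | g13
  · exact chkURangeF_spec C relF_hyp 1237356000 tc_eq 3319808 2048 ck_1621 b (by omega) (by omega)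
  rcases Nat.lt_or_ge b 3323904 with g14 | g14
  · exact chkURangeF_spec C relF_hyp 1237356000 tc_eq 3321856 2048 ck_1622 b (by omega) (by omega)
  rcases Nat.lt_or_ge b 3325952 with g15 | g15
  · exact chkURangeF_spec C relF_hyp 1237356000 tc_eq 3323904 2048 ck_1623 b (by omega) (by omega)
  rcases Nat.lt_or_ge b 3328000 with g16 | g16
  · exact chkURangeF_spec C relF_hyp 1237356000 tc_eq 3325952 2048 ck_1624 b (by omega) (by omega)
  rcases Nat.lt_or_ge b 3330048 with g17 | g17
  · exact chkURangeF_spec C relF_hyp 1237356000 tc_eq 3328000 2048 ck_1625 b (by omega) (by omega)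
  rcases Nat.lt_or_ge b 3332096 with g18 | g18
  · exact chkURangeF_spec C relF_hyp 1237356000 tc_eq 3330048 2048 ck_1626 b (by omega) (by omega)
  rcases Nat.lt_or_ge b 3334144 with g19 | g19
  · exact chkURangeF_spec C relF_hyp 1237356000 tc_eq 3332096 2048 ck_1627 b (by omega) (by omega)
  rcases Nat.lt_or_ge b 3336192 with g20 | g20
  · exact chkURangeF_spec C relF_hyp 1237356000 tc_eq 3334144 2048 ck_1628 b (by omega) (by omega)
  rcases Nat.lt_or_ge b 3338240 with g21 | g21
  · exact chkURangeF_spec C relF_hyp 1237356000 tc_eq 3336192 2048 ck_1629 b (by omega) (by omega)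
  rcases Nat.lt_or_ge b 3340288 with g22 | g22
  · exact chkURangeF_spec C relF_hyp 1237356000 tc_eq 3338240 2048 ck_1630 b (by omega) (by omega)
  exact chkURangeF_spec C relF_hyp 1237356000 tc_eq 3340288 2048 ck_1631 b (by omega) (by omega)
end Cfsg.Agent.Lib.Helper2.HNMult.P5
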