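import Cfsg.Agent.Lib.Helper2.HNMult.P5.Cert
set_option autoImplicit false
set_option maxRecDepth 1000000
set_option Elab.async false
namespace Cfsg.Agent.Lib.Helper2.HNMult.P5
open Cfsg.Agent.Lib.Helper4.Sparse Cfsg.Agent.Lib.Helper2.SparseF
theorem ck_1800 : chkURangeF D C relF 796 1237356000 3686400 2048 = true := by decide +kernel
theorem ck_1801 : chkURangeF D C relF 796 1237356000 3688448 2048 = true := by decide +kernel
theorem ck_1802 : chkURangeF D C relF 796 1237356000 3690496 2048 = true := by decide +kernel
theorem ck_1803 : chkURangeF D C relF 796 1237356000 3692544 2048 = true := by decide +kernel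
theorem ck_1804 : chkURangeF D C relF 796 1237356000 3694592 2048 = true := by decide +kernel
theorem ck_1805 : chkURangeF D C relF 796 1237356000 3696640 2048 = true := by decide +kernel
theorem ck_1806 : chkURangeF D C relF 796 1237356000 3698688 2048 = true := by decide +kernel
theorem ck_1807 : chkURangeF D C relF 796 1237356000 3700736 2048 = true := by decide +kernel
theorem ck_1808 : chkURangeF D C relF 796 1237356000 3702784 2048 = true := by decide +kernel
theorem ck_1809 : chkURangeF D C relF 796 1237356000 3704832 2048 = true := by decide +kernel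
theorem ck_1810 : chkURangeF D C relF 796 1237356000 3706880 2048 = true := by decide +kernel
theorem ck_1811 : chkURangeF D C relF 796 1237356000 3708928 2048 = true := by decide +kernel
theorem ck_1812 : chkURangeF D C relF 796 1237356000 3710976 2048 = true := by decide +kernel
theorem ck_1813 : chkURangeF D C relF 796 1237356000 3713024 2048 = true := by decide +kernel
theorem ck_1814 : chkURangeF D C relF 796 1237356000 3715072 2048 = true := by decide +kernel
theorem ck_1815 : chkURangeF D C relF 796 1237356000 3717120 2048 = true := by decide +kernel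
theorem ck_1816 : chkURangeF D C relF 796 1237356000 3719168 2048 = true := by decide +kernel
theorem ck_1817 : chkURangeF D C relF 796 1237356000 3721216 2048 = true := by decide +kernel
theorem ck_1818 : chkURangeF D C relF 796 1237356000 3723264 2048 = true := by decide +kernel
theorem ck_1819 : chkURangeF D C relF 796 1237356000 3725312 2048 = true := by decide +kernel
theorem ck_1820 : chkURangeF D C relF 796 1237356000 3727360 2048 = true := by decide +kernel
theorem ck_1821 : chkURangeF D C relF 796 1237356000 3729408 2048 = true := by decide +kernel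
theorem ck_1822 : chkURangeF D C relF 796 1237356000 3731456 2048 = true := by decide +kernel
theorem ck_1823 : chkURangeF D C relF 796 1237356000 3733504 2048 = true := by decide +kernel
theorem chkU_75 (b : ℕ) (h1 : 3686400 ≤ b) (h2 : b < 3735552) : chkU D C b = true := by
  rcases Nat.lt_or_ge b 3688448 with g0 | g0
  · exact chkURangeF_spec C relF_hyp 1237356000 tc_eq 3686400 2048 ck_1800 b (by omega) (by omega)
  rcases Nat.lt_or_ge b 3690496 with g1 | g1
  · exact chkURangeF_spec C relF_hyp 1237356000 tc_eq 3688448 2048 ck_1801 b (by omega) (by omega)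
  rcases Nat.lt_or_ge b 3692544 with g2 | g2
  · exact chkURangeF_spec C relF_hyp 1237356000 tc_eq 3690496 2048 ck_1802 b (by omega) (by omega)
  rcases Nat.lt_or_ge b 3694592 with g3 | g3
  · exact chkURangeF_spec C relF_hyp 1237356000 tc_eq 3692544 2048 ck_1803 b (by omega) (by omega)
  rcases Nat.lt_or_ge b 3696640 with g4 | g4
  · exact chkURangeF_spec C relF_hyp 1237356000 tc_eq 3694592 2048 ck_1804 b (by omega) (by omega)
  rcases Nat.lt_or_ge b 3698688 with g5 | g5
  · exact chkURangeF_spec C relF_hyp 1237356000 tc_eq 3696640 2048 ck_1805 b (by omega) (by omega)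
  rcases Nat.lt_or_ge b 3700736 with g6 | g6
  · exact chkURangeF_spec C relF_hyp 1237356000 tc_eq 3698688 2048 ck_1806 b (by omega) (by omega)
  rcases Nat.lt_or_ge b 3702784 with g7 | g7
  · exact chkURangeF_spec C relF_hyp 1237356000 tc_eq 3700736 2048 ck_1807 b (by omega) (by omega)
  rcases Nat.lt_or_ge b 3704832 with g8 | g8
  · exact chkURangeF_spec C relF_hyp 1237356000 tc_eq 3702784 2048 ck_1808 b (by omega) (by omega)
  rcases Nat.lt_or_ge b 3706880 with g9 | g9
  · exact chkURangeF_spec C relF_hyp 1237356000 tc_eq 3704832 2048 ck_1809 b (by omega) (by omega)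
  rcases Nat.lt_or_ge b 3708928 with g10 | g10
  · exact chkURangeF_spec C relF_hyp 1237356000 tc_eq 3706880 2048 ck_1810 b (by omega) (by omega)
  rcases Nat.lt_or_ge b 3710976 with g11 | g11
  · exact chkURangeF_spec C relF_hyp 1237356000 tc_eq 3708928 2048 ck_1811 b (by omega) (by omega)
  rcases Nat.lt_or_ge b 3713024 with g12 | g12
  · exact chkURangeF_spec C relF_hyp 1237356000 tc_eq 3710976 2048 ck_1812 b (by omega) (by omega)
  rcases Nat.lt_or_ge b 3715072 with g13 | g13
  · exact chkURangeF_spec C relF_hyp 1237356000 tc_eq 3713024 2048 ck_1813 b (by omega) (by omega)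
  rcases Nat.lt_or_ge b 3717120 with g14 | g14
  · exact chkURangeF_spec C relF_hyp 1237356000 tc_eq 3715072 2048 ck_1814 b (by omega) (by omega)
  rcases Nat.lt_or_ge b 3719168 with g15 | g15
  · exact chkURangeF_spec C relF_hyp 1237356000 tc_eq 3717120 2048 ck_1815 b (by omega) (by omega)
  rcases Nat.lt_or_ge b 3721216 with g16 | g16
  · exact chkURangeF_spec C relF_hyp 1237356000 tc_eq 3719168 2048 ck_1816 b (by omega) (by omega)
  rcases Nat.lt_or_ge b 3723264 with g17 | g17
  · exact chkURangeF_spec C relF_hyp 1237356000 tc_eq 3721216 2048 ck_1817 b (by omega) (by omega)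
  rcases Nat.lt_or_ge b 3725312 with g18 | g18
  · exact chkURangeF_spec C relF_hyp 1237356000 tc_eq 3723264 2048 ck_1818 b (by omega) (by omega)
  rcases Nat.lt_or_ge b 3727360 with g19 | g19
  · exact chkURangeF_spec C relF_hyp 1237356000 tc_eq 3725312 2048 ck_1819 b (by omega) (by omega)
  rcases Nat.lt_or_ge b 3729408 with g20 | g20
  · exact chkURangeF_spec C relF_hyp 1237356000 tc_eq 3727360 2048 ck_1820 b (by omega) (by omega)
  rcases Nat.lt_or_ge b 3731456 with g21 | g21
  · exact chkURangeF_spec C relF_hyp 1237356000 tc_eq 3729408 2048 ck_1821 b (by omega) (by omega)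
  rcases Nat.lt_or_ge b 3733504 with g22 | g22
  · exact chkURangeF_spec C relF_hyp 1237356000 tc_eq 3731456 2048 ck_1822 b (by omega) (by omega)
  exact chkURangeF_spec C relF_hyp 1237356000 tc_eq 3733504 2048 ck_1823 b (by omega) (by omega)
end Cfsg.Agent.Lib.Helper2.HNMult.P5
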