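import Cfsg.Agent.Lib.Helper2.HNMult.P5.Cert
set_option autoImplicit false
set_option maxRecDepth 1000000
set_option Elab.async false
namespace Cfsg.Agent.Lib.Helper2.HNMult.P5
open Cfsg.Agent.Lib.Helper4.Sparse Cfsg.Agent.Lib.Helper2.SparseF
theorem ck_1824 : chkURangeF D C relF 796 1237356000 3735552 2048 = true := by decide +kernel
theorem ck_1825 : chkURangeF D C relF 796 1237356000 3737600 2048 = true := by decide +kernel
theorem ck_1826 : chkURangeF D C relF 796 1237356000 3739648 2048 = true := by decide +kernel
theorem ck_1827 : chkURangeF D C relF 796 1237356000 3741696 2048 = true := by decide +kernel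
theorem ck_1828 : chkURangeF D C relF 796 1237356000 3743744 2048 = true := by decide +kernel
theorem ck_1829 : chkURangeF D C relF 796 1237356000 3745792 2048 = true := by decide +kernel
theorem ck_1830 : chkURangeF D C relF 796 1237356000 3747840 2048 = true := by decide +kernel
theorem ck_1831 : chkURangeF D C relF 796 1237356000 3749888 2048 = true := by decide +kernel
theorem ck_1832 : chkURangeF D C relF 796 1237356000 3751936 2048 = true := by decide +kernel
theorem ck_1833 : chkURangeF D C relF 796 1237356000 3753984 2048 = true := by decide +kernel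
theorem ck_1834 : chkURangeF D C relF 796 1237356000 3756032 2048 = true := by decide +kernel
theorem ck_1835 : chkURangeF D C relF 796 1237356000 3758080 2048 = true := by decide +kernel
theorem ck_1836 : chkURangeF D C relF 796 1237356000 3760128 2048 = true := by decide +kernel
theorem ck_1837 : chkURangeF D C relF 796 1237356000 3762176 2048 = true := by decide +kernel
theorem ck_1838 : chkURangeF D C relF 796 1237356000 3764224 2048 = true := by decide +kernel
theorem ck_1839 : chkURangeF D C relF 796 1237356000 3766272 2048 = true := by decide +kernel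
theorem ck_1840 : chkURangeF D C relF 796 1237356000 3768320 2048 = true := by decide +kernel
theorem ck_1841 : chkURangeF D C relF 796 1237356000 3770368 2048 = true := by decide +kernel
theorem ck_1842 : chkURangeF D C relF 796 1237356000 3772416 2048 = true := by decide +kernel
theorem ck_1843 : chkURangeF D C relF 796 1237356000 3774464 2048 = true := by decide +kernel
theorem ck_1844 : chkURangeF D C relF 796 1237356000 3776512 2048 = true := by decide +kernel
theorem ck_1845 : chkURangeF D C relF 796 1237356000 3778560 2048 = true := by decide +kernel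
theorem ck_1846 : chkURangeF D C relF 796 1237356000 3780608 2048 = true := by decide +kernel
theorem ck_1847 : chkURangeF D C relF 796 1237356000 3782656 2048 = true := by decide +kernel
theorem chkU_76 (b : ℕ) (h1 : 3735552 ≤ b) (h2 : b < 3784704) : chkU D C b = true := by
  rcases Nat.lt_or_ge b 3737600 with g0 | g0
  · exact chkURangeF_spec C relF_hyp 1237356000 tc_eq 3735552 2048 ck_1824 b (by omega) (by omega)
  rcases Nat.lt_or_ge b 3739648 with g1 | g1
  · exact chkURangeF_spec C relF_hyp 1237356000 tc_eq 3737600 2048 ck_1825 b (by omega) (by omega)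
  rcases Nat.lt_or_ge b 3741696 with g2 | g2
  · exact chkURangeF_spec C relF_hyp 1237356000 tc_eq 3739648 2048 ck_1826 b (by omega) (by omega)
  rcases Nat.lt_or_ge b 3743744 with g3 | g3
  · exact chkURangeF_spec C relF_hyp 1237356000 tc_eq 3741696 2048 ck_1827 b (by omega) (by omega)
  rcases Nat.lt_or_ge b 3745792 with g4 | g4
  · exact chkURangeF_spec C relF_hyp 1237356000 tc_eq 3743744 2048 ck_1828 b (by omega) (by omega)
  rcases Nat.lt_or_ge b 3747840 with g5 | g5
  · exact chkURangeF_spec C relF_hyp 1237356000 tc_eq 3745792 2048 ck_1829 b (by omega) (by omega)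
  rcases Nat.lt_or_ge b 3749888 with g6 | g6
  · exact chkURangeF_spec C relF_hyp 1237356000 tc_eq 3747840 2048 ck_1830 b (by omega) (by omega)
  rcases Nat.lt_or_ge b 3751936 with g7 | g7
  · exact chkURangeF_spec C relF_hyp 1237356000 tc_eq 3749888 2048 ck_1831 b (by omega) (by omega)
  rcases Nat.lt_or_ge b 3753984 with g8 | g8
  · exact chkURangeF_spec C relF_hyp 1237356000 tc_eq 3751936 2048 ck_1832 b (by omega) (by omega)
  rcases Nat.lt_or_ge b 3756032 with g9 | g9
  · exact chkURangeF_spec C relF_hyp 1237356000 tc_eq 3753984 2048 ck_1833 b (by omega) (by omega)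
  rcases Nat.lt_or_ge b 3758080 with g10 | g10
  · exact chkURangeF_spec C relF_hyp 1237356000 tc_eq 3756032 2048 ck_1834 b (by omega) (by omega)
  rcases Nat.lt_or_ge b 3760128 with g11 | g11
  · exact chkURangeF_spec C relF_hyp 1237356000 tc_eq 3758080 2048 ck_1835 b (by omega) (by omega)
  rcases Nat.lt_or_ge b 3762176 with g12 | g12
  · exact chkURangeF_spec C relF_hyp 1237356000 tc_eq 3760128 2048 ck_1836 b (by omega) (by omega)
  rcases Nat.lt_or_ge b 3764224 with g13 | g13
  · exact chkURangeF_spec C relF_hyp 1237356000 tc_eq 3762176 2048 ck_1837 b (by omega) (by omega)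
  rcases Nat.lt_or_ge b 3766272 with g14 | g14
  · exact chkURangeF_spec C relF_hyp 1237356000 tc_eq 3764224 2048 ck_1838 b (by omega) (by omega)
  rcases Nat.lt_or_ge b 3768320 with g15 | g15
  · exact chkURangeF_spec C relF_hyp 1237356000 tc_eq 3766272 2048 ck_1839 b (by omega) (by omega)
  rcases Nat.lt_or_ge b 3770368 with g16 | g16
  · exact chkURangeF_spec C relF_hyp 1237356000 tc_eq 3768320 2048 ck_1840 b (by omega) (by omega)
  rcases Nat.lt_or_ge b 3772416 with g17 | g17
  · exact chkURangeF_spec C relF_hyp 1237356000 tc_eq 3770368 2048 ck_1841 b (by omega) (by omega)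
  rcases Nat.lt_or_ge b 3774464 with g18 | g18
  · exact chkURangeF_spec C relF_hyp 1237356000 tc_eq 3772416 2048 ck_1842 b (by omega) (by omega)
  rcases Nat.lt_or_ge b 3776512 with g19 | g19
  · exact chkURangeF_spec C relF_hyp 1237356000 tc_eq 3774464 2048 ck_1843 b (by omega) (by omega)
  rcases Nat.lt_or_ge b 3778560 with g20 | g20
  · exact chkURangeF_spec C relF_hyp 1237356000 tc_eq 3776512 2048 ck_1844 b (by omega) (by omega)
  rcases Nat.lt_or_ge b 3780608 with g21 | g21
  · exact chkURangeF_spec C relF_hyp 1237356000 tc_eq 3778560 2048 ck_1845 b (by omega) (by omega)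
  rcases Nat.lt_or_ge b 3782656 with g22 | g22
  · exact chkURangeF_spec C relF_hyp 1237356000 tc_eq 3780608 2048 ck_1846 b (by omega) (by omega)
  exact chkURangeF_spec C relF_hyp 1237356000 tc_eq 3782656 2048 ck_1847 b (by omega) (by omega)
end Cfsg.Agent.Lib.Helper2.HNMult.P5
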