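import Cfsg.Agent.Lib.Helper2.HNMult.P5.Cert
set_option autoImplicit false
set_option maxRecDepth 1000000
set_option Elab.async false
namespace Cfsg.Agent.Lib.Helper2.HNMult.P5
open Cfsg.Agent.Lib.Helper4.Sparse Cfsg.Agent.Lib.Helper2.SparseF
theorem ck_1896 : chkURangeF D C relF 796 1237356000 3883008 2048 = true := by decide +kernel
theorem ck_1897 : chkURangeF D C relF 796 1237356000 3885056 2048 = true := by decide +kernel
theorem ck_1898 : chkURangeF D C relF 796 1237356000 3887104 2048 = true := by decide +kernel
theorem ck_1899 : chkURangeF D C relF 796 1237356000 3889152 2048 = true := by decide +kernel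
theorem ck_1900 : chkURangeF D C relF 796 1237356000 3891200 2048 = true := by decide +kernel
theorem ck_1901 : chkURangeF D C relF 796 1237356000 3893248 2048 = true := by decide +kernel
theorem ck_1902 : chkURangeF D C relF 796 1237356000 3895296 2048 = true := by decide +kernel
theorem ck_1903 : chkURangeF D C relF 796 1237356000 3897344 2048 = true := by decide +kernel
theorem ck_1904 : chkURangeF D C relF 796 1237356000 3899392 2048 = true := by decide +kernel
theorem ck_1905 : chkURangeF D C relF 796 1237356000 3901440 2048 = true := by decide +kernel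
theorem ck_1906 : chkURangeF D C relF 796 1237356000 3903488 2048 = true := by decide +kernel
theorem ck_1907 : chkURangeF D C relF 796 1237356000 3905536 2048 = true := by decide +kernel
theorem ck_1908 : chkURangeF D C relF 796 1237356000 3907584 2048 = true := by decide +kernel
theorem ck_1909 : chkURangeF D C relF 796 1237356000 3909632 2048 = true := by decide +kernel
theorem ck_1910 : chkURangeF D C relF 796 1237356000 3911680 2048 = true := by decide +kernel
theorem ck_1911 : chkURangeF D C relF 796 1237356000 3913728 2048 = true := by decide +kernel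
theorem ck_1912 : chkURangeF D C relF 796 1237356000 3915776 2048 = true := by decide +kernel
theorem ck_1913 : chkURangeF D C relF 796 1237356000 3917824 2048 = true := by decide +kernel
theorem ck_1914 : chkURangeF D C relF 796 1237356000 3919872 2048 = true := by decide +kernel
theorem ck_1915 : chkURangeF D C relF 796 1237356000 3921920 2048 = true := by decide +kernel
theorem ck_1916 : chkURangeF D C relF 796 1237356000 3923968 2048 = true := by decide +kernel
theorem ck_1917 : chkURangeF D C relF 796 1237356000 3926016 2048 = true := by decide +kernel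
theorem ck_1918 : chkURangeF D C relF 796 1237356000 3928064 2048 = true := by decide +kernel
theorem ck_1919 : chkURangeF D C relF 796 1237356000 3930112 2048 = true := by decide +kernel
theorem chkU_79 (b : ℕ) (h1 : 3883008 ≤ b) (h2 : b < 3932160) : chkU D C b = true := by
  rcases Nat.lt_or_ge b 3885056 with g0 | g0
  · exact chkURangeF_spec C relF_hyp 1237356000 tc_eq 3883008 2048 ck_1896 b (by omega) (by omega)
  rcases Nat.lt_or_ge b 3887104 with g1 | g1
  · exact chkURangeF_spec C relF_hyp 1237356000 tc_eq 3885056 2048 ck_1897 b (by omega) (by omega)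
  rcases Nat.lt_or_ge b 3889152 with g2 | g2
  · exact chkURangeF_spec C relF_hyp 1237356000 tc_eq 3887104 2048 ck_1898 b (by omega) (by omega)
  rcases Nat.lt_or_ge b 3891200 with g3 | g3
  · exact chkURangeF_spec C relF_hyp 1237356000 tc_eq 3889152 2048 ck_1899 b (by omega) (by omega)
  rcases Nat.lt_or_ge b 3893248 with g4 | g4
  · exact chkURangeF_spec C relF_hyp 1237356000 tc_eq 3891200 2048 ck_1900 b (by omega) (by omega)
  rcases Nat.lt_or_ge b 3895296 with g5 | g5
  · exact chkURangeF_spec C relF_hyp 1237356000 tc_eq 3893248 2048 ck_1901 b (by omega) (by omega)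
  rcases Nat.lt_or_ge b 3897344 with g6 | g6
  · exact chkURangeF_spec C relF_hyp 1237356000 tc_eq 3895296 2048 ck_1902 b (by omega) (by omega)
  rcases Nat.lt_or_ge b 3899392 with g7 | g7
  · exact chkURangeF_spec C relF_hyp 1237356000 tc_eq 3897344 2048 ck_1903 b (by omega) (by omega)
  rcases Nat.lt_or_ge b 3901440 with g8 | g8
  · exact chkURangeF_spec C relF_hyp 1237356000 tc_eq 3899392 2048 ck_1904 b (by omega) (by omega)
  rcases Nat.lt_or_ge b 3903488 with g9 | g9
  · exact chkURangeF_spec C relF_hyp 1237356000 tc_eq 3901440 2048 ck_1905 b (by omega) (by omega)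
  rcases Nat.lt_or_ge b 3905536 with g10 | g10
  · exact chkURangeF_spec C relF_hyp 1237356000 tc_eq 3903488 2048 ck_1906 b (by omega) (by omega)
  rcases Nat.lt_or_ge b 3907584 with g11 | g11
  · exact chkURangeF_spec C relF_hyp 1237356000 tc_eq 3905536 2048 ck_1907 b (by omega) (by omega)
  rcases Nat.lt_or_ge b 3909632 with g12 | g12
  · exact chkURangeF_spec C relF_hyp 1237356000 tc_eq 3907584 2048 ck_1908 b (by omega) (by omega)
  rcases Nat.lt_or_ge b 3911680 with g13 | g13
  · exact chkURangeF_spec C relF_hyp 1237356000 tc_eq 3909632 2048 ck_1909 b (by omega) (by omega)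
  rcases Nat.lt_or_ge b 3913728 with g14 | g14
  · exact chkURangeF_spec C relF_hyp 1237356000 tc_eq 3911680 2048 ck_1910 b (by omega) (by omega)
  rcases Nat.lt_or_ge b 3915776 with g15 | g15
  · exact chkURangeF_spec C relF_hyp 1237356000 tc_eq 3913728 2048 ck_1911 b (by omega) (by omega)
  rcases Nat.lt_or_ge b 3917824 with g16 | g16
  · exact chkURangeF_spec C relF_hyp 1237356000 tc_eq 3915776 2048 ck_1912 b (by omega) (by omega)
  rcases Nat.lt_or_ge b 3919872 with g17 | g17
  · exact chkURangeF_spec C relF_hyp 1237356000 tc_eq 3917824 2048 ck_1913 b (by omega) (by omega)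
  rcases Nat.lt_or_ge b 3921920 with g18 | g18
  · exact chkURangeF_spec C relF_hyp 1237356000 tc_eq 3919872 2048 ck_1914 b (by omega) (by omega)
  rcases Nat.lt_or_ge b 3923968 with g19 | g19
  · exact chkURangeF_spec C relF_hyp 1237356000 tc_eq 3921920 2048 ck_1915 b (by omega) (by omega)
  rcases Nat.lt_or_ge b 3926016 with g20 | g20
  · exact chkURangeF_spec C relF_hyp 1237356000 tc_eq 3923968 2048 ck_1916 b (by omega) (by omega)
  rcases Nat.lt_or_ge b 3928064 with g21 | g21
  · exact chkURangeF_spec C relF_hyp 1237356000 tc_eq 3926016 2048 ck_1917 b (by omega) (by omega)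
  rcases Nat.lt_or_ge b 3930112 with g22 | g22
  · exact chkURangeF_spec C relF_hyp 1237356000 tc_eq 3928064 2048 ck_1918 b (by omega) (by omega)
  exact chkURangeF_spec C relF_hyp 1237356000 tc_eq 3930112 2048 ck_1919 b (by omega) (by omega)
end Cfsg.Agent.Lib.Helper2.HNMult.P5
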