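import Cfsg.Agent.Lib.Helper2.HNMult.P5.Cert
set_option autoImplicit false
set_option maxRecDepth 1000000
set_option Elab.async false
namespace Cfsg.Agent.Lib.Helper2.HNMult.P5
open Cfsg.Agent.Lib.Helper4.Sparse Cfsg.Agent.Lib.Helper2.SparseF
theorem ck_192 : chkURangeF D C relF 796 1237356000 393216 2048 = true := by decide +kernel
theorem ck_193 : chkURangeF D C relF 796 1237356000 395264 2048 = true := by decide +kernel
theorem ck_194 : chkURangeF D C relF 796 1237356000 397312 2048 = true := by decide +kernel
theorem ck_195 : chkURangeF D C relF 796 1237356000 399360 2048 = true := by decide +kernel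
theorem ck_196 : chkURangeF D C relF 796 1237356000 401408 2048 = true := by decide +kernel
theorem ck_197 : chkURangeF D C relF 796 1237356000 403456 2048 = true := by decide +kernel
theorem ck_198 : chkURangeF D C relF 796 1237356000 405504 2048 = true := by decide +kernel
theorem ck_199 : chkURangeF D C relF 796 1237356000 407552 2048 = true := by decide +kernel
theorem ck_200 : chkURangeF D C relF 796 1237356000 409600 2048 = true := by decide +kernel
theorem ck_201 : chkURangeF D C relF 796 1237356000 411648 2048 = true := by decide +kernel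
theorem ck_202 : chkURangeF D C relF 796 1237356000 413696 2048 = true := by decide +kernel
theorem ck_203 : chkURangeF D C relF 796 1237356000 415744 2048 = true := by decide +kernel
theorem ck_204 : chkURangeF D C relF 796 1237356000 417792 2048 = true := by decide +kernel
theorem ck_205 : chkURangeF D C relF 796 1237356000 419840 2048 = true := by decide +kernel
theorem ck_206 : chkURangeF D C relF 796 1237356000 421888 2048 = true := by decide +kernel
theorem ck_207 : chkURangeF D C relF 796 1237356000 423936 2048 = true := by decide +kernel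
theorem ck_208 : chkURangeF D C relF 796 1237356000 425984 2048 = true := by decide +kernel
theorem ck_209 : chkURangeF D C relF 796 1237356000 428032 2048 = true := by decide +kernel
theorem ck_210 : chkURangeF D C relF 796 1237356000 430080 2048 = true := by decide +kernel
theorem ck_211 : chkURangeF D C relF 796 1237356000 432128 2048 = true := by decide +kernel
theorem ck_212 : chkURangeF D C relF 796 1237356000 434176 2048 = true := by decide +kernel
theorem ck_213 : chkURangeF D C relF 796 1237356000 436224 2048 = true := by decide +kernel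
theorem ck_214 : chkURangeF D C relF 796 1237356000 438272 2048 = true := by decide +kernel
theorem ck_215 : chkURangeF D C relF 796 1237356000 440320 2048 = true := by decide +kernel
theorem chkU_8 (b : ℕ) (h1 : 393216 ≤ b) (h2 : b < 442368) : chkU D C b = true := by
  rcases Nat.lt_or_ge b 395264 with g0 | g0
  · exact chkURangeF_spec C relF_hyp 1237356000 tc_eq 393216 2048 ck_192 b (by omega) (by omega)
  rcases Nat.lt_or_ge b 397312 with g1 | g1
  · exact chkURangeF_spec C relF_hyp 1237356000 tc_eq 395264 2048 ck_193 b (by omega) (by omega)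
  rcases Nat.lt_or_ge b 399360 with g2 | g2
  · exact chkURangeF_spec C relF_hyp 1237356000 tc_eq 397312 2048 ck_194 b (by omega) (by omega)
  rcases Nat.lt_or_ge b 401408 with g3 | g3
  · exact chkURangeF_spec C relF_hyp 1237356000 tc_eq 399360 2048 ck_195 b (by omega) (by omega)
  rcases Nat.lt_or_ge b 403456 with g4 | g4
  · exact chkURangeF_spec C relF_hyp 1237356000 tc_eq 401408 2048 ck_196 b (by omega) (by omega)
  rcases Nat.lt_or_ge b 405504 with g5 | g5
  · exact chkURangeF_spec C relF_hyp 1237356000 tc_eq 403456 2048 ck_197 b (by omega) (by omega)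
  rcases Nat.lt_or_ge b 407552 with g6 | g6
  · exact chkURangeF_spec C relF_hyp 1237356000 tc_eq 405504 2048 ck_198 b (by omega) (by omega)
  rcases Nat.lt_or_ge b 409600 with g7 | g7
  · exact chkURangeF_spec C relF_hyp 1237356000 tc_eq 407552 2048 ck_199 b (by omega) (by omega)
  rcases Nat.lt_or_ge b 411648 with g8 | g8
  · exact chkURangeF_spec C relF_hyp 1237356000 tc_eq 409600 2048 ck_200 b (by omega) (by omega)
  rcases Nat.lt_or_ge b 413696 with g9 | g9
  · exact chkURangeF_spec C relF_hyp 1237356000 tc_eq 411648 2048 ck_201 b (by omega) (by omega)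
  rcases Nat.lt_or_ge b 415744 with g10 | g10
  · exact chkURangeF_spec C relF_hyp 1237356000 tc_eq 413696 2048 ck_202 b (by omega) (by omega)
  rcases Nat.lt_or_ge b 417792 with g11 | g11
  · exact chkURangeF_spec C relF_hyp 1237356000 tc_eq 415744 2048 ck_203 b (by omega) (by omega)
  rcases Nat.lt_or_ge b 419840 with g12 | g12
  · exact chkURangeF_spec C relF_hyp 1237356000 tc_eq 417792 2048 ck_204 b (by omega) (by omega)
  rcases Nat.lt_or_ge b 421888 with g13 | g13
  · exact chkURangeF_spec C relF_hyp 1237356000 tc_eq 419840 2048 ck_205 b (by omega) (by omega)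
  rcases Nat.lt_or_ge b 423936 with g14 | g14
  · exact chkURangeF_spec C relF_hyp 1237356000 tc_eq 421888 2048 ck_206 b (by omega) (by omega)
  rcases Nat.lt_or_ge b 425984 with g15 | g15
  · exact chkURangeF_spec C relF_hyp 1237356000 tc_eq 423936 2048 ck_207 b (by omega) (by omega)
  rcases Nat.lt_or_ge b 428032 with g16 | g16
  · exact chkURangeF_spec C relF_hyp 1237356000 tc_eq 425984 2048 ck_208 b (by omega) (by omega)
  rcases Nat.lt_or_ge b 430080 with g17 | g17
  · exact chkURangeF_spec C relF_hyp 1237356000 tc_eq 428032 2048 ck_209 b (by omega) (by omega)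
  rcases Nat.lt_or_ge b 432128 with g18 | g18
  · exact chkURangeF_spec C relF_hyp 1237356000 tc_eq 430080 2048 ck_210 b (by omega) (by omega)
  rcases Nat.lt_or_ge b 434176 with g19 | g19
  · exact chkURangeF_spec C relF_hyp 1237356000 tc_eq 432128 2048 ck_211 b (by omega) (by omega)
  rcases Nat.lt_or_ge b 436224 with g20 | g20
  · exact chkURangeF_spec C relF_hyp 1237356000 tc_eq 434176 2048 ck_212 b (by omega) (by omega)
  rcases Nat.lt_or_ge b 438272 with g21 | g21
  · exact chkURangeF_spec C relF_hyp 1237356000 tc_eq 436224 2048 ck_213 b (by omega) (by omega)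
  rcases Nat.lt_or_ge b 440320 with g22 | g22
  · exact chkURangeF_spec C relF_hyp 1237356000 tc_eq 438272 2048 ck_214 b (by omega) (by omega)
  exact chkURangeF_spec C relF_hyp 1237356000 tc_eq 440320 2048 ck_215 b (by omega) (by omega)
end Cfsg.Agent.Lib.Helper2.HNMult.P5
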