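import Cfsg.Agent.Lib.Helper2.HNMult.P5.Cert
set_option autoImplicit false
set_option maxRecDepth 1000000
set_option Elab.async false
namespace Cfsg.Agent.Lib.Helper2.HNMult.P5
open Cfsg.Agent.Lib.Helper4.Sparse Cfsg.Agent.Lib.Helper2.SparseF
theorem ck_2112 : chkURangeF D C relF 796 1237356000 4325376 2048 = true := by decide +kernel
theorem ck_2113 : chkURangeF D C relF 796 1237356000 4327424 2048 = true := by decide +kernel
theorem ck_2114 : chkURangeF D C relF 796 1237356000 4329472 2048 = true := by decide +kernel
theorem ck_2115 : chkURangeF D C relF 796 1237356000 4331520 2048 = true := by decide +kernel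
theorem ck_2116 : chkURangeF D C relF 796 1237356000 4333568 2048 = true := by decide +kernel
theorem ck_2117 : chkURangeF D C relF 796 1237356000 4335616 2048 = true := by decide +kernel
theorem ck_2118 : chkURangeF D C relF 796 1237356000 4337664 2048 = true := by decide +kernel
theorem ck_2119 : chkURangeF D C relF 796 1237356000 4339712 2048 = true := by decide +kernel
theorem ck_2120 : chkURangeF D C relF 796 1237356000 4341760 2048 = true := by decide +kernel
theorem ck_2121 : chkURangeF D C relF 796 1237356000 4343808 2048 = true := by decide +kernel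
theorem ck_2122 : chkURangeF D C relF 796 1237356000 4345856 2048 = true := by decide +kernel
theorem ck_2123 : chkURangeF D C relF 796 1237356000 4347904 2048 = true := by decide +kernel
theorem ck_2124 : chkURangeF D C relF 796 1237356000 4349952 2048 = true := by decide +kernel
theorem ck_2125 : chkURangeF D C relF 796 1237356000 4352000 2048 = true := by decide +kernel
theorem ck_2126 : chkURangeF D C relF 796 1237356000 4354048 2048 = true := by decide +kernel
theorem ck_2127 : chkURangeF D C relF 796 1237356000 4356096 2048 = true := by decide +kernel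
theorem ck_2128 : chkURangeF D C relF 796 1237356000 4358144 2048 = true := by decide +kernel
theorem ck_2129 : chkURangeF D C relF 796 1237356000 4360192 2048 = true := by decide +kernel
theorem ck_2130 : chkURangeF D C relF 796 1237356000 4362240 2048 = true := by decide +kernel
theorem ck_2131 : chkURangeF D C relF 796 1237356000 4364288 2048 = true := by decide +kernel
theorem ck_2132 : chkURangeF D C relF 796 1237356000 4366336 2048 = true := by decide +kernel
theorem ck_2133 : chkURangeF D C relF 796 1237356000 4368384 2048 = true := by decide +kernel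
theorem ck_2134 : chkURangeF D C relF 796 1237356000 4370432 2048 = true := by decide +kernel
theorem ck_2135 : chkURangeF D C relF 796 1237356000 4372480 2048 = true := by decide +kernel
theorem chkU_88 (b : ℕ) (h1 : 4325376 ≤ b) (h2 : b < 4374528) : chkU D C b = true := by
  rcases Nat.lt_or_ge b 4327424 with g0 | g0
  · exact chkURangeF_spec C relF_hyp 1237356000 tc_eq 4325376 2048 ck_2112 b (by omega) (by omega)
  rcases Nat.lt_or_ge b 4329472 with g1 | g1
  · exact chkURangeF_spec C relF_hyp 1237356000 tc_eq 4327424 2048 ck_2113 b (by omega) (by omega)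
  rcases Nat.lt_or_ge b 4331520 with g2 | g2
  · exact chkURangeF_spec C relF_hyp 1237356000 tc_eq 4329472 2048 ck_2114 b (by omega) (by omega)
  rcases Nat.lt_or_ge b 4333568 with g3 | g3
  · exact chkURangeF_spec C relF_hyp 1237356000 tc_eq 4331520 2048 ck_2115 b (by omega) (by omega)
  rcases Nat.lt_or_ge b 4335616 with g4 | g4
  · exact chkURangeF_spec C relF_hyp 1237356000 tc_eq 4333568 2048 ck_2116 b (by omega) (by omega)
  rcases Nat.lt_or_ge b 4337664 with g5 | g5
  · exact chkURangeF_spec C relF_hyp 1237356000 tc_eq 4335616 2048 ck_2117 b (by omega) (by omega)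
  rcases Nat.lt_or_ge b 4339712 with g6 | g6
  · exact chkURangeF_spec C relF_hyp 1237356000 tc_eq 4337664 2048 ck_2118 b (by omega) (by omega)
  rcases Nat.lt_or_ge b 4341760 with g7 | g7
  · exact chkURangeF_spec C relF_hyp 1237356000 tc_eq 4339712 2048 ck_2119 b (by omega) (by omega)
  rcases Nat.lt_or_ge b 4343808 with g8 | g8
  · exact chkURangeF_spec C relF_hyp 1237356000 tc_eq 4341760 2048 ck_2120 b (by omega) (by omega)
  rcases Nat.lt_or_ge b 4345856 with g9 | g9
  · exact chkURangeF_spec C relF_hyp 1237356000 tc_eq 4343808 2048 ck_2121 b (by omega) (by omega)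
  rcases Nat.lt_or_ge b 4347904 with g10 | g10
  · exact chkURangeF_spec C relF_hyp 1237356000 tc_eq 4345856 2048 ck_2122 b (by omega) (by omega)
  rcases Nat.lt_or_ge b 4349952 with g11 | g11
  · exact chkURangeF_spec C relF_hyp 1237356000 tc_eq 4347904 2048 ck_2123 b (by omega) (by omega)
  rcases Nat.lt_or_ge b 4352000 with g12 | g12
  · exact chkURangeF_spec C relF_hyp 1237356000 tc_eq 4349952 2048 ck_2124 b (by omega) (by omega)
  rcases Nat.lt_or_ge b 4354048 with g13 | g13
  · exact chkURangeF_spec C relF_hyp 1237356000 tc_eq 4352000 2048 ck_2125 b (by omega) (by omega)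
  rcases Nat.lt_or_ge b 4356096 with g14 | g14
  · exact chkURangeF_spec C relF_hyp 1237356000 tc_eq 4354048 2048 ck_2126 b (by omega) (by omega)
  rcases Nat.lt_or_ge b 4358144 with g15 | g15
  · exact chkURangeF_spec C relF_hyp 1237356000 tc_eq 4356096 2048 ck_2127 b (by omega) (by omega)
  rcases Nat.lt_or_ge b 4360192 with g16 | g16
  · exact chkURangeF_spec C relF_hyp 1237356000 tc_eq 4358144 2048 ck_2128 b (by omega) (by omega)
  rcases Nat.lt_or_ge b 4362240 with g17 | g17
  · exact chkURangeF_spec C relF_hyp 1237356000 tc_eq 4360192 2048 ck_2129 b (by omega) (by omega)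
  rcases Nat.lt_or_ge b 4364288 with g18 | g18
  · exact chkURangeF_spec C relF_hyp 1237356000 tc_eq 4362240 2048 ck_2130 b (by omega) (by omega)
  rcases Nat.lt_or_ge b 4366336 with g19 | g19
  · exact chkURangeF_spec C relF_hyp 1237356000 tc_eq 4364288 2048 ck_2131 b (by omega) (by omega)
  rcases Nat.lt_or_ge b 4368384 with g20 | g20
  · exact chkURangeF_spec C relF_hyp 1237356000 tc_eq 4366336 2048 ck_2132 b (by omega) (by omega)
  rcases Nat.lt_or_ge b 4370432 with g21 | g21
  · exact chkURangeF_spec C relF_hyp 1237356000 tc_eq 4368384 2048 ck_2133 b (by omega) (by omega)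
  rcases Nat.lt_or_ge b 4372480 with g22 | g22
  · exact chkURangeF_spec C relF_hyp 1237356000 tc_eq 4370432 2048 ck_2134 b (by omega) (by omega)
  exact chkURangeF_spec C relF_hyp 1237356000 tc_eq 4372480 2048 ck_2135 b (by omega) (by omega)
end Cfsg.Agent.Lib.Helper2.HNMult.P5
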