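import Cfsg.Agent.Lib.Helper2.HNMult.P5.Cert
set_option autoImplicit false
set_option maxRecDepth 1000000
set_option Elab.async false
namespace Cfsg.Agent.Lib.Helper2.HNMult.P5
open Cfsg.Agent.Lib.Helper4.Sparse Cfsg.Agent.Lib.Helper2.SparseF
theorem ck_2136 : chkURangeF D C relF 796 1237356000 4374528 2048 = true := by decide +kernel
theorem ck_2137 : chkURangeF D C relF 796 1237356000 4376576 2048 = true := by decide +kernel
theorem ck_2138 : chkURangeF D C relF 796 1237356000 4378624 2048 = true := by decide +kernel
theorem ck_2139 : chkURangeF D C relF 796 1237356000 4380672 2048 = true := by decide +kernel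
theorem ck_2140 : chkURangeF D C relF 796 1237356000 4382720 2048 = true := by decide +kernel
theorem ck_2141 : chkURangeF D C relF 796 1237356000 4384768 2048 = true := by decide +kernel
theorem ck_2142 : chkURangeF D C relF 796 1237356000 4386816 2048 = true := by decide +kernel
theorem ck_2143 : chkURangeF D C relF 796 1237356000 4388864 2048 = true := by decide +kernel
theorem ck_2144 : chkURangeF D C relF 796 1237356000 4390912 2048 = true := by decide +kernel
theorem ck_2145 : chkURangeF D C relF 796 1237356000 4392960 2048 = true := by decide +kernel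
theorem ck_2146 : chkURangeF D C relF 796 1237356000 4395008 2048 = true := by decide +kernel
theorem ck_2147 : chkURangeF D C relF 796 1237356000 4397056 2048 = true := by decide +kernel
theorem ck_2148 : chkURangeF D C relF 796 1237356000 4399104 2048 = true := by decide +kernel
theorem ck_2149 : chkURangeF D C relF 796 1237356000 4401152 2048 = true := by decide +kernel
theorem ck_2150 : chkURangeF D C relF 796 1237356000 4403200 2048 = true := by decide +kernel
theorem ck_2151 : chkURangeF D C relF 796 1237356000 4405248 2048 = true := by decide +kernel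
theorem ck_2152 : chkURangeF D C relF 796 1237356000 4407296 2048 = true := by decide +kernel
theorem ck_2153 : chkURangeF D C relF 796 1237356000 4409344 2048 = true := by decide +kernel
theorem ck_2154 : chkURangeF D C relF 796 1237356000 4411392 2048 = true := by decide +kernel
theorem ck_2155 : chkURangeF D C relF 796 1237356000 4413440 2048 = true := by decide +kernel
theorem ck_2156 : chkURangeF D C relF 796 1237356000 4415488 2048 = true := by decide +kernel
theorem ck_2157 : chkURangeF D C relF 796 1237356000 4417536 2048 = true := by decide +kernel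
theorem ck_2158 : chkURangeF D C relF 796 1237356000 4419584 2048 = true := by decide +kernel
theorem ck_2159 : chkURangeF D C relF 796 1237356000 4421632 2048 = true := by decide +kernel
theorem chkU_89 (b : ℕ) (h1 : 4374528 ≤ b) (h2 : b < 4423680) : chkU D C b = true := by
  rcases Nat.lt_or_ge b 4376576 with g0 | g0
  · exact chkURangeF_spec C relF_hyp 1237356000 tc_eq 4374528 2048 ck_2136 b (by omega) (by omega)
  rcases Nat.lt_or_ge b 4378624 with g1 | g1
  · exact chkURangeF_spec C relF_hyp 1237356000 tc_eq 4376576 2048 ck_2137 b (by omega) (by omega)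
  rcases Nat.lt_or_ge b 4380672 with g2 | g2
  · exact chkURangeF_spec C relF_hyp 1237356000 tc_eq 4378624 2048 ck_2138 b (by omega) (by omega)
  rcases Nat.lt_or_ge b 4382720 with g3 | g3
  · exact chkURangeF_spec C relF_hyp 1237356000 tc_eq 4380672 2048 ck_2139 b (by omega) (by omega)
  rcases Nat.lt_or_ge b 4384768 with g4 | g4
  · exact chkURangeF_spec C relF_hyp 1237356000 tc_eq 4382720 2048 ck_2140 b (by omega) (by omega)
  rcases Nat.lt_or_ge b 4386816 with g5 | g5
  · exact chkURangeF_spec C relF_hyp 1237356000 tc_eq 4384768 2048 ck_2141 b (by omega) (by omega)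
  rcases Nat.lt_or_ge b 4388864 with g6 | g6
  · exact chkURangeF_spec C relF_hyp 1237356000 tc_eq 4386816 2048 ck_2142 b (by omega) (by omega)
  rcases Nat.lt_or_ge b 4390912 with g7 | g7
  · exact chkURangeF_spec C relF_hyp 1237356000 tc_eq 4388864 2048 ck_2143 b (by omega) (by omega)
  rcases Nat.lt_or_ge b 4392960 with g8 | g8
  · exact chkURangeF_spec C relF_hyp 1237356000 tc_eq 4390912 2048 ck_2144 b (by omega) (by omega)
  rcases Nat.lt_or_ge b 4395008 with g9 | g9
  · exact chkURangeF_spec C relF_hyp 1237356000 tc_eq 4392960 2048 ck_2145 b (by omega) (by omega)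
  rcases Nat.lt_or_ge b 4397056 with g10 | g10
  · exact chkURangeF_spec C relF_hyp 1237356000 tc_eq 4395008 2048 ck_2146 b (by omega) (by omega)
  rcases Nat.lt_or_ge b 4399104 with g11 | g11
  · exact chkURangeF_spec C relF_hyp 1237356000 tc_eq 4397056 2048 ck_2147 b (by omega) (by omega)
  rcases Nat.lt_or_ge b 4401152 with g12 | g12
  · exact chkURangeF_spec C relF_hyp 1237356000 tc_eq 4399104 2048 ck_2148 b (by omega) (by omega)
  rcases Nat.lt_or_ge b 4403200 with g13 | g13
  · exact chkURangeF_spec C relF_hyp 1237356000 tc_eq 4401152 2048 ck_2149 b (by omega) (by omega)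
  rcases Nat.lt_or_ge b 4405248 with g14 | g14
  · exact chkURangeF_spec C relF_hyp 1237356000 tc_eq 4403200 2048 ck_2150 b (by omega) (by omega)
  rcases Nat.lt_or_ge b 4407296 with g15 | g15
  · exact chkURangeF_spec C relF_hyp 1237356000 tc_eq 4405248 2048 ck_2151 b (by omega) (by omega)
  rcases Nat.lt_or_ge b 4409344 with g16 | g16
  · exact chkURangeF_spec C relF_hyp 1237356000 tc_eq 4407296 2048 ck_2152 b (by omega) (by omega)
  rcases Nat.lt_or_ge b 4411392 with g17 | g17
  · exact chkURangeF_spec C relF_hyp 1237356000 tc_eq 4409344 2048 ck_2153 b (by omega) (by omega)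
  rcases Nat.lt_or_ge b 4413440 with g18 | g18
  · exact chkURangeF_spec C relF_hyp 1237356000 tc_eq 4411392 2048 ck_2154 b (by omega) (by omega)
  rcases Nat.lt_or_ge b 4415488 with g19 | g19
  · exact chkURangeF_spec C relF_hyp 1237356000 tc_eq 4413440 2048 ck_2155 b (by omega) (by omega)
  rcases Nat.lt_or_ge b 4417536 with g20 | g20
  · exact chkURangeF_spec C relF_hyp 1237356000 tc_eq 4415488 2048 ck_2156 b (by omega) (by omega)
  rcases Nat.lt_or_ge b 4419584 with g21 | g21
  · exact chkURangeF_spec C relF_hyp 1237356000 tc_eq 4417536 2048 ck_2157 b (by omega) (by omega)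
  rcases Nat.lt_or_ge b 4421632 with g22 | g22
  · exact chkURangeF_spec C relF_hyp 1237356000 tc_eq 4419584 2048 ck_2158 b (by omega) (by omega)
  exact chkURangeF_spec C relF_hyp 1237356000 tc_eq 4421632 2048 ck_2159 b (by omega) (by omega)
end Cfsg.Agent.Lib.Helper2.HNMult.P5
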