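import Cfsg.Agent.Lib.Helper2.HNMult.P5.Cert
set_option autoImplicit false
set_option maxRecDepth 1000000
set_option Elab.async false
namespace Cfsg.Agent.Lib.Helper2.HNMult.P5
open Cfsg.Agent.Lib.Helper4.Sparse Cfsg.Agent.Lib.Helper2.SparseF
theorem ck_2160 : chkURangeF D C relF 796 1237356000 4423680 2048 = true := by decide +kernel
theorem ck_2161 : chkURangeF D C relF 796 1237356000 4425728 2048 = true := by decide +kernel
theorem ck_2162 : chkURangeF D C relF 796 1237356000 4427776 2048 = true := by decide +kernel
theorem ck_2163 : chkURangeF D C relF 796 1237356000 4429824 2048 = true := by decide +kernel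
theorem ck_2164 : chkURangeF D C relF 796 1237356000 4431872 2048 = true := by decide +kernel
theorem ck_2165 : chkURangeF D C relF 796 1237356000 4433920 2048 = true := by decide +kernel
theorem ck_2166 : chkURangeF D C relF 796 1237356000 4435968 2048 = true := by decide +kernel
theorem ck_2167 : chkURangeF D C relF 796 1237356000 4438016 2048 = true := by decide +kernel
theorem ck_2168 : chkURangeF D C relF 796 1237356000 4440064 2048 = true := by decide +kernel
theorem ck_2169 : chkURangeF D C relF 796 1237356000 4442112 2048 = true := by decide +kernel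
theorem ck_2170 : chkURangeF D C relF 796 1237356000 4444160 2048 = true := by decide +kernel
theorem ck_2171 : chkURangeF D C relF 796 1237356000 4446208 2048 = true := by decide +kernel
theorem ck_2172 : chkURangeF D C relF 796 1237356000 4448256 2048 = true := by decide +kernel
theorem ck_2173 : chkURangeF D C relF 796 1237356000 4450304 2048 = true := by decide +kernel
theorem ck_2174 : chkURangeF D C relF 796 1237356000 4452352 2048 = true := by decide +kernel
theorem ck_2175 : chkURangeF D C relF 796 1237356000 4454400 2048 = true := by decide +kernel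
theorem ck_2176 : chkURangeF D C relF 796 1237356000 4456448 2048 = true := by decide +kernel
theorem ck_2177 : chkURangeF D C relF 796 1237356000 4458496 2048 = true := by decide +kernel
theorem ck_2178 : chkURangeF D C relF 796 1237356000 4460544 2048 = true := by decide +kernel
theorem ck_2179 : chkURangeF D C relF 796 1237356000 4462592 2048 = true := by decide +kernel
theorem ck_2180 : chkURangeF D C relF 796 1237356000 4464640 2048 = true := by decide +kernel
theorem ck_2181 : chkURangeF D C relF 796 1237356000 4466688 2048 = true := by decide +kernel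
theorem ck_2182 : chkURangeF D C relF 796 1237356000 4468736 2048 = true := by decide +kernel
theorem ck_2183 : chkURangeF D C relF 796 1237356000 4470784 2048 = true := by decide +kernel
theorem chkU_90 (b : ℕ) (h1 : 4423680 ≤ b) (h2 : b < 4472832) : chkU D C b = true := by
  rcases Nat.lt_or_ge b 4425728 with g0 | g0
  · exact chkURangeF_spec C relF_hyp 1237356000 tc_eq 4423680 2048 ck_2160 b (by omega) (by omega)
  rcases Nat.lt_or_ge b 4427776 with g1 | g1
  · exact chkURangeF_spec C relF_hyp 1237356000 tc_eq 4425728 2048 ck_2161 b (by omega) (by omega)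
  rcases Nat.lt_or_ge b 4429824 with g2 | g2
  · exact chkURangeF_spec C relF_hyp 1237356000 tc_eq 4427776 2048 ck_2162 b (by omega) (by omega)
  rcases Nat.lt_or_ge b 4431872 with g3 | g3
  · exact chkURangeF_spec C relF_hyp 1237356000 tc_eq 4429824 2048 ck_2163 b (by omega) (by omega)
  rcases Nat.lt_or_ge b 4433920 with g4 | g4
  · exact chkURangeF_spec C relF_hyp 1237356000 tc_eq 4431872 2048 ck_2164 b (by omega) (by omega)
  rcases Nat.lt_or_ge b 4435968 with g5 | g5
  · exact chkURangeF_spec C relF_hyp 1237356000 tc_eq 4433920 2048 ck_2165 b (by omega) (by omega)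
  rcases Nat.lt_or_ge b 4438016 with g6 | g6
  · exact chkURangeF_spec C relF_hyp 1237356000 tc_eq 4435968 2048 ck_2166 b (by omega) (by omega)
  rcases Nat.lt_or_ge b 4440064 with g7 | g7
  · exact chkURangeF_spec C relF_hyp 1237356000 tc_eq 4438016 2048 ck_2167 b (by omega) (by omega)
  rcases Nat.lt_or_ge b 4442112 with g8 | g8
  · exact chkURangeF_spec C relF_hyp 1237356000 tc_eq 4440064 2048 ck_2168 b (by omega) (by omega)
  rcases Nat.lt_or_ge b 4444160 with g9 | g9
  · exact chkURangeF_spec C relF_hyp 1237356000 tc_eq 4442112 2048 ck_2169 b (by omega) (by omega)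
  rcases Nat.lt_or_ge b 4446208 with g10 | g10
  · exact chkURangeF_spec C relF_hyp 1237356000 tc_eq 4444160 2048 ck_2170 b (by omega) (by omega)
  rcases Nat.lt_or_ge b 4448256 with g11 | g11
  · exact chkURangeF_spec C relF_hyp 1237356000 tc_eq 4446208 2048 ck_2171 b (by omega) (by omega)
  rcases Nat.lt_or_ge b 4450304 with g12 | g12
  · exact chkURangeF_spec C relF_hyp 1237356000 tc_eq 4448256 2048 ck_2172 b (by omega) (by omega)
  rcases Nat.lt_or_ge b 4452352 with g13 | g13
  · exact chkURangeF_spec C relF_hyp 1237356000 tc_eq 4450304 2048 ck_2173 b (by omega) (by omega)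
  rcases Nat.lt_or_ge b 4454400 with g14 | g14
  · exact chkURangeF_spec C relF_hyp 1237356000 tc_eq 4452352 2048 ck_2174 b (by omega) (by omega)
  rcases Nat.lt_or_ge b 4456448 with g15 | g15
  · exact chkURangeF_spec C relF_hyp 1237356000 tc_eq 4454400 2048 ck_2175 b (by omega) (by omega)
  rcases Nat.lt_or_ge b 4458496 with g16 | g16
  · exact chkURangeF_spec C relF_hyp 1237356000 tc_eq 4456448 2048 ck_2176 b (by omega) (by omega)
  rcases Nat.lt_or_ge b 4460544 with g17 | g17
  · exact chkURangeF_spec C relF_hyp 1237356000 tc_eq 4458496 2048 ck_2177 b (by omega) (by omega)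
  rcases Nat.lt_or_ge b 4462592 with g18 | g18
  · exact chkURangeF_spec C relF_hyp 1237356000 tc_eq 4460544 2048 ck_2178 b (by omega) (by omega)
  rcases Nat.lt_or_ge b 4464640 with g19 | g19
  · exact chkURangeF_spec C relF_hyp 1237356000 tc_eq 4462592 2048 ck_2179 b (by omega) (by omega)
  rcases Nat.lt_or_ge b 4466688 with g20 | g20
  · exact chkURangeF_spec C relF_hyp 1237356000 tc_eq 4464640 2048 ck_2180 b (by omega) (by omega)
  rcases Nat.lt_or_ge b 4468736 with g21 | g21
  · exact chkURangeF_spec C relF_hyp 1237356000 tc_eq 4466688 2048 ck_2181 b (by omega) (by omega)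
  rcases Nat.lt_or_ge b 4470784 with g22 | g22
  · exact chkURangeF_spec C relF_hyp 1237356000 tc_eq 4468736 2048 ck_2182 b (by omega) (by omega)
  exact chkURangeF_spec C relF_hyp 1237356000 tc_eq 4470784 2048 ck_2183 b (by omega) (by omega)
end Cfsg.Agent.Lib.Helper2.HNMult.P5
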