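import Cfsg.Agent.Lib.Helper2.HNMult.P5.Cert
set_option autoImplicit false
set_option maxRecDepth 1000000
set_option Elab.async false
namespace Cfsg.Agent.Lib.Helper2.HNMult.P5
open Cfsg.Agent.Lib.Helper4.Sparse Cfsg.Agent.Lib.Helper2.SparseF
theorem ck_2184 : chkURangeF D C relF 796 1237356000 4472832 2048 = true := by decide +kernel
theorem ck_2185 : chkURangeF D C relF 796 1237356000 4474880 2048 = true := by decide +kernel
theorem ck_2186 : chkURangeF D C relF 796 1237356000 4476928 2048 = true := by decide +kernel
theorem ck_2187 : chkURangeF D C relF 796 1237356000 4478976 2048 = true := by decide +kernel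
theorem ck_2188 : chkURangeF D C relF 796 1237356000 4481024 2048 = true := by decide +kernel
theorem ck_2189 : chkURangeF D C relF 796 1237356000 4483072 2048 = true := by decide +kernel
theorem ck_2190 : chkURangeF D C relF 796 1237356000 4485120 2048 = true := by decide +kernel
theorem ck_2191 : chkURangeF D C relF 796 1237356000 4487168 2048 = true := by decide +kernel
theorem ck_2192 : chkURangeF D C relF 796 1237356000 4489216 2048 = true := by decide +kernel
theorem ck_2193 : chkURangeF D C relF 796 1237356000 4491264 2048 = true := by decide +kernel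
theorem ck_2194 : chkURangeF D C relF 796 1237356000 4493312 2048 = true := by decide +kernel
theorem ck_2195 : chkURangeF D C relF 796 1237356000 4495360 2048 = true := by decide +kernel
theorem ck_2196 : chkURangeF D C relF 796 1237356000 4497408 2048 = true := by decide +kernel
theorem ck_2197 : chkURangeF D C relF 796 1237356000 4499456 2048 = true := by decide +kernel
theorem ck_2198 : chkURangeF D C relF 796 1237356000 4501504 2048 = true := by decide +kernel
theorem ck_2199 : chkURangeF D C relF 796 1237356000 4503552 2048 = true := by decide +kernel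
theorem ck_2200 : chkURangeF D C relF 796 1237356000 4505600 2048 = true := by decide +kernel
theorem ck_2201 : chkURangeF D C relF 796 1237356000 4507648 2048 = true := by decide +kernel
theorem ck_2202 : chkURangeF D C relF 796 1237356000 4509696 2048 = true := by decide +kernel
theorem ck_2203 : chkURangeF D C relF 796 1237356000 4511744 2048 = true := by decide +kernel
theorem ck_2204 : chkURangeF D C relF 796 1237356000 4513792 2048 = true := by decide +kernel
theorem ck_2205 : chkURangeF D C relF 796 1237356000 4515840 2048 = true := by decide +kernel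
theorem ck_2206 : chkURangeF D C relF 796 1237356000 4517888 2048 = true := by decide +kernel
theorem ck_2207 : chkURangeF D C relF 796 1237356000 4519936 2048 = true := by decide +kernel
theorem chkU_91 (b : ℕ) (h1 : 4472832 ≤ b) (h2 : b < 4521984) : chkU D C b = true := by
  rcases Nat.lt_or_ge b 4474880 with g0 | g0
  · exact chkURangeF_spec C relF_hyp 1237356000 tc_eq 4472832 2048 ck_2184 b (by omega) (by omega)
  rcases Nat.lt_or_ge b 4476928 with g1 | g1
  · exact chkURangeF_spec C relF_hyp 1237356000 tc_eq 4474880 2048 ck_2185 b (by omega) (by omega)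
  rcases Nat.lt_or_ge b 4478976 with g2 | g2
  · exact chkURangeF_spec C relF_hyp 1237356000 tc_eq 4476928 2048 ck_2186 b (by omega) (by omega)
  rcases Nat.lt_or_ge b 4481024 with g3 | g3
  · exact chkURangeF_spec C relF_hyp 1237356000 tc_eq 4478976 2048 ck_2187 b (by omega) (by omega)
  rcases Nat.lt_or_ge b 4483072 with g4 | g4
  · exact chkURangeF_spec C relF_hyp 1237356000 tc_eq 4481024 2048 ck_2188 b (by omega) (by omega)
  rcases Nat.lt_or_ge b 4485120 with g5 | g5
  · exact chkURangeF_spec C relF_hyp 1237356000 tc_eq 4483072 2048 ck_2189 b (by omega) (by omega)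
  rcases Nat.lt_or_ge b 4487168 with g6 | g6
  · exact chkURangeF_spec C relF_hyp 1237356000 tc_eq 4485120 2048 ck_2190 b (by omega) (by omega)
  rcases Nat.lt_or_ge b 4489216 with g7 | g7
  · exact chkURangeF_spec C relF_hyp 1237356000 tc_eq 4487168 2048 ck_2191 b (by omega) (by omega)
  rcases Nat.lt_or_ge b 4491264 with g8 | g8
  · exact chkURangeF_spec C relF_hyp 1237356000 tc_eq 4489216 2048 ck_2192 b (by omega) (by omega)
  rcases Nat.lt_or_ge b 4493312 with g9 | g9
  · exact chkURangeF_spec C relF_hyp 1237356000 tc_eq 4491264 2048 ck_2193 b (by omega) (by omega)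
  rcases Nat.lt_or_ge b 4495360 with g10 | g10
  · exact chkURangeF_spec C relF_hyp 1237356000 tc_eq 4493312 2048 ck_2194 b (by omega) (by omega)
  rcases Nat.lt_or_ge b 4497408 with g11 | g11
  · exact chkURangeF_spec C relF_hyp 1237356000 tc_eq 4495360 2048 ck_2195 b (by omega) (by omega)
  rcases Nat.lt_or_ge b 4499456 with g12 | g12
  · exact chkURangeF_spec C relF_hyp 1237356000 tc_eq 4497408 2048 ck_2196 b (by omega) (by omega)
  rcases Nat.lt_or_ge b 4501504 with g13 | g13
  · exact chkURangeF_spec C relF_hyp 1237356000 tc_eq 4499456 2048 ck_2197 b (by omega) (by omega)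
  rcases Nat.lt_or_ge b 4503552 with g14 | g14
  · exact chkURangeF_spec C relF_hyp 1237356000 tc_eq 4501504 2048 ck_2198 b (by omega) (by omega)
  rcases Nat.lt_or_ge b 4505600 with g15 | g15
  · exact chkURangeF_spec C relF_hyp 1237356000 tc_eq 4503552 2048 ck_2199 b (by omega) (by omega)
  rcases Nat.lt_or_ge b 4507648 with g16 | g16
  · exact chkURangeF_spec C relF_hyp 1237356000 tc_eq 4505600 2048 ck_2200 b (by omega) (by omega)
  rcases Nat.lt_or_ge b 4509696 with g17 | g17
  · exact chkURangeF_spec C relF_hyp 1237356000 tc_eq 4507648 2048 ck_2201 b (by omega) (by omega)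
  rcases Nat.lt_or_ge b 4511744 with g18 | g18
  · exact chkURangeF_spec C relF_hyp 1237356000 tc_eq 4509696 2048 ck_2202 b (by omega) (by omega)
  rcases Nat.lt_or_ge b 4513792 with g19 | g19
  · exact chkURangeF_spec C relF_hyp 1237356000 tc_eq 4511744 2048 ck_2203 b (by omega) (by omega)
  rcases Nat.lt_or_ge b 4515840 with g20 | g20
  · exact chkURangeF_spec C relF_hyp 1237356000 tc_eq 4513792 2048 ck_2204 b (by omega) (by omega)
  rcases Nat.lt_or_ge b 4517888 with g21 | g21
  · exact chkURangeF_spec C relF_hyp 1237356000 tc_eq 4515840 2048 ck_2205 b (by omega) (by omega)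
  rcases Nat.lt_or_ge b 4519936 with g22 | g22
  · exact chkURangeF_spec C relF_hyp 1237356000 tc_eq 4517888 2048 ck_2206 b (by omega) (by omega)
  exact chkURangeF_spec C relF_hyp 1237356000 tc_eq 4519936 2048 ck_2207 b (by omega) (by omega)
end Cfsg.Agent.Lib.Helper2.HNMult.P5
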