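import Cfsg.Agent.Lib.Helper2.HNMult.P5.Cert
set_option autoImplicit false
set_option maxRecDepth 1000000
set_option Elab.async false
namespace Cfsg.Agent.Lib.Helper2.HNMult.P5
open Cfsg.Agent.Lib.Helper4.Sparse Cfsg.Agent.Lib.Helper2.SparseF
theorem ck_2808 : chkURangeF D C relF 796 1237356000 5750784 2048 = true := by decide +kernel
theorem ck_2809 : chkURangeF D C relF 796 1237356000 5752832 2048 = true := by decide +kernel
theorem ck_2810 : chkURangeF D C relF 796 1237356000 5754880 2048 = true := by decide +kernel
theorem ck_2811 : chkURangeF D C relF 796 1237356000 5756928 2048 = true := by decide +kernel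
theorem ck_2812 : chkURangeF D C relF 796 1237356000 5758976 2048 = true := by decide +kernel
theorem ck_2813 : chkURangeF D C relF 796 1237356000 5761024 2048 = true := by decide +kernel
theorem ck_2814 : chkURangeF D C relF 796 1237356000 5763072 2048 = true := by decide +kernel
theorem ck_2815 : chkURangeF D C relF 796 1237356000 5765120 2048 = true := by decide +kernel
theorem ck_2816 : chkURangeF D C relF 796 1237356000 5767168 2048 = true := by decide +kernel
theorem ck_2817 : chkURangeF D C relF 796 1237356000 5769216 2048 = true := by decide +kernel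
theorem ck_2818 : chkURangeF D C relF 796 1237356000 5771264 2048 = true := by decide +kernel
theorem ck_2819 : chkURangeF D C relF 796 1237356000 5773312 2048 = true := by decide +kernel
theorem ck_2820 : chkURangeF D C relF 796 1237356000 5775360 2048 = true := by decide +kernel
theorem ck_2821 : chkURangeF D C relF 796 1237356000 5777408 2048 = true := by decide +kernel
theorem ck_2822 : chkURangeF D C relF 796 1237356000 5779456 2048 = true := by decide +kernel
theorem ck_2823 : chkURangeF D C relF 796 1237356000 5781504 2048 = true := by decide +kernel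
theorem ck_2824 : chkURangeF D C relF 796 1237356000 5783552 2048 = true := by decide +kernel
theorem ck_2825 : chkURangeF D C relF 796 1237356000 5785600 2048 = true := by decide +kernel
theorem ck_2826 : chkURangeF D C relF 796 1237356000 5787648 2048 = true := by decide +kernel
theorem ck_2827 : chkURangeF D C relF 796 1237356000 5789696 2048 = true := by decide +kernel
theorem ck_2828 : chkURangeF D C relF 796 1237356000 5791744 2048 = true := by decide +kernel
theorem ck_2829 : chkURangeF D C relF 796 1237356000 5793792 2048 = true := by decide +kernel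
theorem ck_2830 : chkURangeF D C relF 796 1237356000 5795840 2048 = true := by decide +kernel
theorem ck_2831 : chkURangeF D C relF 796 1237356000 5797888 2048 = true := by decide +kernel
theorem chkU_117 (b : ℕ) (h1 : 5750784 ≤ b) (h2 : b < 5799936) : chkU D C b = true := by
  rcases Nat.lt_or_ge b 5752832 with g0 | g0
  · exact chkURangeF_spec C relF_hyp 1237356000 tc_eq 5750784 2048 ck_2808 b (by omega) (by omega)
  rcases Nat.lt_or_ge b 5754880 with g1 | g1
  · exact chkURangeF_spec C relF_hyp 1237356000 tc_eq 5752832 2048 ck_2809 b (by omega) (by omega)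
  rcases Nat.lt_or_ge b 5756928 with g2 | g2
  · exact chkURangeF_spec C relF_hyp 1237356000 tc_eq 5754880 2048 ck_2810 b (by omega) (by omega)
  rcases Nat.lt_or_ge b 5758976 with g3 | g3
  · exact chkURangeF_spec C relF_hyp 1237356000 tc_eq 5756928 2048 ck_2811 b (by omega) (by omega)
  rcases Nat.lt_or_ge b 5761024 with g4 | g4
  · exact chkURangeF_spec C relF_hyp 1237356000 tc_eq 5758976 2048 ck_2812 b (by omega) (by omega)
  rcases Nat.lt_or_ge b 5763072 with g5 | g5
  · exact chkURangeF_spec C relF_hyp 1237356000 tc_eq 5761024 2048 ck_2813 b (by omega) (by omega)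
  rcases Nat.lt_or_ge b 5765120 with g6 | g6
  · exact chkURangeF_spec C relF_hyp 1237356000 tc_eq 5763072 2048 ck_2814 b (by omega) (by omega)
  rcases Nat.lt_or_ge b 5767168 with g7 | g7
  · exact chkURangeF_spec C relF_hyp 1237356000 tc_eq 5765120 2048 ck_2815 b (by omega) (by omega)
  rcases Nat.lt_or_ge b 5769216 with g8 | g8
  · exact chkURangeF_spec C relF_hyp 1237356000 tc_eq 5767168 2048 ck_2816 b (by omega) (by omega)
  rcases Nat.lt_or_ge b 5771264 with g9 | g9
  · exact chkURangeF_spec C relF_hyp 1237356000 tc_eq 5769216 2048 ck_2817 b (by omega) (by omega)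
  rcases Nat.lt_or_ge b 5773312 with g10 | g10
  · exact chkURangeF_spec C relF_hyp 1237356000 tc_eq 5771264 2048 ck_2818 b (by omega) (by omega)
  rcases Nat.lt_or_ge b 5775360 with g11 | g11
  · exact chkURangeF_spec C relF_hyp 1237356000 tc_eq 5773312 2048 ck_2819 b (by omega) (by omega)
  rcases Nat.lt_or_ge b 5777408 with g12 | g12
  · exact chkURangeF_spec C relF_hyp 1237356000 tc_eq 5775360 2048 ck_2820 b (by omega) (by omega)
  rcases Nat.lt_or_ge b 5779456 with g13 | g13
  · exact chkURangeF_spec C relF_hyp 1237356000 tc_eq 5777408 2048 ck_2821 b (by omega) (by omega)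
  rcases Nat.lt_or_ge b 5781504 with g14 | g14
  · exact chkURangeF_spec C relF_hyp 1237356000 tc_eq 5779456 2048 ck_2822 b (by omega) (by omega)
  rcases Nat.lt_or_ge b 5783552 with g15 | g15
  · exact chkURangeF_spec C relF_hyp 1237356000 tc_eq 5781504 2048 ck_2823 b (by omega) (by omega)
  rcases Nat.lt_or_ge b 5785600 with g16 | g16
  · exact chkURangeF_spec C relF_hyp 1237356000 tc_eq 5783552 2048 ck_2824 b (by omega) (by omega)
  rcases Nat.lt_or_ge b 5787648 with g17 | g17
  · exact chkURangeF_spec C relF_hyp 1237356000 tc_eq 5785600 2048 ck_2825 b (by omega) (by omega)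
  rcases Nat.lt_or_ge b 5789696 with g18 | g18
  · exact chkURangeF_spec C relF_hyp 1237356000 tc_eq 5787648 2048 ck_2826 b (by omega) (by omega)
  rcases Nat.lt_or_ge b 5791744 with g19 | g19
  · exact chkURangeF_spec C relF_hyp 1237356000 tc_eq 5789696 2048 ck_2827 b (by omega) (by omega)
  rcases Nat.lt_or_ge b 5793792 with g20 | g20
  · exact chkURangeF_spec C relF_hyp 1237356000 tc_eq 5791744 2048 ck_2828 b (by omega) (by omega)
  rcases Nat.lt_or_ge b 5795840 with g21 | g21
  · exact chkURangeF_spec C relF_hyp 1237356000 tc_eq 5793792 2048 ck_2829 b (by omega) (by omega)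
  rcases Nat.lt_or_ge b 5797888 with g22 | g22
  · exact chkURangeF_spec C relF_hyp 1237356000 tc_eq 5795840 2048 ck_2830 b (by omega) (by omega)
  exact chkURangeF_spec C relF_hyp 1237356000 tc_eq 5797888 2048 ck_2831 b (by omega) (by omega)
end Cfsg.Agent.Lib.Helper2.HNMult.P5
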