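import Cfsg.Agent.Lib.Helper2.HNMult.P5.Cert
set_option autoImplicit false
set_option maxRecDepth 1000000
set_option Elab.async false
namespace Cfsg.Agent.Lib.Helper2.HNMult.P5
open Cfsg.Agent.Lib.Helper4.Sparse Cfsg.Agent.Lib.Helper2.SparseF
theorem ck_3072 : chkURangeF D C relF 796 1237356000 6291456 2048 = true := by decide +kernel
theorem ck_3073 : chkURangeF D C relF 796 1237356000 6293504 2048 = true := by decide +kernel
theorem ck_3074 : chkURangeF D C relF 796 1237356000 6295552 2048 = true := by decide +kernel
theorem ck_3075 : chkURangeF D C relF 796 1237356000 6297600 2048 = true := by decide +kernel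
theorem ck_3076 : chkURangeF D C relF 796 1237356000 6299648 2048 = true := by decide +kernel
theorem ck_3077 : chkURangeF D C relF 796 1237356000 6301696 2048 = true := by decide +kernel
theorem ck_3078 : chkURangeF D C relF 796 1237356000 6303744 2048 = true := by decide +kernel
theorem ck_3079 : chkURangeF D C relF 796 1237356000 6305792 2048 = true := by decide +kernel
theorem ck_3080 : chkURangeF D C relF 796 1237356000 6307840 2048 = true := by decide +kernel
theorem ck_3081 : chkURangeF D C relF 796 1237356000 6309888 2048 = true := by decide +kernel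
theorem ck_3082 : chkURangeF D C relF 796 1237356000 6311936 2048 = true := by decide +kernel
theorem ck_3083 : chkURangeF D C relF 796 1237356000 6313984 2048 = true := by decide +kernel
theorem ck_3084 : chkURangeF D C relF 796 1237356000 6316032 2048 = true := by decide +kernel
theorem ck_3085 : chkURangeF D C relF 796 1237356000 6318080 2048 = true := by decide +kernel
theorem ck_3086 : chkURangeF D C relF 796 1237356000 6320128 2048 = true := by decide +kernel
theorem ck_3087 : chkURangeF D C relF 796 1237356000 6322176 2048 = true := by decide +kernel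
theorem ck_3088 : chkURangeF D C relF 796 1237356000 6324224 2048 = true := by decide +kernel
theorem ck_3089 : chkURangeF D C relF 796 1237356000 6326272 2048 = true := by decide +kernel
theorem ck_3090 : chkURangeF D C relF 796 1237356000 6328320 2048 = true := by decide +kernel
theorem ck_3091 : chkURangeF D C relF 796 1237356000 6330368 2048 = true := by decide +kernel
theorem ck_3092 : chkURangeF D C relF 796 1237356000 6332416 2048 = true := by decide +kernel
theorem ck_3093 : chkURangeF D C relF 796 1237356000 6334464 2048 = true := by decide +kernel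
theorem ck_3094 : chkURangeF D C relF 796 1237356000 6336512 2048 = true := by decide +kernel
theorem ck_3095 : chkURangeF D C relF 796 1237356000 6338560 2048 = true := by decide +kernel
theorem chkU_128 (b : ℕ) (h1 : 6291456 ≤ b) (h2 : b < 6340608) : chkU D C b = true := by
  rcases Nat.lt_or_ge b 6293504 with g0 | g0
  · exact chkURangeF_spec C relF_hyp 1237356000 tc_eq 6291456 2048 ck_3072 b (by omega) (by omega)
  rcases Nat.lt_or_ge b 6295552 with g1 | g1
  · exact chkURangeF_spec C relF_hyp 1237356000 tc_eq 6293504 2048 ck_3073 b (by omega) (by omega)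
  rcases Nat.lt_or_ge b 6297600 with g2 | g2
  · exact chkURangeF_spec C relF_hyp 1237356000 tc_eq 6295552 2048 ck_3074 b (by omega) (by omega)
  rcases Nat.lt_or_ge b 6299648 with g3 | g3
  · exact chkURangeF_spec C relF_hyp 1237356000 tc_eq 6297600 2048 ck_3075 b (by omega) (by omega)
  rcases Nat.lt_or_ge b 6301696 with g4 | g4
  · exact chkURangeF_spec C relF_hyp 1237356000 tc_eq 6299648 2048 ck_3076 b (by omega) (by omega)
  rcases Nat.lt_or_ge b 6303744 with g5 | g5
  · exact chkURangeF_spec C relF_hyp 1237356000 tc_eq 6301696 2048 ck_3077 b (by omega) (by omega)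
  rcases Nat.lt_or_ge b 6305792 with g6 | g6
  · exact chkURangeF_spec C relF_hyp 1237356000 tc_eq 6303744 2048 ck_3078 b (by omega) (by omega)
  rcases Nat.lt_or_ge b 6307840 with g7 | g7
  · exact chkURangeF_spec C relF_hyp 1237356000 tc_eq 6305792 2048 ck_3079 b (by omega) (by omega)
  rcases Nat.lt_or_ge b 6309888 with g8 | g8
  · exact chkURangeF_spec C relF_hyp 1237356000 tc_eq 6307840 2048 ck_3080 b (by omega) (by omega)
  rcases Nat.lt_or_ge b 6311936 with g9 | g9
  · exact chkURangeF_spec C relF_hyp 1237356000 tc_eq 6309888 2048 ck_3081 b (by omega) (by omega)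
  rcases Nat.lt_or_ge b 6313984 with g10 | g10
  · exact chkURangeF_spec C relF_hyp 1237356000 tc_eq 6311936 2048 ck_3082 b (by omega) (by omega)
  rcases Nat.lt_or_ge b 6316032 with g11 | g11
  · exact chkURangeF_spec C relF_hyp 1237356000 tc_eq 6313984 2048 ck_3083 b (by omega) (by omega)
  rcases Nat.lt_or_ge b 6318080 with g12 | g12
  · exact chkURangeF_spec C relF_hyp 1237356000 tc_eq 6316032 2048 ck_3084 b (by omega) (by omega)
  rcases Nat.lt_or_ge b 6320128 with g13 | g13
  · exact chkURangeF_spec C relF_hyp 1237356000 tc_eq 6318080 2048 ck_3085 b (by omega) (by omega)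
  rcases Nat.lt_or_ge b 6322176 with g14 | g14
  · exact chkURangeF_spec C relF_hyp 1237356000 tc_eq 6320128 2048 ck_3086 b (by omega) (by omega)
  rcases Nat.lt_or_ge b 6324224 with g15 | g15
  · exact chkURangeF_spec C relF_hyp 1237356000 tc_eq 6322176 2048 ck_3087 b (by omega) (by omega)
  rcases Nat.lt_or_ge b 6326272 with g16 | g16
  · exact chkURangeF_spec C relF_hyp 1237356000 tc_eq 6324224 2048 ck_3088 b (by omega) (by omega)
  rcases Nat.lt_or_ge b 6328320 with g17 | g17
  · exact chkURangeF_spec C relF_hyp 1237356000 tc_eq 6326272 2048 ck_3089 b (by omega) (by omega)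
  rcases Nat.lt_or_ge b 6330368 with g18 | g18
  · exact chkURangeF_spec C relF_hyp 1237356000 tc_eq 6328320 2048 ck_3090 b (by omega) (by omega)
  rcases Nat.lt_or_ge b 6332416 with g19 | g19
  · exact chkURangeF_spec C relF_hyp 1237356000 tc_eq 6330368 2048 ck_3091 b (by omega) (by omega)
  rcases Nat.lt_or_ge b 6334464 with g20 | g20
  · exact chkURangeF_spec C relF_hyp 1237356000 tc_eq 6332416 2048 ck_3092 b (by omega) (by omega)
  rcases Nat.lt_or_ge b 6336512 with g21 | g21
  · exact chkURangeF_spec C relF_hyp 1237356000 tc_eq 6334464 2048 ck_3093 b (by omega) (by omega)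
  rcases Nat.lt_or_ge b 6338560 with g22 | g22
  · exact chkURangeF_spec C relF_hyp 1237356000 tc_eq 6336512 2048 ck_3094 b (by omega) (by omega)
  exact chkURangeF_spec C relF_hyp 1237356000 tc_eq 6338560 2048 ck_3095 b (by omega) (by omega)
end Cfsg.Agent.Lib.Helper2.HNMult.P5
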