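import Cfsg.Agent.Lib.Helper2.HNMult.P5.Cert
set_option autoImplicit false
set_option maxRecDepth 1000000
set_option Elab.async false
namespace Cfsg.Agent.Lib.Helper2.HNMult.P5
open Cfsg.Agent.Lib.Helper4.Sparse Cfsg.Agent.Lib.Helper2.SparseF
theorem ck_3864 : chkURangeF D C relF 796 1237356000 7913472 2048 = true := by decide +kernel
theorem ck_3865 : chkURangeF D C relF 796 1237356000 7915520 2048 = true := by decide +kernel
theorem ck_3866 : chkURangeF D C relF 796 1237356000 7917568 2048 = true := by decide +kernel
theorem ck_3867 : chkURangeF D C relF 796 1237356000 7919616 2048 = true := by decide +kernel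
theorem ck_3868 : chkURangeF D C relF 796 1237356000 7921664 2048 = true := by decide +kernel
theorem ck_3869 : chkURangeF D C relF 796 1237356000 7923712 2048 = true := by decide +kernel
theorem ck_3870 : chkURangeF D C relF 796 1237356000 7925760 2048 = true := by decide +kernel
theorem ck_3871 : chkURangeF D C relF 796 1237356000 7927808 2048 = true := by decide +kernel
theorem ck_3872 : chkURangeF D C relF 796 1237356000 7929856 2048 = true := by decide +kernel
theorem ck_3873 : chkURangeF D C relF 796 1237356000 7931904 2048 = true := by decide +kernel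
theorem ck_3874 : chkURangeF D C relF 796 1237356000 7933952 2048 = true := by decide +kernel
theorem ck_3875 : chkURangeF D C relF 796 1237356000 7936000 2048 = true := by decide +kernel
theorem ck_3876 : chkURangeF D C relF 796 1237356000 7938048 2048 = true := by decide +kernel
theorem ck_3877 : chkURangeF D C relF 796 1237356000 7940096 2048 = true := by decide +kernel
theorem ck_3878 : chkURangeF D C relF 796 1237356000 7942144 2048 = true := by decide +kernel
theorem ck_3879 : chkURangeF D C relF 796 1237356000 7944192 2048 = true := by decide +kernel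
theorem ck_3880 : chkURangeF D C relF 796 1237356000 7946240 2048 = true := by decide +kernel
theorem ck_3881 : chkURangeF D C relF 796 1237356000 7948288 2048 = true := by decide +kernel
theorem ck_3882 : chkURangeF D C relF 796 1237356000 7950336 2048 = true := by decide +kernel
theorem ck_3883 : chkURangeF D C relF 796 1237356000 7952384 2048 = true := by decide +kernel
theorem ck_3884 : chkURangeF D C relF 796 1237356000 7954432 2048 = true := by decide +kernel
theorem ck_3885 : chkURangeF D C relF 796 1237356000 7956480 2048 = true := by decide +kernel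
theorem ck_3886 : chkURangeF D C relF 796 1237356000 7958528 2048 = true := by decide +kernel
theorem ck_3887 : chkURangeF D C relF 796 1237356000 7960576 2048 = true := by decide +kernel
theorem chkU_161 (b : ℕ) (h1 : 7913472 ≤ b) (h2 : b < 7962624) : chkU D C b = true := by
  rcases Nat.lt_or_ge b 7915520 with g0 | g0
  · exact chkURangeF_spec C relF_hyp 1237356000 tc_eq 7913472 2048 ck_3864 b (by omega) (by omega)
  rcases Nat.lt_or_ge b 7917568 with g1 | g1
  · exact chkURangeF_spec C relF_hyp 1237356000 tc_eq 7915520 2048 ck_3865 b (by omega) (by omega)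
  rcases Nat.lt_or_ge b 7919616 with g2 | g2
  · exact chkURangeF_spec C relF_hyp 1237356000 tc_eq 7917568 2048 ck_3866 b (by omega) (by omega)
  rcases Nat.lt_or_ge b 7921664 with g3 | g3
  · exact chkURangeF_spec C relF_hyp 1237356000 tc_eq 7919616 2048 ck_3867 b (by omega) (by omega)
  rcases Nat.lt_or_ge b 7923712 with g4 | g4
  · exact chkURangeF_spec C relF_hyp 1237356000 tc_eq 7921664 2048 ck_3868 b (by omega) (by omega)
  rcases Nat.lt_or_ge b 7925760 with g5 | g5
  · exact chkURangeF_spec C relF_hyp 1237356000 tc_eq 7923712 2048 ck_3869 b (by omega) (by omega)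
  rcases Nat.lt_or_ge b 7927808 with g6 | g6
  · exact chkURangeF_spec C relF_hyp 1237356000 tc_eq 7925760 2048 ck_3870 b (by omega) (by omega)
  rcases Nat.lt_or_ge b 7929856 with g7 | g7
  · exact chkURangeF_spec C relF_hyp 1237356000 tc_eq 7927808 2048 ck_3871 b (by omega) (by omega)
  rcases Nat.lt_or_ge b 7931904 with g8 | g8
  · exact chkURangeF_spec C relF_hyp 1237356000 tc_eq 7929856 2048 ck_3872 b (by omega) (by omega)
  rcases Nat.lt_or_ge b 7933952 with g9 | g9
  · exact chkURangeF_spec C relF_hyp 1237356000 tc_eq 7931904 2048 ck_3873 b (by omega) (by omega)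
  rcases Nat.lt_or_ge b 7936000 with g10 | g10
  · exact chkURangeF_spec C relF_hyp 1237356000 tc_eq 7933952 2048 ck_3874 b (by omega) (by omega)
  rcases Nat.lt_or_ge b 7938048 with g11 | g11
  · exact chkURangeF_spec C relF_hyp 1237356000 tc_eq 7936000 2048 ck_3875 b (by omega) (by omega)
  rcases Nat.lt_or_ge b 7940096 with g12 | g12
  · exact chkURangeF_spec C relF_hyp 1237356000 tc_eq 7938048 2048 ck_3876 b (by omega) (by omega)
  rcases Nat.lt_or_ge b 7942144 with g13 | g13
  · exact chkURangeF_spec C relF_hyp 1237356000 tc_eq 7940096 2048 ck_3877 b (by omega) (by omega)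
  rcases Nat.lt_or_ge b 7944192 with g14 | g14
  · exact chkURangeF_spec C relF_hyp 1237356000 tc_eq 7942144 2048 ck_3878 b (by omega) (by omega)
  rcases Nat.lt_or_ge b 7946240 with g15 | g15
  · exact chkURangeF_spec C relF_hyp 1237356000 tc_eq 7944192 2048 ck_3879 b (by omega) (by omega)
  rcases Nat.lt_or_ge b 7948288 with g16 | g16
  · exact chkURangeF_spec C relF_hyp 1237356000 tc_eq 7946240 2048 ck_3880 b (by omega) (by omega)
  rcases Nat.lt_or_ge b 7950336 with g17 | g17
  · exact chkURangeF_spec C relF_hyp 1237356000 tc_eq 7948288 2048 ck_3881 b (by omega) (by omega)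
  rcases Nat.lt_or_ge b 7952384 with g18 | g18
  · exact chkURangeF_spec C relF_hyp 1237356000 tc_eq 7950336 2048 ck_3882 b (by omega) (by omega)
  rcases Nat.lt_or_ge b 7954432 with g19 | g19
  · exact chkURangeF_spec C relF_hyp 1237356000 tc_eq 7952384 2048 ck_3883 b (by omega) (by omega)
  rcases Nat.lt_or_ge b 7956480 with g20 | g20
  · exact chkURangeF_spec C relF_hyp 1237356000 tc_eq 7954432 2048 ck_3884 b (by omega) (by omega)
  rcases Nat.lt_or_ge b 7958528 with g21 | g21
  · exact chkURangeF_spec C relF_hyp 1237356000 tc_eq 7956480 2048 ck_3885 b (by omega) (by omega)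
  rcases Nat.lt_or_ge b 7960576 with g22 | g22
  · exact chkURangeF_spec C relF_hyp 1237356000 tc_eq 7958528 2048 ck_3886 b (by omega) (by omega)
  exact chkURangeF_spec C relF_hyp 1237356000 tc_eq 7960576 2048 ck_3887 b (by omega) (by omega)
end Cfsg.Agent.Lib.Helper2.HNMult.P5
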