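import Cfsg.Agent.Lib.Helper2.HNMult.P5.Cert
set_option autoImplicit false
set_option maxRecDepth 1000000
set_option Elab.async false
namespace Cfsg.Agent.Lib.Helper2.HNMult.P5
open Cfsg.Agent.Lib.Helper4.Sparse Cfsg.Agent.Lib.Helper2.SparseF
theorem ck_4656 : chkURangeF D C relF 796 1237356000 9535488 2048 = true := by decide +kernel
theorem ck_4657 : chkURangeF D C relF 796 1237356000 9537536 2048 = true := by decide +kernel
theorem ck_4658 : chkURangeF D C relF 796 1237356000 9539584 2048 = true := by decide +kernel
theorem ck_4659 : chkURangeF D C relF 796 1237356000 9541632 2048 = true := by decide +kernel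
theorem ck_4660 : chkURangeF D C relF 796 1237356000 9543680 2048 = true := by decide +kernel
theorem ck_4661 : chkURangeF D C relF 796 1237356000 9545728 2048 = true := by decide +kernel
theorem ck_4662 : chkURangeF D C relF 796 1237356000 9547776 2048 = true := by decide +kernel
theorem ck_4663 : chkURangeF D C relF 796 1237356000 9549824 2048 = true := by decide +kernel
theorem ck_4664 : chkURangeF D C relF 796 1237356000 9551872 2048 = true := by decide +kernel
theorem ck_4665 : chkURangeF D C relF 796 1237356000 9553920 2048 = true := by decide +kernel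
theorem ck_4666 : chkURangeF D C relF 796 1237356000 9555968 2048 = true := by decide +kernel
theorem ck_4667 : chkURangeF D C relF 796 1237356000 9558016 2048 = true := by decide +kernel
theorem ck_4668 : chkURangeF D C relF 796 1237356000 9560064 2048 = true := by decide +kernel
theorem ck_4669 : chkURangeF D C relF 796 1237356000 9562112 2048 = true := by decide +kernel
theorem ck_4670 : chkURangeF D C relF 796 1237356000 9564160 2048 = true := by decide +kernel
theorem ck_4671 : chkURangeF D C relF 796 1237356000 9566208 2048 = true := by decide +kernel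
theorem ck_4672 : chkURangeF D C relF 796 1237356000 9568256 2048 = true := by decide +kernel
theorem ck_4673 : chkURangeF D C relF 796 1237356000 9570304 2048 = true := by decide +kernel
theorem ck_4674 : chkURangeF D C relF 796 1237356000 9572352 2048 = true := by decide +kernel
theorem ck_4675 : chkURangeF D C relF 796 1237356000 9574400 2048 = true := by decide +kernel
theorem ck_4676 : chkURangeF D C relF 796 1237356000 9576448 2048 = true := by decide +kernel
theorem ck_4677 : chkURangeF D C relF 796 1237356000 9578496 2048 = true := by decide +kernel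
theorem ck_4678 : chkURangeF D C relF 796 1237356000 9580544 2048 = true := by decide +kernel
theorem ck_4679 : chkURangeF D C relF 796 1237356000 9582592 2048 = true := by decide +kernel
theorem chkU_194 (b : ℕ) (h1 : 9535488 ≤ b) (h2 : b < 9584640) : chkU D C b = true := by
  rcases Nat.lt_or_ge b 9537536 with g0 | g0
  · exact chkURangeF_spec C relF_hyp 1237356000 tc_eq 9535488 2048 ck_4656 b (by omega) (by omega)
  rcases Nat.lt_or_ge b 9539584 with g1 | g1
  · exact chkURangeF_spec C relF_hyp 1237356000 tc_eq 9537536 2048 ck_4657 b (by omega) (by omega)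
  rcases Nat.lt_or_ge b 9541632 with g2 | g2
  · exact chkURangeF_spec C relF_hyp 1237356000 tc_eq 9539584 2048 ck_4658 b (by omega) (by omega)
  rcases Nat.lt_or_ge b 9543680 with g3 | g3
  · exact chkURangeF_spec C relF_hyp 1237356000 tc_eq 9541632 2048 ck_4659 b (by omega) (by omega)
  rcases Nat.lt_or_ge b 9545728 with g4 | g4
  · exact chkURangeF_spec C relF_hyp 1237356000 tc_eq 9543680 2048 ck_4660 b (by omega) (by omega)
  rcases Nat.lt_or_ge b 9547776 with g5 | g5
  · exact chkURangeF_spec C relF_hyp 1237356000 tc_eq 9545728 2048 ck_4661 b (by omega) (by omega)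
  rcases Nat.lt_or_ge b 9549824 with g6 | g6
  · exact chkURangeF_spec C relF_hyp 1237356000 tc_eq 9547776 2048 ck_4662 b (by omega) (by omega)
  rcases Nat.lt_or_ge b 9551872 with g7 | g7
  · exact chkURangeF_spec C relF_hyp 1237356000 tc_eq 9549824 2048 ck_4663 b (by omega) (by omega)
  rcases Nat.lt_or_ge b 9553920 with g8 | g8
  · exact chkURangeF_spec C relF_hyp 1237356000 tc_eq 9551872 2048 ck_4664 b (by omega) (by omega)
  rcases Nat.lt_or_ge b 9555968 with g9 | g9
  · exact chkURangeF_spec C relF_hyp 1237356000 tc_eq 9553920 2048 ck_4665 b (by omega) (by omega)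
  rcases Nat.lt_or_ge b 9558016 with g10 | g10
  · exact chkURangeF_spec C relF_hyp 1237356000 tc_eq 9555968 2048 ck_4666 b (by omega) (by omega)
  rcases Nat.lt_or_ge b 9560064 with g11 | g11
  · exact chkURangeF_spec C relF_hyp 1237356000 tc_eq 9558016 2048 ck_4667 b (by omega) (by omega)
  rcases Nat.lt_or_ge b 9562112 with g12 | g12
  · exact chkURangeF_spec C relF_hyp 1237356000 tc_eq 9560064 2048 ck_4668 b (by omega) (by omega)
  rcases Nat.lt_or_ge b 9564160 with g13 | g13
  · exact chkURangeF_spec C relF_hyp 1237356000 tc_eq 9562112 2048 ck_4669 b (by omega) (by omega)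
  rcases Nat.lt_or_ge b 9566208 with g14 | g14
  · exact chkURangeF_spec C relF_hyp 1237356000 tc_eq 9564160 2048 ck_4670 b (by omega) (by omega)
  rcases Nat.lt_or_ge b 9568256 with g15 | g15
  · exact chkURangeF_spec C relF_hyp 1237356000 tc_eq 9566208 2048 ck_4671 b (by omega) (by omega)
  rcases Nat.lt_or_ge b 9570304 with g16 | g16
  · exact chkURangeF_spec C relF_hyp 1237356000 tc_eq 9568256 2048 ck_4672 b (by omega) (by omega)
  rcases Nat.lt_or_ge b 9572352 with g17 | g17
  · exact chkURangeF_spec C relF_hyp 1237356000 tc_eq 9570304 2048 ck_4673 b (by omega) (by omega)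
  rcases Nat.lt_or_ge b 9574400 with g18 | g18
  · exact chkURangeF_spec C relF_hyp 1237356000 tc_eq 9572352 2048 ck_4674 b (by omega) (by omega)
  rcases Nat.lt_or_ge b 9576448 with g19 | g19
  · exact chkURangeF_spec C relF_hyp 1237356000 tc_eq 9574400 2048 ck_4675 b (by omega) (by omega)
  rcases Nat.lt_or_ge b 9578496 with g20 | g20
  · exact chkURangeF_spec C relF_hyp 1237356000 tc_eq 9576448 2048 ck_4676 b (by omega) (by omega)
  rcases Nat.lt_or_ge b 9580544 with g21 | g21
  · exact chkURangeF_spec C relF_hyp 1237356000 tc_eq 9578496 2048 ck_4677 b (by omega) (by omega)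
  rcases Nat.lt_or_ge b 9582592 with g22 | g22
  · exact chkURangeF_spec C relF_hyp 1237356000 tc_eq 9580544 2048 ck_4678 b (by omega) (by omega)
  exact chkURangeF_spec C relF_hyp 1237356000 tc_eq 9582592 2048 ck_4679 b (by omega) (by omega)
end Cfsg.Agent.Lib.Helper2.HNMult.P5
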