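import Cfsg.Agent.Lib.Helper2.HNMult.P5.Cert
set_option autoImplicit false
set_option maxRecDepth 1000000
set_option Elab.async false
namespace Cfsg.Agent.Lib.Helper2.HNMult.P5
open Cfsg.Agent.Lib.Helper4.Sparse Cfsg.Agent.Lib.Helper2.SparseF
theorem ck_4920 : chkURangeF D C relF 796 1237356000 10076160 2048 = true := by decide +kernel
theorem ck_4921 : chkURangeF D C relF 796 1237356000 10078208 2048 = true := by decide +kernel
theorem ck_4922 : chkURangeF D C relF 796 1237356000 10080256 2048 = true := by decide +kernel
theorem ck_4923 : chkURangeF D C relF 796 1237356000 10082304 2048 = true := by decide +kernel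
theorem ck_4924 : chkURangeF D C relF 796 1237356000 10084352 2048 = true := by decide +kernel
theorem ck_4925 : chkURangeF D C relF 796 1237356000 10086400 2048 = true := by decide +kernel
theorem ck_4926 : chkURangeF D C relF 796 1237356000 10088448 2048 = true := by decide +kernel
theorem ck_4927 : chkURangeF D C relF 796 1237356000 10090496 2048 = true := by decide +kernel
theorem ck_4928 : chkURangeF D C relF 796 1237356000 10092544 2048 = true := by decide +kernel
theorem ck_4929 : chkURangeF D C relF 796 1237356000 10094592 2048 = true := by decide +kernel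
theorem ck_4930 : chkURangeF D C relF 796 1237356000 10096640 2048 = true := by decide +kernel
theorem ck_4931 : chkURangeF D C relF 796 1237356000 10098688 2048 = true := by decide +kernel
theorem ck_4932 : chkURangeF D C relF 796 1237356000 10100736 2048 = true := by decide +kernel
theorem ck_4933 : chkURangeF D C relF 796 1237356000 10102784 2048 = true := by decide +kernel
theorem ck_4934 : chkURangeF D C relF 796 1237356000 10104832 2048 = true := by decide +kernel
theorem ck_4935 : chkURangeF D C relF 796 1237356000 10106880 2048 = true := by decide +kernel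
theorem ck_4936 : chkURangeF D C relF 796 1237356000 10108928 2048 = true := by decide +kernel
theorem ck_4937 : chkURangeF D C relF 796 1237356000 10110976 2048 = true := by decide +kernel
theorem ck_4938 : chkURangeF D C relF 796 1237356000 10113024 2048 = true := by decide +kernel
theorem ck_4939 : chkURangeF D C relF 796 1237356000 10115072 2048 = true := by decide +kernel
theorem ck_4940 : chkURangeF D C relF 796 1237356000 10117120 2048 = true := by decide +kernel
theorem ck_4941 : chkURangeF D C relF 796 1237356000 10119168 2048 = true := by decide +kernel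
theorem ck_4942 : chkURangeF D C relF 796 1237356000 10121216 2048 = true := by decide +kernel
theorem ck_4943 : chkURangeF D C relF 796 1237356000 10123264 2048 = true := by decide +kernel
theorem chkU_205 (b : ℕ) (h1 : 10076160 ≤ b) (h2 : b < 10125312) : chkU D C b = true := by
  rcases Nat.lt_or_ge b 10078208 with g0 | g0
  · exact chkURangeF_spec C relF_hyp 1237356000 tc_eq 10076160 2048 ck_4920 b (by omega) (by omega)
  rcases Nat.lt_or_ge b 10080256 with g1 | g1
  · exact chkURangeF_spec C relF_hyp 1237356000 tc_eq 10078208 2048 ck_4921 b (by omega) (by omega)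
  rcases Nat.lt_or_ge b 10082304 with g2 | g2
  · exact chkURangeF_spec C relF_hyp 1237356000 tc_eq 10080256 2048 ck_4922 b (by omega) (by omega)
  rcases Nat.lt_or_ge b 10084352 with g3 | g3
  · exact chkURangeF_spec C relF_hyp 1237356000 tc_eq 10082304 2048 ck_4923 b (by omega) (by omega)
  rcases Nat.lt_or_ge b 10086400 with g4 | g4
  · exact chkURangeF_spec C relF_hyp 1237356000 tc_eq 10084352 2048 ck_4924 b (by omega) (by omega)
  rcases Nat.lt_or_ge b 10088448 with g5 | g5
  · exact chkURangeF_spec C relF_hyp 1237356000 tc_eq 10086400 2048 ck_4925 b (by omega) (by omega)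
  rcases Nat.lt_or_ge b 10090496 with g6 | g6
  · exact chkURangeF_spec C relF_hyp 1237356000 tc_eq 10088448 2048 ck_4926 b (by omega) (by omega)
  rcases Nat.lt_or_ge b 10092544 with g7 | g7
  · exact chkURangeF_spec C relF_hyp 1237356000 tc_eq 10090496 2048 ck_4927 b (by omega) (by omega)
  rcases Nat.lt_or_ge b 10094592 with g8 | g8
  · exact chkURangeF_spec C relF_hyp 1237356000 tc_eq 10092544 2048 ck_4928 b (by omega) (by omega)
  rcases Nat.lt_or_ge b 10096640 with g9 | g9
  · exact chkURangeF_spec C relF_hyp 1237356000 tc_eq 10094592 2048 ck_4929 b (by omega) (by omega)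
  rcases Nat.lt_or_ge b 10098688 with g10 | g10
  · exact chkURangeF_spec C relF_hyp 1237356000 tc_eq 10096640 2048 ck_4930 b (by omega) (by omega)
  rcases Nat.lt_or_ge b 10100736 with g11 | g11
  · exact chkURangeF_spec C relF_hyp 1237356000 tc_eq 10098688 2048 ck_4931 b (by omega) (by omega)
  rcases Nat.lt_or_ge b 10102784 with g12 | g12
  · exact chkURangeF_spec C relF_hyp 1237356000 tc_eq 10100736 2048 ck_4932 b (by omega) (by omega)
  rcases Nat.lt_or_ge b 10104832 with g13 | g13
  · exact chkURangeF_spec C relF_hyp 1237356000 tc_eq 10102784 2048 ck_4933 b (by omega) (by omega)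
  rcases Nat.lt_or_ge b 10106880 with g14 | g14
  · exact chkURangeF_spec C relF_hyp 1237356000 tc_eq 10104832 2048 ck_4934 b (by omega) (by omega)
  rcases Nat.lt_or_ge b 10108928 with g15 | g15
  · exact chkURangeF_spec C relF_hyp 1237356000 tc_eq 10106880 2048 ck_4935 b (by omega) (by omega)
  rcases Nat.lt_or_ge b 10110976 with g16 | g16
  · exact chkURangeF_spec C relF_hyp 1237356000 tc_eq 10108928 2048 ck_4936 b (by omega) (by omega)
  rcases Nat.lt_or_ge b 10113024 with g17 | g17
  · exact chkURangeF_spec C relF_hyp 1237356000 tc_eq 10110976 2048 ck_4937 b (by omega) (by omega)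
  rcases Nat.lt_or_ge b 10115072 with g18 | g18
  · exact chkURangeF_spec C relF_hyp 1237356000 tc_eq 10113024 2048 ck_4938 b (by omega) (by omega)
  rcases Nat.lt_or_ge b 10117120 with g19 | g19
  · exact chkURangeF_spec C relF_hyp 1237356000 tc_eq 10115072 2048 ck_4939 b (by omega) (by omega)
  rcases Nat.lt_or_ge b 10119168 with g20 | g20
  · exact chkURangeF_spec C relF_hyp 1237356000 tc_eq 10117120 2048 ck_4940 b (by omega) (by omega)
  rcases Nat.lt_or_ge b 10121216 with g21 | g21
  · exact chkURangeF_spec C relF_hyp 1237356000 tc_eq 10119168 2048 ck_4941 b (by omega) (by omega)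
  rcases Nat.lt_or_ge b 10123264 with g22 | g22
  · exact chkURangeF_spec C relF_hyp 1237356000 tc_eq 10121216 2048 ck_4942 b (by omega) (by omega)
  exact chkURangeF_spec C relF_hyp 1237356000 tc_eq 10123264 2048 ck_4943 b (by omega) (by omega)
end Cfsg.Agent.Lib.Helper2.HNMult.P5
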