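import Cfsg.Agent.Lib.Helper2.HNMult.P5.Cert
set_option autoImplicit false
set_option maxRecDepth 1000000
set_option Elab.async false
namespace Cfsg.Agent.Lib.Helper2.HNMult.P5
open Cfsg.Agent.Lib.Helper4.Sparse Cfsg.Agent.Lib.Helper2.SparseF
theorem ck_1704 : chkURangeF D C relF 796 1237356000 3489792 2048 = true := by decide +kernel
theorem ck_1705 : chkURangeF D C relF 796 1237356000 3491840 2048 = true := by decide +kernel
theorem ck_1706 : chkURangeF D C relF 796 1237356000 3493888 2048 = true := by decide +kernel
theorem ck_1707 : chkURangeF D C relF 796 1237356000 3495936 2048 = true := by decide +kernel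
theorem ck_1708 : chkURangeF D C relF 796 1237356000 3497984 2048 = true := by decide +kernel
theorem ck_1709 : chkURangeF D C relF 796 1237356000 3500032 2048 = true := by decide +kernel
theorem ck_1710 : chkURangeF D C relF 796 1237356000 3502080 2048 = true := by decide +kernel
theorem ck_1711 : chkURangeF D C relF 796 1237356000 3504128 2048 = true := by decide +kernel
theorem ck_1712 : chkURangeF D C relF 796 1237356000 3506176 2048 = true := by decide +kernel
theorem ck_1713 : chkURangeF D C relF 796 1237356000 3508224 2048 = true := by decide +kernel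
theorem ck_1714 : chkURangeF D C relF 796 1237356000 3510272 2048 = true := by decide +kernel
theorem ck_1715 : chkURangeF D C relF 796 1237356000 3512320 2048 = true := by decide +kernel
theorem ck_1716 : chkURangeF D C relF 796 1237356000 3514368 2048 = true := by decide +kernel
theorem ck_1717 : chkURangeF D C relF 796 1237356000 3516416 2048 = true := by decide +kernel
theorem ck_1718 : chkURangeF D C relF 796 1237356000 3518464 2048 = true := by decide +kernel
theorem ck_1719 : chkURangeF D C relF 796 1237356000 3520512 2048 = true := by decide +kernel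
theorem ck_1720 : chkURangeF D C relF 796 1237356000 3522560 2048 = true := by decide +kernel
theorem ck_1721 : chkURangeF D C relF 796 1237356000 3524608 2048 = true := by decide +kernel
theorem ck_1722 : chkURangeF D C relF 796 1237356000 3526656 2048 = true := by decide +kernel
theorem ck_1723 : chkURangeF D C relF 796 1237356000 3528704 2048 = true := by decide +kernel
theorem ck_1724 : chkURangeF D C relF 796 1237356000 3530752 2048 = true := by decide +kernel
theorem ck_1725 : chkURangeF D C relF 796 1237356000 3532800 2048 = true := by decide +kernel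
theorem ck_1726 : chkURangeF D C relF 796 1237356000 3534848 2048 = true := by decide +kernel
theorem ck_1727 : chkURangeF D C relF 796 1237356000 3536896 2048 = true := by decide +kernel
theorem chkU_71 (b : ℕ) (h1 : 3489792 ≤ b) (h2 : b < 3538944) : chkU D C b = true := by
  rcases Nat.lt_or_ge b 3491840 with g0 | g0
  · exact chkURangeF_spec C relF_hyp 1237356000 tc_eq 3489792 2048 ck_1704 b (by omega) (by omega)
  rcases Nat.lt_or_ge b 3493888 with g1 | g1
  · exact chkURangeF_spec C relF_hyp 1237356000 tc_eq 3491840 2048 ck_1705 b (by omega) (by omega)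
  rcases Nat.lt_or_ge b 3495936 with g2 | g2
  · exact chkURangeF_spec C relF_hyp 1237356000 tc_eq 3493888 2048 ck_1706 b (by omega) (by omega)
  rcases Nat.lt_or_ge b 3497984 with g3 | g3
  · exact chkURangeF_spec C relF_hyp 1237356000 tc_eq 3495936 2048 ck_1707 b (by omega) (by omega)
  rcases Nat.lt_or_ge b 3500032 with g4 | g4
  · exact chkURangeF_spec C relF_hyp 1237356000 tc_eq 3497984 2048 ck_1708 b (by omega) (by omega)
  rcases Nat.lt_or_ge b 3502080 with g5 | g5
  · exact chkURangeF_spec C relF_hyp 1237356000 tc_eq 3500032 2048 ck_1709 b (by omega) (by omega)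
  rcases Nat.lt_or_ge b 3504128 with g6 | g6
  · exact chkURangeF_spec C relF_hyp 1237356000 tc_eq 3502080 2048 ck_1710 b (by omega) (by omega)
  rcases Nat.lt_or_ge b 3506176 with g7 | g7
  · exact chkURangeF_spec C relF_hyp 1237356000 tc_eq 3504128 2048 ck_1711 b (by omega) (by omega)
  rcases Nat.lt_or_ge b 3508224 with g8 | g8
  · exact chkURangeF_spec C relF_hyp 1237356000 tc_eq 3506176 2048 ck_1712 b (by omega) (by omega)
  rcases Nat.lt_or_ge b 3510272 with g9 | g9
  · exact chkURangeF_spec C relF_hyp 1237356000 tc_eq 3508224 2048 ck_1713 b (by omega) (by omega)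
  rcases Nat.lt_or_ge b 3512320 with g10 | g10
  · exact chkURangeF_spec C relF_hyp 1237356000 tc_eq 3510272 2048 ck_1714 b (by omega) (by omega)
  rcases Nat.lt_or_ge b 3514368 with g11 | g11
  · exact chkURangeF_spec C relF_hyp 1237356000 tc_eq 3512320 2048 ck_1715 b (by omega) (by omega)
  rcases Nat.lt_or_ge b 3516416 with g12 | g12
  · exact chkURangeF_spec C relF_hyp 1237356000 tc_eq 3514368 2048 ck_1716 b (by omega) (by omega)
  rcases Nat.lt_or_ge b 3518464 with g13 | g13
  · exact chkURangeF_spec C relF_hyp 1237356000 tc_eq 3516416 2048 ck_1717 b (by omega) (by omega)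
  rcases Nat.lt_or_ge b 3520512 with g14 | g14
  · exact chkURangeF_spec C relF_hyp 1237356000 tc_eq 3518464 2048 ck_1718 b (by omega) (by omega)
  rcases Nat.lt_or_ge b 3522560 with g15 | g15
  · exact chkURangeF_spec C relF_hyp 1237356000 tc_eq 3520512 2048 ck_1719 b (by omega) (by omega)
  rcases Nat.lt_or_ge b 3524608 with g16 | g16
  · exact chkURangeF_spec C relF_hyp 1237356000 tc_eq 3522560 2048 ck_1720 b (by omega) (by omega)
  rcases Nat.lt_or_ge b 3526656 with g17 | g17
  · exact chkURangeF_spec C relF_hyp 1237356000 tc_eq 3524608 2048 ck_1721 b (by omega) (by omega)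
  rcases Nat.lt_or_ge b 3528704 with g18 | g18
  · exact chkURangeF_spec C relF_hyp 1237356000 tc_eq 3526656 2048 ck_1722 b (by omega) (by omega)
  rcases Nat.lt_or_ge b 3530752 with g19 | g19
  · exact chkURangeF_spec C relF_hyp 1237356000 tc_eq 3528704 2048 ck_1723 b (by omega) (by omega)
  rcases Nat.lt_or_ge b 3532800 with g20 | g20
  · exact chkURangeF_spec C relF_hyp 1237356000 tc_eq 3530752 2048 ck_1724 b (by omega) (by omega)
  rcases Nat.lt_or_ge b 3534848 with g21 | g21
  · exact chkURangeF_spec C relF_hyp 1237356000 tc_eq 3532800 2048 ck_1725 b (by omega) (by omega)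
  rcases Nat.lt_or_ge b 3536896 with g22 | g22
  · exact chkURangeF_spec C relF_hyp 1237356000 tc_eq 3534848 2048 ck_1726 b (by omega) (by omega)
  exact chkURangeF_spec C relF_hyp 1237356000 tc_eq 3536896 2048 ck_1727 b (by omega) (by omega)
end Cfsg.Agent.Lib.Helper2.HNMult.P5
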