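import Cfsg.Agent.Lib.Helper2.HNMult.P5.Cert
set_option autoImplicit false
set_option maxRecDepth 1000000
set_option Elab.async false
namespace Cfsg.Agent.Lib.Helper2.HNMult.P5
open Cfsg.Agent.Lib.Helper4.Sparse Cfsg.Agent.Lib.Helper2.SparseF
theorem ck_2280 : chkURangeF D C relF 796 1237356000 4669440 2048 = true := by decide +kernel
theorem ck_2281 : chkURangeF D C relF 796 1237356000 4671488 2048 = true := by decide +kernel
theorem ck_2282 : chkURangeF D C relF 796 1237356000 4673536 2048 = true := by decide +kernel
theorem ck_2283 : chkURangeF D C relF 796 1237356000 4675584 2048 = true := by decide +kernel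
theorem ck_2284 : chkURangeF D C relF 796 1237356000 4677632 2048 = true := by decide +kernel
theorem ck_2285 : chkURangeF D C relF 796 1237356000 4679680 2048 = true := by decide +kernel
theorem ck_2286 : chkURangeF D C relF 796 1237356000 4681728 2048 = true := by decide +kernel
theorem ck_2287 : chkURangeF D C relF 796 1237356000 4683776 2048 = true := by decide +kernel
theorem ck_2288 : chkURangeF D C relF 796 1237356000 4685824 2048 = true := by decide +kernel
theorem ck_2289 : chkURangeF D C relF 796 1237356000 4687872 2048 = true := by decide +kernel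
theorem ck_2290 : chkURangeF D C relF 796 1237356000 4689920 2048 = true := by decide +kernel
theorem ck_2291 : chkURangeF D C relF 796 1237356000 4691968 2048 = true := by decide +kernel
theorem ck_2292 : chkURangeF D C relF 796 1237356000 4694016 2048 = true := by decide +kernel
theorem ck_2293 : chkURangeF D C relF 796 1237356000 4696064 2048 = true := by decide +kernel
theorem ck_2294 : chkURangeF D C relF 796 1237356000 4698112 2048 = true := by decide +kernel
theorem ck_2295 : chkURangeF D C relF 796 1237356000 4700160 2048 = true := by decide +kernel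
theorem ck_2296 : chkURangeF D C relF 796 1237356000 4702208 2048 = true := by decide +kernel
theorem ck_2297 : chkURangeF D C relF 796 1237356000 4704256 2048 = true := by decide +kernel
theorem ck_2298 : chkURangeF D C relF 796 1237356000 4706304 2048 = true := by decide +kernel
theorem ck_2299 : chkURangeF D C relF 796 1237356000 4708352 2048 = true := by decide +kernel
theorem ck_2300 : chkURangeF D C relF 796 1237356000 4710400 2048 = true := by decide +kernel
theorem ck_2301 : chkURangeF D C relF 796 1237356000 4712448 2048 = true := by decide +kernel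
theorem ck_2302 : chkURangeF D C relF 796 1237356000 4714496 2048 = true := by decide +kernel
theorem ck_2303 : chkURangeF D C relF 796 1237356000 4716544 2048 = true := by decide +kernel
theorem chkU_95 (b : ℕ) (h1 : 4669440 ≤ b) (h2 : b < 4718592) : chkU D C b = true := by
  rcases Nat.lt_or_ge b 4671488 with g0 | g0
  · exact chkURangeF_spec C relF_hyp 1237356000 tc_eq 4669440 2048 ck_2280 b (by omega) (by omega)
  rcases Nat.lt_or_ge b 4673536 with g1 | g1
  · exact chkURangeF_spec C relF_hyp 1237356000 tc_eq 4671488 2048 ck_2281 b (by omega) (by omega)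
  rcases Nat.lt_or_ge b 4675584 with g2 | g2
  · exact chkURangeF_spec C relF_hyp 1237356000 tc_eq 4673536 2048 ck_2282 b (by omega) (by omega)
  rcases Nat.lt_or_ge b 4677632 with g3 | g3
  · exact chkURangeF_spec C relF_hyp 1237356000 tc_eq 4675584 2048 ck_2283 b (by omega) (by omega)
  rcases Nat.lt_or_ge b 4679680 with g4 | g4
  · exact chkURangeF_spec C relF_hyp 1237356000 tc_eq 4677632 2048 ck_2284 b (by omega) (by omega)
  rcases Nat.lt_or_ge b 4681728 with g5 | g5
  · exact chkURangeF_spec C relF_hyp 1237356000 tc_eq 4679680 2048 ck_2285 b (by omega) (by omega)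
  rcases Nat.lt_or_ge b 4683776 with g6 | g6
  · exact chkURangeF_spec C relF_hyp 1237356000 tc_eq 4681728 2048 ck_2286 b (by omega) (by omega)
  rcases Nat.lt_or_ge b 4685824 with g7 | g7
  · exact chkURangeF_spec C relF_hyp 1237356000 tc_eq 4683776 2048 ck_2287 b (by omega) (by omega)
  rcases Nat.lt_or_ge b 4687872 with g8 | g8
  · exact chkURangeF_spec C relF_hyp 1237356000 tc_eq 4685824 2048 ck_2288 b (by omega) (by omega)
  rcases Nat.lt_or_ge b 4689920 with g9 | g9
  · exact chkURangeF_spec C relF_hyp 1237356000 tc_eq 4687872 2048 ck_2289 b (by omega) (by omega)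
  rcases Nat.lt_or_ge b 4691968 with g10 | g10
  · exact chkURangeF_spec C relF_hyp 1237356000 tc_eq 4689920 2048 ck_2290 b (by omega) (by omega)
  rcases Nat.lt_or_ge b 4694016 with g11 | g11
  · exact chkURangeF_spec C relF_hyp 1237356000 tc_eq 4691968 2048 ck_2291 b (by omega) (by omega)
  rcases Nat.lt_or_ge b 4696064 with g12 | g12
  · exact chkURangeF_spec C relF_hyp 1237356000 tc_eq 4694016 2048 ck_2292 b (by omega) (by omega)
  rcases Nat.lt_or_ge b 4698112 with g13 | g13
  · exact chkURangeF_spec C relF_hyp 1237356000 tc_eq 4696064 2048 ck_2293 b (by omega) (by omega)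
  rcases Nat.lt_or_ge b 4700160 with g14 | g14
  · exact chkURangeF_spec C relF_hyp 1237356000 tc_eq 4698112 2048 ck_2294 b (by omega) (by omega)
  rcases Nat.lt_or_ge b 4702208 with g15 | g15
  · exact chkURangeF_spec C relF_hyp 1237356000 tc_eq 4700160 2048 ck_2295 b (by omega) (by omega)
  rcases Nat.lt_or_ge b 4704256 with g16 | g16
  · exact chkURangeF_spec C relF_hyp 1237356000 tc_eq 4702208 2048 ck_2296 b (by omega) (by omega)
  rcases Nat.lt_or_ge b 4706304 with g17 | g17
  · exact chkURangeF_spec C relF_hyp 1237356000 tc_eq 4704256 2048 ck_2297 b (by omega) (by omega)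
  rcases Nat.lt_or_ge b 4708352 with g18 | g18
  · exact chkURangeF_spec C relF_hyp 1237356000 tc_eq 4706304 2048 ck_2298 b (by omega) (by omega)
  rcases Nat.lt_or_ge b 4710400 with g19 | g19
  · exact chkURangeF_spec C relF_hyp 1237356000 tc_eq 4708352 2048 ck_2299 b (by omega) (by omega)
  rcases Nat.lt_or_ge b 4712448 with g20 | g20
  · exact chkURangeF_spec C relF_hyp 1237356000 tc_eq 4710400 2048 ck_2300 b (by omega) (by omega)
  rcases Nat.lt_or_ge b 4714496 with g21 | g21
  · exact chkURangeF_spec C relF_hyp 1237356000 tc_eq 4712448 2048 ck_2301 b (by omega) (by omega)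
  rcases Nat.lt_or_ge b 4716544 with g22 | g22
  · exact chkURangeF_spec C relF_hyp 1237356000 tc_eq 4714496 2048 ck_2302 b (by omega) (by omega)
  exact chkURangeF_spec C relF_hyp 1237356000 tc_eq 4716544 2048 ck_2303 b (by omega) (by omega)
end Cfsg.Agent.Lib.Helper2.HNMult.P5
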