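import Cfsg.Agent.Lib.Helper2.HNMult.P5.Cert
set_option autoImplicit false
set_option maxRecDepth 1000000
set_option Elab.async false
namespace Cfsg.Agent.Lib.Helper2.HNMult.P5
open Cfsg.Agent.Lib.Helper4.Sparse
theorem tr_122881 : chkTreeRange 7 piT parT 3 122881 8192 = true := by decide +kernel
theorem tr_131073 : chkTreeRange 7 piT parT 3 131073 8192 = true := by decide +kernel
theorem tr_139265 : chkTreeRange 7 piT parT 3 139265 8192 = true := by decide +kernel
theorem tr_147457 : chkTreeRange 7 piT parT 3 147457 8192 = true := by decide +kernel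
theorem tr_155649 : chkTreeRange 7 piT parT 3 155649 8192 = true := by decide +kernel
theorem tr_163841 : chkTreeRange 7 piT parT 3 163841 8192 = true := by decide +kernel
theorem tr_172033 : chkTreeRange 7 piT parT 3 172033 8192 = true := by decide +kernel
theorem tr_180225 : chkTreeRange 7 piT parT 3 180225 8192 = true := by decide +kernel
theorem tr_188417 : chkTreeRange 7 piT parT 3 188417 8192 = true := by decide +kernel
theorem tr_196609 : chkTreeRange 7 piT parT 3 196609 8192 = true := by decide +kernel
theorem tr_204801 : chkTreeRange 7 piT parT 3 204801 8192 = true := by decide +kernel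
theorem tr_212993 : chkTreeRange 7 piT parT 3 212993 8192 = true := by decide +kernel
theorem tr_221185 : chkTreeRange 7 piT parT 3 221185 8192 = true := by decide +kernel
theorem tr_229377 : chkTreeRange 7 piT parT 3 229377 8192 = true := by decide +kernel
theorem tr_237569 : chkTreeRange 7 piT parT 3 237569 8192 = true := by decide +kernel
theorem treeP1 (j : ℕ) (h1 : 122881 ≤ j) (h2 : j < 245761) : chkTreeAt 7 piT parT 3 j = true := by
  rcases Nat.lt_or_ge j 131073 with g0 | g0
  · exact chkTreeRange_spec 7 piT parT 3 122881 8192 tr_122881 j (by omega) (by omega)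
  rcases Nat.lt_or_ge j 139265 with g1 | g1
  · exact chkTreeRange_spec 7 piT parT 3 131073 8192 tr_131073 j (by omega) (by omega)
  rcases Nat.lt_or_ge j 147457 with g2 | g2
  · exact chkTreeRange_spec 7 piT parT 3 139265 8192 tr_139265 j (by omega) (by omega)
  rcases Nat.lt_or_ge j 155649 with g3 | g3
  · exact chkTreeRange_spec 7 piT parT 3 147457 8192 tr_147457 j (by omega) (by omega)
  rcases Nat.lt_or_ge j 163841 with g4 | g4
  · exact chkTreeRange_spec 7 piT parT 3 155649 8192 tr_155649 j (by omega) (by omega)
  rcases Nat.lt_or_ge j 172033 with g5 | g5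
  · exact chkTreeRange_spec 7 piT parT 3 163841 8192 tr_163841 j (by omega) (by omega)
  rcases Nat.lt_or_ge j 180225 with g6 | g6
  · exact chkTreeRange_spec 7 piT parT 3 172033 8192 tr_172033 j (by omega) (by omega)
  rcases Nat.lt_or_ge j 188417 with g7 | g7
  · exact chkTreeRange_spec 7 piT parT 3 180225 8192 tr_180225 j (by omega) (by omega)
  rcases Nat.lt_or_ge j 196609 with g8 | g8
  · exact chkTreeRange_spec 7 piT parT 3 188417 8192 tr_188417 j (by omega) (by omega)
  rcases Nat.lt_or_ge j 204801 with g9 | g9
  · exact chkTreeRange_spec 7 piT parT 3 196609 8192 tr_196609 j (by omega) (by omega)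
  rcases Nat.lt_or_ge j 212993 with g10 | g10
  · exact chkTreeRange_spec 7 piT parT 3 204801 8192 tr_204801 j (by omega) (by omega)
  rcases Nat.lt_or_ge j 221185 with g11 | g11
  · exact chkTreeRange_spec 7 piT parT 3 212993 8192 tr_212993 j (by omega) (by omega)
  rcases Nat.lt_or_ge j 229377 with g12 | g12
  · exact chkTreeRange_spec 7 piT parT 3 221185 8192 tr_221185 j (by omega) (by omega)
  rcases Nat.lt_or_ge j 237569 with g13 | g13
  · exact chkTreeRange_spec 7 piT parT 3 229377 8192 tr_229377 j (by omega) (by omega)
  exact chkTreeRange_spec 7 piT parT 3 237569 8192 tr_237569 j (by omega) (by omega)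
end Cfsg.Agent.Lib.Helper2.HNMult.P5
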