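import Cfsg.Agent.Lib.Helper2.HNMult.P5.Cert
set_option autoImplicit false
set_option maxRecDepth 1000000
set_option Elab.async false
namespace Cfsg.Agent.Lib.Helper2.HNMult.P5
open Cfsg.Agent.Lib.Helper4.Sparse
theorem tr_1351681 : chkTreeRange 7 piT parT 3 1351681 8192 = true := by decide +kernel
theorem tr_1359873 : chkTreeRange 7 piT parT 3 1359873 8192 = true := by decide +kernel
theorem tr_1368065 : chkTreeRange 7 piT parT 3 1368065 8192 = true := by decide +kernel
theorem tr_1376257 : chkTreeRange 7 piT parT 3 1376257 8192 = true := by decide +kernel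
theorem tr_1384449 : chkTreeRange 7 piT parT 3 1384449 8192 = true := by decide +kernel
theorem tr_1392641 : chkTreeRange 7 piT parT 3 1392641 8192 = true := by decide +kernel
theorem tr_1400833 : chkTreeRange 7 piT parT 3 1400833 8192 = true := by decide +kernel
theorem tr_1409025 : chkTreeRange 7 piT parT 3 1409025 8192 = true := by decide +kernel
theorem tr_1417217 : chkTreeRange 7 piT parT 3 1417217 8192 = true := by decide +kernel
theorem tr_1425409 : chkTreeRange 7 piT parT 3 1425409 8192 = true := by decide +kernel
theorem tr_1433601 : chkTreeRange 7 piT parT 3 1433601 8192 = true := by decide +kernel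
theorem tr_1441793 : chkTreeRange 7 piT parT 3 1441793 8192 = true := by decide +kernel
theorem tr_1449985 : chkTreeRange 7 piT parT 3 1449985 8192 = true := by decide +kernel
theorem tr_1458177 : chkTreeRange 7 piT parT 3 1458177 8192 = true := by decide +kernel
theorem tr_1466369 : chkTreeRange 7 piT parT 3 1466369 8192 = true := by decide +kernel
theorem treeP11 (j : ℕ) (h1 : 1351681 ≤ j) (h2 : j < 1474561) : chkTreeAt 7 piT parT 3 j = true := by
  rcases Nat.lt_or_ge j 1359873 with g0 | g0
  · exact chkTreeRange_spec 7 piT parT 3 1351681 8192 tr_1351681 j (by omega) (by omega)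
  rcases Nat.lt_or_ge j 1368065 with g1 | g1
  · exact chkTreeRange_spec 7 piT parT 3 1359873 8192 tr_1359873 j (by omega) (by omega)
  rcases Nat.lt_or_ge j 1376257 with g2 | g2
  · exact chkTreeRange_spec 7 piT parT 3 1368065 8192 tr_1368065 j (by omega) (by omega)
  rcases Nat.lt_or_ge j 1384449 with g3 | g3
  · exact chkTreeRange_spec 7 piT parT 3 1376257 8192 tr_1376257 j (by omega) (by omega)
  rcases Nat.lt_or_ge j 1392641 with g4 | g4
  · exact chkTreeRange_spec 7 piT parT 3 1384449 8192 tr_1384449 j (by omega) (by omega)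
  rcases Nat.lt_or_ge j 1400833 with g5 | g5
  · exact chkTreeRange_spec 7 piT parT 3 1392641 8192 tr_1392641 j (by omega) (by omega)
  rcases Nat.lt_or_ge j 1409025 with g6 | g6
  · exact chkTreeRange_spec 7 piT parT 3 1400833 8192 tr_1400833 j (by omega) (by omega)
  rcases Nat.lt_or_ge j 1417217 with g7 | g7
  · exact chkTreeRange_spec 7 piT parT 3 1409025 8192 tr_1409025 j (by omega) (by omega)
  rcases Nat.lt_or_ge j 1425409 with g8 | g8
  · exact chkTreeRange_spec 7 piT parT 3 1417217 8192 tr_1417217 j (by omega) (by omega)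
  rcases Nat.lt_or_ge j 1433601 with g9 | g9
  · exact chkTreeRange_spec 7 piT parT 3 1425409 8192 tr_1425409 j (by omega) (by omega)
  rcases Nat.lt_or_ge j 1441793 with g10 | g10
  · exact chkTreeRange_spec 7 piT parT 3 1433601 8192 tr_1433601 j (by omega) (by omega)
  rcases Nat.lt_or_ge j 1449985 with g11 | g11
  · exact chkTreeRange_spec 7 piT parT 3 1441793 8192 tr_1441793 j (by omega) (by omega)
  rcases Nat.lt_or_ge j 1458177 with g12 | g12
  · exact chkTreeRange_spec 7 piT parT 3 1449985 8192 tr_1449985 j (by omega) (by omega)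
  rcases Nat.lt_or_ge j 1466369 with g13 | g13
  · exact chkTreeRange_spec 7 piT parT 3 1458177 8192 tr_1458177 j (by omega) (by omega)
  exact chkTreeRange_spec 7 piT parT 3 1466369 8192 tr_1466369 j (by omega) (by omega)
end Cfsg.Agent.Lib.Helper2.HNMult.P5
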