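import Cfsg.Agent.Lib.Helper2.HNMult.P5.Cert
set_option autoImplicit false
set_option maxRecDepth 1000000
set_option Elab.async false
namespace Cfsg.Agent.Lib.Helper2.HNMult.P5
open Cfsg.Agent.Lib.Helper4.Sparse
theorem tr_245761 : chkTreeRange 7 piT parT 3 245761 8192 = true := by decide +kernel
theorem tr_253953 : chkTreeRange 7 piT parT 3 253953 8192 = true := by decide +kernel
theorem tr_262145 : chkTreeRange 7 piT parT 3 262145 8192 = true := by decide +kernel
theorem tr_270337 : chkTreeRange 7 piT parT 3 270337 8192 = true := by decide +kernel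
theorem tr_278529 : chkTreeRange 7 piT parT 3 278529 8192 = true := by decide +kernel
theorem tr_286721 : chkTreeRange 7 piT parT 3 286721 8192 = true := by decide +kernel
theorem tr_294913 : chkTreeRange 7 piT parT 3 294913 8192 = true := by decide +kernel
theorem tr_303105 : chkTreeRange 7 piT parT 3 303105 8192 = true := by decide +kernel
theorem tr_311297 : chkTreeRange 7 piT parT 3 311297 8192 = true := by decide +kernel
theorem tr_319489 : chkTreeRange 7 piT parT 3 319489 8192 = true := by decide +kernel
theorem tr_327681 : chkTreeRange 7 piT parT 3 327681 8192 = true := by decide +kernel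
theorem tr_335873 : chkTreeRange 7 piT parT 3 335873 8192 = true := by decide +kernel
theorem tr_344065 : chkTreeRange 7 piT parT 3 344065 8192 = true := by decide +kernel
theorem tr_352257 : chkTreeRange 7 piT parT 3 352257 8192 = true := by decide +kernel
theorem tr_360449 : chkTreeRange 7 piT parT 3 360449 8192 = true := by decide +kernel
theorem treeP2 (j : ℕ) (h1 : 245761 ≤ j) (h2 : j < 368641) : chkTreeAt 7 piT parT 3 j = true := by
  rcases Nat.lt_or_ge j 253953 with g0 | g0
  · exact chkTreeRange_spec 7 piT parT 3 245761 8192 tr_245761 j (by omega) (by omega)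
  rcases Nat.lt_or_ge j 262145 with g1 | g1
  · exact chkTreeRange_spec 7 piT parT 3 253953 8192 tr_253953 j (by omega) (by omega)
  rcases Nat.lt_or_ge j 270337 with g2 | g2
  · exact chkTreeRange_spec 7 piT parT 3 262145 8192 tr_262145 j (by omega) (by omega)
  rcases Nat.lt_or_ge j 278529 with g3 | g3
  · exact chkTreeRange_spec 7 piT parT 3 270337 8192 tr_270337 j (by omega) (by omega)
  rcases Nat.lt_or_ge j 286721 with g4 | g4
  · exact chkTreeRange_spec 7 piT parT 3 278529 8192 tr_278529 j (by omega) (by omega)
  rcases Nat.lt_or_ge j 294913 with g5 | g5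
  · exact chkTreeRange_spec 7 piT parT 3 286721 8192 tr_286721 j (by omega) (by omega)
  rcases Nat.lt_or_ge j 303105 with g6 | g6
  · exact chkTreeRange_spec 7 piT parT 3 294913 8192 tr_294913 j (by omega) (by omega)
  rcases Nat.lt_or_ge j 311297 with g7 | g7
  · exact chkTreeRange_spec 7 piT parT 3 303105 8192 tr_303105 j (by omega) (by omega)
  rcases Nat.lt_or_ge j 319489 with g8 | g8
  · exact chkTreeRange_spec 7 piT parT 3 311297 8192 tr_311297 j (by omega) (by omega)
  rcases Nat.lt_or_ge j 327681 with g9 | g9
  · exact chkTreeRange_spec 7 piT parT 3 319489 8192 tr_319489 j (by omega) (by omega)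
  rcases Nat.lt_or_ge j 335873 with g10 | g10
  · exact chkTreeRange_spec 7 piT parT 3 327681 8192 tr_327681 j (by omega) (by omega)
  rcases Nat.lt_or_ge j 344065 with g11 | g11
  · exact chkTreeRange_spec 7 piT parT 3 335873 8192 tr_335873 j (by omega) (by omega)
  rcases Nat.lt_or_ge j 352257 with g12 | g12
  · exact chkTreeRange_spec 7 piT parT 3 344065 8192 tr_344065 j (by omega) (by omega)
  rcases Nat.lt_or_ge j 360449 with g13 | g13
  · exact chkTreeRange_spec 7 piT parT 3 352257 8192 tr_352257 j (by omega) (by omega)
  exact chkTreeRange_spec 7 piT parT 3 360449 8192 tr_360449 j (by omega) (by omega)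
end Cfsg.Agent.Lib.Helper2.HNMult.P5
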