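import Cfsg.Agent.Lib.Helper2.HNMult.P5.Cert
set_option autoImplicit false
set_option maxRecDepth 1000000
set_option Elab.async false
namespace Cfsg.Agent.Lib.Helper2.HNMult.P5
open Cfsg.Agent.Lib.Helper4.Sparse
theorem tr_614401 : chkTreeRange 7 piT parT 3 614401 8192 = true := by decide +kernel
theorem tr_622593 : chkTreeRange 7 piT parT 3 622593 8192 = true := by decide +kernel
theorem tr_630785 : chkTreeRange 7 piT parT 3 630785 8192 = true := by decide +kernel
theorem tr_638977 : chkTreeRange 7 piT parT 3 638977 8192 = true := by decide +kernel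
theorem tr_647169 : chkTreeRange 7 piT parT 3 647169 8192 = true := by decide +kernel
theorem tr_655361 : chkTreeRange 7 piT parT 3 655361 8192 = true := by decide +kernel
theorem tr_663553 : chkTreeRange 7 piT parT 3 663553 8192 = true := by decide +kernel
theorem tr_671745 : chkTreeRange 7 piT parT 3 671745 8192 = true := by decide +kernel
theorem tr_679937 : chkTreeRange 7 piT parT 3 679937 8192 = true := by decide +kernel
theorem tr_688129 : chkTreeRange 7 piT parT 3 688129 8192 = true := by decide +kernel
theorem tr_696321 : chkTreeRange 7 piT parT 3 696321 8192 = true := by decide +kernel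
theorem tr_704513 : chkTreeRange 7 piT parT 3 704513 8192 = true := by decide +kernel
theorem tr_712705 : chkTreeRange 7 piT parT 3 712705 8192 = true := by decide +kernel
theorem tr_720897 : chkTreeRange 7 piT parT 3 720897 8192 = true := by decide +kernel
theorem tr_729089 : chkTreeRange 7 piT parT 3 729089 8192 = true := by decide +kernel
theorem treeP5 (j : ℕ) (h1 : 614401 ≤ j) (h2 : j < 737281) : chkTreeAt 7 piT parT 3 j = true := by
  rcases Nat.lt_or_ge j 622593 with g0 | g0
  · exact chkTreeRange_spec 7 piT parT 3 614401 8192 tr_614401 j (by omega) (by omega)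
  rcases Nat.lt_or_ge j 630785 with g1 | g1
  · exact chkTreeRange_spec 7 piT parT 3 622593 8192 tr_622593 j (by omega) (by omega)
  rcases Nat.lt_or_ge j 638977 with g2 | g2
  · exact chkTreeRange_spec 7 piT parT 3 630785 8192 tr_630785 j (by omega) (by omega)
  rcases Nat.lt_or_ge j 647169 with g3 | g3
  · exact chkTreeRange_spec 7 piT parT 3 638977 8192 tr_638977 j (by omega) (by omega)
  rcases Nat.lt_or_ge j 655361 with g4 | g4
  · exact chkTreeRange_spec 7 piT parT 3 647169 8192 tr_647169 j (by omega) (by omega)
  rcases Nat.lt_or_ge j 663553 with g5 | g5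
  · exact chkTreeRange_spec 7 piT parT 3 655361 8192 tr_655361 j (by omega) (by omega)
  rcases Nat.lt_or_ge j 671745 with g6 | g6
  · exact chkTreeRange_spec 7 piT parT 3 663553 8192 tr_663553 j (by omega) (by omega)
  rcases Nat.lt_or_ge j 679937 with g7 | g7
  · exact chkTreeRange_spec 7 piT parT 3 671745 8192 tr_671745 j (by omega) (by omega)
  rcases Nat.lt_or_ge j 688129 with g8 | g8
  · exact chkTreeRange_spec 7 piT parT 3 679937 8192 tr_679937 j (by omega) (by omega)
  rcases Nat.lt_or_ge j 696321 with g9 | g9
  · exact chkTreeRange_spec 7 piT parT 3 688129 8192 tr_688129 j (by omega) (by omega)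
  rcases Nat.lt_or_ge j 704513 with g10 | g10
  · exact chkTreeRange_spec 7 piT parT 3 696321 8192 tr_696321 j (by omega) (by omega)
  rcases Nat.lt_or_ge j 712705 with g11 | g11
  · exact chkTreeRange_spec 7 piT parT 3 704513 8192 tr_704513 j (by omega) (by omega)
  rcases Nat.lt_or_ge j 720897 with g12 | g12
  · exact chkTreeRange_spec 7 piT parT 3 712705 8192 tr_712705 j (by omega) (by omega)
  rcases Nat.lt_or_ge j 729089 with g13 | g13
  · exact chkTreeRange_spec 7 piT parT 3 720897 8192 tr_720897 j (by omega) (by omega)
  exact chkTreeRange_spec 7 piT parT 3 729089 8192 tr_729089 j (by omega) (by omega)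
end Cfsg.Agent.Lib.Helper2.HNMult.P5
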