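import Cfsg.Agent.Lib.Helper2.HNMult.P5.Cert
set_option autoImplicit false
set_option maxRecDepth 1000000
set_option Elab.async false
namespace Cfsg.Agent.Lib.Helper2.HNMult.P5
open Cfsg.Agent.Lib.Helper4.Sparse
theorem tr_983041 : chkTreeRange 7 piT parT 3 983041 8192 = true := by decide +kernel
theorem tr_991233 : chkTreeRange 7 piT parT 3 991233 8192 = true := by decide +kernel
theorem tr_999425 : chkTreeRange 7 piT parT 3 999425 8192 = true := by decide +kernel
theorem tr_1007617 : chkTreeRange 7 piT parT 3 1007617 8192 = true := by decide +kernel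
theorem tr_1015809 : chkTreeRange 7 piT parT 3 1015809 8192 = true := by decide +kernel
theorem tr_1024001 : chkTreeRange 7 piT parT 3 1024001 8192 = true := by decide +kernel
theorem tr_1032193 : chkTreeRange 7 piT parT 3 1032193 8192 = true := by decide +kernel
theorem tr_1040385 : chkTreeRange 7 piT parT 3 1040385 8192 = true := by decide +kernel
theorem tr_1048577 : chkTreeRange 7 piT parT 3 1048577 8192 = true := by decide +kernel
theorem tr_1056769 : chkTreeRange 7 piT parT 3 1056769 8192 = true := by decide +kernel
theorem tr_1064961 : chkTreeRange 7 piT parT 3 1064961 8192 = true := by decide +kernel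
theorem tr_1073153 : chkTreeRange 7 piT parT 3 1073153 8192 = true := by decide +kernel
theorem tr_1081345 : chkTreeRange 7 piT parT 3 1081345 8192 = true := by decide +kernel
theorem tr_1089537 : chkTreeRange 7 piT parT 3 1089537 8192 = true := by decide +kernel
theorem tr_1097729 : chkTreeRange 7 piT parT 3 1097729 8192 = true := by decide +kernel
theorem treeP8 (j : ℕ) (h1 : 983041 ≤ j) (h2 : j < 1105921) : chkTreeAt 7 piT parT 3 j = true := by
  rcases Nat.lt_or_ge j 991233 with g0 | g0
  · exact chkTreeRange_spec 7 piT parT 3 983041 8192 tr_983041 j (by omega) (by omega)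
  rcases Nat.lt_or_ge j 999425 with g1 | g1
  · exact chkTreeRange_spec 7 piT parT 3 991233 8192 tr_991233 j (by omega) (by omega)
  rcases Nat.lt_or_ge j 1007617 with g2 | g2
  · exact chkTreeRange_spec 7 piT parT 3 999425 8192 tr_999425 j (by omega) (by omega)
  rcases Nat.lt_or_ge j 1015809 with g3 | g3
  · exact chkTreeRange_spec 7 piT parT 3 1007617 8192 tr_1007617 j (by omega) (by omega)
  rcases Nat.lt_or_ge j 1024001 with g4 | g4
  · exact chkTreeRange_spec 7 piT parT 3 1015809 8192 tr_1015809 j (by omega) (by omega)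
  rcases Nat.lt_or_ge j 1032193 with g5 | g5
  · exact chkTreeRange_spec 7 piT parT 3 1024001 8192 tr_1024001 j (by omega) (by omega)
  rcases Nat.lt_or_ge j 1040385 with g6 | g6
  · exact chkTreeRange_spec 7 piT parT 3 1032193 8192 tr_1032193 j (by omega) (by omega)
  rcases Nat.lt_or_ge j 1048577 with g7 | g7
  · exact chkTreeRange_spec 7 piT parT 3 1040385 8192 tr_1040385 j (by omega) (by omega)
  rcases Nat.lt_or_ge j 1056769 with g8 | g8
  · exact chkTreeRange_spec 7 piT parT 3 1048577 8192 tr_1048577 j (by omega) (by omega)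
  rcases Nat.lt_or_ge j 1064961 with g9 | g9
  · exact chkTreeRange_spec 7 piT parT 3 1056769 8192 tr_1056769 j (by omega) (by omega)
  rcases Nat.lt_or_ge j 1073153 with g10 | g10
  · exact chkTreeRange_spec 7 piT parT 3 1064961 8192 tr_1064961 j (by omega) (by omega)
  rcases Nat.lt_or_ge j 1081345 with g11 | g11
  · exact chkTreeRange_spec 7 piT parT 3 1073153 8192 tr_1073153 j (by omega) (by omega)
  rcases Nat.lt_or_ge j 1089537 with g12 | g12
  · exact chkTreeRange_spec 7 piT parT 3 1081345 8192 tr_1081345 j (by omega) (by omega)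
  rcases Nat.lt_or_ge j 1097729 with g13 | g13
  · exact chkTreeRange_spec 7 piT parT 3 1089537 8192 tr_1089537 j (by omega) (by omega)
  exact chkTreeRange_spec 7 piT parT 3 1097729 8192 tr_1097729 j (by omega) (by omega)
end Cfsg.Agent.Lib.Helper2.HNMult.P5
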